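import Mathlib
import Cfsg.Agent.O7.Data

/-! Generated by tools/rec: a presentation of a Sylow 2-subgroup of the Weyl group of type D6, more subgroups -/

set_option autoImplicit false
set_option maxRecDepth 100000
set_option linter.unusedVariables false
set_option exponentiation.threshold 100000

namespace Cfsg.Agent.O7

open Cfsg.Agent.Spor Cfsg.Agent.Rec Cfsg.Agent.Yam

universe u

def rl1 : List (List ℕ) :=
  [[0, 0]]

noncomputable def u1_rels : LT :=
(.node (.leaf [])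
 (.leaf [nat_lit 0,nat_lit 0])
)
noncomputable def u1_hws : LT :=
(.leaf [])

noncomputable def u1_inv : ℕ → ℕ := getP (nat_lit 8) (nat_lit 255) (nat_lit 0)

noncomputable def u1_t : BT :=
(.node (.node (.leaf (nat_lit 0x9001))
 (.leaf (nat_lit 0x800000))
) (.leaf (nat_lit 0xff87fc))
)

noncomputable def u1_rules : LT :=
(.leaf [nat_lit 0,nat_lit 0,nat_lit 0,nat_lit 1])


noncomputable def u1_subs : LT :=
(.leaf [nat_lit 0,nat_lit 0,nat_lit 0,nat_lit 1])


noncomputable def u1 : TC :=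
  ⟨fun x c => Nat.shiftRight (BT.get u1_t x) (Nat.mul (nat_lit 13) c),
  (nat_lit 2), (nat_lit 3), (nat_lit 2047), (nat_lit 11), (nat_lit 3), (nat_lit 2044), (nat_lit 2), (nat_lit 2), (nat_lit 1), (nat_lit 0), (nat_lit 1), (nat_lit 2), u1_inv, u1_rules, u1_subs⟩

theorem u1_c1 : u1.rules.all (ruleOK u1.m u1.inv u1_rels) = true := by decide +kernel
theorem u1_c2 : u1.subs.all (subOK u1.m u1.inv u1_hws) = true := by decide +kernel
theorem u1_c3 : u1.base = true := by decide +kernel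

theorem u1_s0 : u1.slots (nat_lit 0) (nat_lit 2) = true := by decide +kernel

theorem u1_c4 : u1.Upto u1.N := ((TC.upto_zero u1).step _ u1_s0)
theorem u1_c5 : u1.UptoE u1.N := (TC.uptoE_n u1)
theorem u1_bound {G : Type*} [Group G] {g : ℕ → G} {H : Subgroup G} (hinv : ∀ x < 1, g x * g (u1_inv x) = 1)
    (hrels : ∀ i, evalW g (u1_rels.get i) = 1) (hH : ∀ x < 0, g x ∈ H) (hhws : ∀ i, evalW g (u1_hws.get i) ∈ H) :
    H.relIndex (genLt g 1) ≠ 0 ∧ H.relIndex (genLt g 1) ≤ 2 :=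
  TC.relIndex_le (T := u1) hinv hrels hH hhws u1_c1 u1_c2 u1_c3 u1_c4 u1_c5

theorem u1_bd : Bound.{u} rl1 0 1 2 := fun _ _ _ _ hs hH =>
  u1_bound (hs.hinv (by decide +kernel)) (hs.tree (by decide +kernel)) hH (leaf_nil_mem' _ _ (by decide +kernel))

theorem prs1 : Pres.{u} rl1 1 2 := pres_nil.step u1_bd (by decide +kernel)

def rl2 : List (List ℕ) :=
  [[0, 0],
   [1, 1],
   [1, 0, 1, 0]]

noncomputable def u2_rels : LT :=
(.node (.node (.leaf [])
 (.leaf [nat_lit 1,nat_lit 1])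
) (.node (.leaf [nat_lit 0,nat_lit 0])
 (.leaf [nat_lit 1,nat_lit 0,nat_lit 1,nat_lit 0])
))
noncomputable def u2_hws : LT :=
(.leaf [])

noncomputable def u2_inv : ℕ → ℕ := getP (nat_lit 8) (nat_lit 255) (nat_lit 0x100)

noncomputable def u2_t : BT :=
(.node (.node (.leaf (nat_lit 0x2037800))
 (.leaf (nat_lit 0x1ff07fc))
) (.node (.leaf (nat_lit 0x21005))
 (.leaf (nat_lit 0x1010000))
))

noncomputable def u2_rules : LT :=
(.leaf [nat_lit 3,nat_lit 2,nat_lit 1,nat_lit 0,nat_lit 1,nat_lit 0,nat_lit 1])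


noncomputable def u2_subs : LT :=
(.leaf [nat_lit 0,nat_lit 0,nat_lit 0,nat_lit 2])


noncomputable def u2 : TC :=
  ⟨fun x c => Nat.shiftRight (BT.get u2_t x) (Nat.mul (nat_lit 14) c),
  (nat_lit 2), (nat_lit 3), (nat_lit 2047), (nat_lit 11), (nat_lit 7), (nat_lit 2044), (nat_lit 2), (nat_lit 2), (nat_lit 2), (nat_lit 1), (nat_lit 2), (nat_lit 3), u2_inv, u2_rules, u2_subs⟩

theorem u2_c1 : u2.rules.all (ruleOK u2.m u2.inv u2_rels) = true := by decide +kernel
theorem u2_c2 : u2.subs.all (subOK u2.m u2.inv u2_hws) = true := by decide +kernel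
theorem u2_c3 : u2.base = true := by decide +kernel

theorem u2_s0 : u2.slots (nat_lit 0) (nat_lit 2) = true := by decide +kernel

theorem u2_c4 : u2.Upto u2.N := ((TC.upto_zero u2).step _ u2_s0)
theorem u2_c5 : u2.UptoE u2.N := (TC.uptoE_n u2)
theorem u2_bound {G : Type*} [Group G] {g : ℕ → G} {H : Subgroup G} (hinv : ∀ x < 2, g x * g (u2_inv x) = 1)
    (hrels : ∀ i, evalW g (u2_rels.get i) = 1) (hH : ∀ x < 1, g x ∈ H) (hhws : ∀ i, evalW g (u2_hws.get i) ∈ H) :
    H.relIndex (genLt g 2) ≠ 0 ∧ H.relIndex (genLt g 2) ≤ 2 :=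
  TC.relIndex_le (T := u2) hinv hrels hH hhws u2_c1 u2_c2 u2_c3 u2_c4 u2_c5

theorem u2_bd : Bound.{u} rl2 1 2 2 := fun _ _ _ _ hs hH =>
  u2_bound (hs.hinv (by decide +kernel)) (hs.tree (by decide +kernel)) hH (leaf_nil_mem' _ _ (by decide +kernel))

theorem prs2 : Pres.{u} rl2 2 4 := prs1.step u2_bd (by decide +kernel)

def rl3 : List (List ℕ) :=
  [[0, 0],
   [1, 1],
   [1, 0, 1, 0],
   [2, 2],
   [2, 0, 2, 0],
   [2, 1, 2, 1]]

noncomputable def u3_rels : LT :=
(.node (.node (.node (.leaf [])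
 (.leaf [nat_lit 1,nat_lit 0,nat_lit 1,nat_lit 0])
) (.node (.leaf [nat_lit 1,nat_lit 1])
 (.leaf [nat_lit 2,nat_lit 1,nat_lit 2,nat_lit 1])
)) (.node (.node (.leaf [nat_lit 0,nat_lit 0])
 (.leaf [nat_lit 2,nat_lit 0,nat_lit 2,nat_lit 0])
) (.leaf [nat_lit 2,nat_lit 2])
))
noncomputable def u3_hws : LT :=
(.leaf [])

noncomputable def u3_inv : ℕ → ℕ := getP (nat_lit 8) (nat_lit 255) (nat_lit 0x20100)

noncomputable def u3_t : BT :=
(.node (.node (.node (.leaf (nat_lit 0x408b800))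
 (.leaf (nat_lit 0x2040000))
) (.leaf (nat_lit 0x61009))
) (.node (.leaf (nat_lit 0x240ab804))
 (.leaf (nat_lit 0x3fe07fc))
))

noncomputable def u3_rules : LT :=
(.node (.leaf [nat_lit 5,nat_lit 2,nat_lit 1,nat_lit 0,nat_lit 2,nat_lit 0,nat_lit 2])
 (.leaf [nat_lit 6,nat_lit 2,nat_lit 1,nat_lit 1,nat_lit 2,nat_lit 1,nat_lit 2])
)

noncomputable def u3_subs : LT :=
(.leaf [nat_lit 0,nat_lit 0,nat_lit 0,nat_lit 3])


noncomputable def u3 : TC :=
  ⟨fun x c => Nat.shiftRight (BT.get u3_t x) (Nat.mul (nat_lit 15) c),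
  (nat_lit 2), (nat_lit 3), (nat_lit 2047), (nat_lit 11), (nat_lit 15), (nat_lit 2044), (nat_lit 2), (nat_lit 2), (nat_lit 3), (nat_lit 2), (nat_lit 3), (nat_lit 4), u3_inv, u3_rules, u3_subs⟩

theorem u3_c1 : u3.rules.all (ruleOK u3.m u3.inv u3_rels) = true := by decide +kernel
theorem u3_c2 : u3.subs.all (subOK u3.m u3.inv u3_hws) = true := by decide +kernel
theorem u3_c3 : u3.base = true := by decide +kernel

theorem u3_s0 : u3.slots (nat_lit 0) (nat_lit 2) = true := by decide +kernel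

theorem u3_c4 : u3.Upto u3.N := ((TC.upto_zero u3).step _ u3_s0)
theorem u3_c5 : u3.UptoE u3.N := (TC.uptoE_n u3)
theorem u3_bound {G : Type*} [Group G] {g : ℕ → G} {H : Subgroup G} (hinv : ∀ x < 3, g x * g (u3_inv x) = 1)
    (hrels : ∀ i, evalW g (u3_rels.get i) = 1) (hH : ∀ x < 2, g x ∈ H) (hhws : ∀ i, evalW g (u3_hws.get i) ∈ H) :
    H.relIndex (genLt g 3) ≠ 0 ∧ H.relIndex (genLt g 3) ≤ 2 :=
  TC.relIndex_le (T := u3) hinv hrels hH hhws u3_c1 u3_c2 u3_c3 u3_c4 u3_c5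

theorem u3_bd : Bound.{u} rl3 2 3 2 := fun _ _ _ _ hs hH =>
  u3_bound (hs.hinv (by decide +kernel)) (hs.tree (by decide +kernel)) hH (leaf_nil_mem' _ _ (by decide +kernel))

theorem prs3 : Pres.{u} rl3 3 8 := prs2.step u3_bd (by decide +kernel)

def rl4 : List (List ℕ) :=
  [[0, 0],
   [1, 1],
   [1, 0, 1, 0],
   [2, 2],
   [2, 0, 2, 0],
   [2, 1, 2, 1],
   [3, 3],
   [3, 0, 3, 0],
   [3, 1, 3, 1],
   [3, 2, 3, 2]]

noncomputable def u4_rels : LT :=
(.node (.node (.node (.node (.leaf [])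
 (.leaf [nat_lit 3,nat_lit 0,nat_lit 3,nat_lit 0])
) (.leaf [nat_lit 3,nat_lit 3])
) (.node (.node (.leaf [nat_lit 1,nat_lit 1])
 (.leaf [nat_lit 3,nat_lit 2,nat_lit 3,nat_lit 2])
) (.leaf [nat_lit 2,nat_lit 0,nat_lit 2,nat_lit 0])
)) (.node (.node (.node (.leaf [nat_lit 0,nat_lit 0])
 (.leaf [nat_lit 3,nat_lit 1,nat_lit 3,nat_lit 1])
) (.leaf [nat_lit 1,nat_lit 0,nat_lit 1,nat_lit 0])
) (.node (.leaf [nat_lit 2,nat_lit 2])
 (.leaf [nat_lit 2,nat_lit 1,nat_lit 2,nat_lit 1])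
)))
noncomputable def u4_hws : LT :=
(.leaf [])

noncomputable def u4_inv : ℕ → ℕ := getP (nat_lit 8) (nat_lit 255) (nat_lit 0x3020100)

noncomputable def u4_t : BT :=
(.node (.node (.node (.leaf (nat_lit 0x8153800))
 (.leaf (nat_lit 0x7fc07fc))
) (.leaf (nat_lit 0x881d3808))
) (.node (.node (.leaf (nat_lit 0x48193804))
 (.leaf (nat_lit 0x40c0000))
) (.leaf (nat_lit 0x10100d))
))

noncomputable def u4_rules : LT :=
(.node (.node (.leaf [nat_lit 8,nat_lit 2,nat_lit 1,nat_lit 0,nat_lit 3,nat_lit 0,nat_lit 3])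
 (.leaf [nat_lit 10,nat_lit 2,nat_lit 1,nat_lit 2,nat_lit 3,nat_lit 2,nat_lit 3])
) (.leaf [nat_lit 9,nat_lit 2,nat_lit 1,nat_lit 1,nat_lit 3,nat_lit 1,nat_lit 3])
)

noncomputable def u4_subs : LT :=
(.leaf [nat_lit 0,nat_lit 0,nat_lit 0,nat_lit 4])


noncomputable def u4 : TC :=
  ⟨fun x c => Nat.shiftRight (BT.get u4_t x) (Nat.mul (nat_lit 16) c),
  (nat_lit 2), (nat_lit 3), (nat_lit 2047), (nat_lit 11), (nat_lit 31), (nat_lit 2044), (nat_lit 2), (nat_lit 2), (nat_lit 4), (nat_lit 3), (nat_lit 4), (nat_lit 5), u4_inv, u4_rules, u4_subs⟩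

theorem u4_c1 : u4.rules.all (ruleOK u4.m u4.inv u4_rels) = true := by decide +kernel
theorem u4_c2 : u4.subs.all (subOK u4.m u4.inv u4_hws) = true := by decide +kernel
theorem u4_c3 : u4.base = true := by decide +kernel

theorem u4_s0 : u4.slots (nat_lit 0) (nat_lit 2) = true := by decide +kernel

theorem u4_c4 : u4.Upto u4.N := ((TC.upto_zero u4).step _ u4_s0)
theorem u4_c5 : u4.UptoE u4.N := (TC.uptoE_n u4)
theorem u4_bound {G : Type*} [Group G] {g : ℕ → G} {H : Subgroup G} (hinv : ∀ x < 4, g x * g (u4_inv x) = 1)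
    (hrels : ∀ i, evalW g (u4_rels.get i) = 1) (hH : ∀ x < 3, g x ∈ H) (hhws : ∀ i, evalW g (u4_hws.get i) ∈ H) :
    H.relIndex (genLt g 4) ≠ 0 ∧ H.relIndex (genLt g 4) ≤ 2 :=
  TC.relIndex_le (T := u4) hinv hrels hH hhws u4_c1 u4_c2 u4_c3 u4_c4 u4_c5

theorem u4_bd : Bound.{u} rl4 3 4 2 := fun _ _ _ _ hs hH =>
  u4_bound (hs.hinv (by decide +kernel)) (hs.tree (by decide +kernel)) hH (leaf_nil_mem' _ _ (by decide +kernel))

theorem prs4 : Pres.{u} rl4 4 16 := prs3.step u4_bd (by decide +kernel)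

def rl5 : List (List ℕ) :=
  [[0, 0],
   [1, 1],
   [1, 0, 1, 0],
   [2, 2],
   [2, 0, 2, 0],
   [2, 1, 2, 1],
   [3, 3],
   [3, 0, 3, 0],
   [3, 1, 3, 1],
   [3, 2, 3, 2],
   [4, 4],
   [4, 0, 4, 0],
   [4, 1, 4, 1],
   [4, 2, 4, 2],
   [4, 3, 4, 3]]

noncomputable def u5_rels : LT :=
(.node (.node (.node (.node (.leaf [])
 (.leaf [nat_lit 2,nat_lit 1,nat_lit 2,nat_lit 1])
) (.node (.leaf [nat_lit 3,nat_lit 3])
 (.leaf [nat_lit 4,nat_lit 0,nat_lit 4,nat_lit 0])
)) (.node (.node (.leaf [nat_lit 1,nat_lit 1])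
 (.leaf [nat_lit 3,nat_lit 1,nat_lit 3,nat_lit 1])
) (.node (.leaf [nat_lit 1,nat_lit 0,nat_lit 1,nat_lit 0])
 (.leaf [nat_lit 4,nat_lit 2,nat_lit 4,nat_lit 2])
))) (.node (.node (.node (.leaf [nat_lit 0,nat_lit 0])
 (.leaf [nat_lit 3,nat_lit 0,nat_lit 3,nat_lit 0])
) (.node (.leaf [nat_lit 4,nat_lit 4])
 (.leaf [nat_lit 4,nat_lit 1,nat_lit 4,nat_lit 1])
)) (.node (.node (.leaf [nat_lit 2,nat_lit 2])
 (.leaf [nat_lit 3,nat_lit 2,nat_lit 3,nat_lit 2])
) (.node (.leaf [nat_lit 2,nat_lit 0,nat_lit 2,nat_lit 0])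
 (.leaf [nat_lit 4,nat_lit 3,nat_lit 4,nat_lit 3])
))))
noncomputable def u5_hws : LT :=
(.leaf [])

noncomputable def u5_inv : ℕ → ℕ := getP (nat_lit 8) (nat_lit 255) (nat_lit 0x403020100)

noncomputable def u5_t : BT :=
(.node (.node (.node (.leaf (nat_lit 0x20627000))
 (.leaf (nat_lit 0x502021))
) (.node (.leaf (nat_lit 0x220827010))
 (.leaf (nat_lit 0x10400000))
)) (.node (.node (.leaf (nat_lit 0x120727008))
 (.leaf (nat_lit 0x1ff00ff8))
) (.leaf (nat_lit 0x320927018))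
))

noncomputable def u5_rules : LT :=
(.node (.node (.leaf [nat_lit 12,nat_lit 2,nat_lit 1,nat_lit 0,nat_lit 4,nat_lit 0,nat_lit 4])
 (.leaf [nat_lit 14,nat_lit 2,nat_lit 1,nat_lit 2,nat_lit 4,nat_lit 2,nat_lit 4])
) (.node (.leaf [nat_lit 13,nat_lit 2,nat_lit 1,nat_lit 1,nat_lit 4,nat_lit 1,nat_lit 4])
 (.leaf [nat_lit 15,nat_lit 2,nat_lit 1,nat_lit 3,nat_lit 4,nat_lit 3,nat_lit 4])
))

noncomputable def u5_subs : LT :=
(.leaf [nat_lit 0,nat_lit 0,nat_lit 0,nat_lit 5])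


noncomputable def u5 : TC :=
  ⟨fun x c => Nat.shiftRight (BT.get u5_t x) (Nat.mul (nat_lit 17) c),
  (nat_lit 3), (nat_lit 7), (nat_lit 4095), (nat_lit 12), (nat_lit 31), (nat_lit 4088), (nat_lit 2), (nat_lit 2), (nat_lit 5), (nat_lit 4), (nat_lit 5), (nat_lit 6), u5_inv, u5_rules, u5_subs⟩

theorem u5_c1 : u5.rules.all (ruleOK u5.m u5.inv u5_rels) = true := by decide +kernel
theorem u5_c2 : u5.subs.all (subOK u5.m u5.inv u5_hws) = true := by decide +kernel
theorem u5_c3 : u5.base = true := by decide +kernel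

theorem u5_s0 : u5.slots (nat_lit 0) (nat_lit 2) = true := by decide +kernel

theorem u5_c4 : u5.Upto u5.N := ((TC.upto_zero u5).step _ u5_s0)
theorem u5_c5 : u5.UptoE u5.N := (TC.uptoE_n u5)
theorem u5_bound {G : Type*} [Group G] {g : ℕ → G} {H : Subgroup G} (hinv : ∀ x < 5, g x * g (u5_inv x) = 1)
    (hrels : ∀ i, evalW g (u5_rels.get i) = 1) (hH : ∀ x < 4, g x ∈ H) (hhws : ∀ i, evalW g (u5_hws.get i) ∈ H) :
    H.relIndex (genLt g 5) ≠ 0 ∧ H.relIndex (genLt g 5) ≤ 2 :=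
  TC.relIndex_le (T := u5) hinv hrels hH hhws u5_c1 u5_c2 u5_c3 u5_c4 u5_c5

theorem u5_bd : Bound.{u} rl5 4 5 2 := fun _ _ _ _ hs hH =>
  u5_bound (hs.hinv (by decide +kernel)) (hs.tree (by decide +kernel)) hH (leaf_nil_mem' _ _ (by decide +kernel))

theorem prs5 : Pres.{u} rl5 5 32 := prs4.step u5_bd (by decide +kernel)

def rl6 : List (List ℕ) :=
  [[0, 0],
   [1, 1],
   [1, 0, 1, 0],
   [2, 2],
   [2, 0, 2, 0],
   [2, 1, 2, 1],
   [3, 3],
   [3, 0, 3, 0],
   [3, 1, 3, 1],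
   [3, 2, 3, 2],
   [4, 4],
   [4, 0, 4, 0],
   [4, 1, 4, 1],
   [4, 2, 4, 2],
   [4, 3, 4, 3],
   [5, 5],
   [5, 0, 5, 0],
   [5, 1, 5, 1],
   [5, 2, 5, 2],
   [5, 3, 5, 3],
   [5, 4, 5, 4]]

noncomputable def u6_rels : LT :=
(.node (.node (.node (.node (.node (.leaf [])
 (.leaf [nat_lit 4,nat_lit 3,nat_lit 4,nat_lit 3])
) (.leaf [nat_lit 2,nat_lit 0,nat_lit 2,nat_lit 0])
) (.node (.node (.leaf [nat_lit 3,nat_lit 3])
 (.leaf [nat_lit 5,nat_lit 3,nat_lit 5,nat_lit 3])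
) (.leaf [nat_lit 3,nat_lit 2,nat_lit 3,nat_lit 2])
)) (.node (.node (.node (.leaf [nat_lit 1,nat_lit 1])
 (.leaf [nat_lit 5,nat_lit 1,nat_lit 5,nat_lit 1])
) (.leaf [nat_lit 3,nat_lit 0,nat_lit 3,nat_lit 0])
) (.node (.leaf [nat_lit 5,nat_lit 5])
 (.leaf [nat_lit 4,nat_lit 1,nat_lit 4,nat_lit 1])
))) (.node (.node (.node (.node (.leaf [nat_lit 0,nat_lit 0])
 (.leaf [nat_lit 5,nat_lit 0,nat_lit 5,nat_lit 0])
) (.leaf [nat_lit 2,nat_lit 1,nat_lit 2,nat_lit 1])
) (.node (.node (.leaf [nat_lit 4,nat_lit 4])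
 (.leaf [nat_lit 5,nat_lit 4,nat_lit 5,nat_lit 4])
) (.leaf [nat_lit 4,nat_lit 0,nat_lit 4,nat_lit 0])
)) (.node (.node (.node (.leaf [nat_lit 2,nat_lit 2])
 (.leaf [nat_lit 5,nat_lit 2,nat_lit 5,nat_lit 2])
) (.leaf [nat_lit 3,nat_lit 1,nat_lit 3,nat_lit 1])
) (.node (.leaf [nat_lit 1,nat_lit 0,nat_lit 1,nat_lit 0])
 (.leaf [nat_lit 4,nat_lit 2,nat_lit 4,nat_lit 2])
))))
noncomputable def u6_hws : LT :=
(.leaf [])

noncomputable def u6_inv : ℕ → ℕ := getP (nat_lit 8) (nat_lit 255) (nat_lit 0x50403020100)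

noncomputable def u6_t : BT :=
(.node (.node (.node (.leaf (nat_lit 0x40e47000))
 (.leaf (nat_lit 0x841647020))
) (.node (.leaf (nat_lit 0x441247010))
 (.leaf (nat_lit 0x3fe00ff8))
)) (.node (.node (.leaf (nat_lit 0x241047008))
 (.leaf (nat_lit 0xc02029))
) (.node (.leaf (nat_lit 0x641447018))
 (.leaf (nat_lit 0x20a00000))
)))

noncomputable def u6_rules : LT :=
(.node (.node (.node (.leaf [nat_lit 17,nat_lit 2,nat_lit 1,nat_lit 0,nat_lit 5,nat_lit 0,nat_lit 5])
 (.leaf [nat_lit 21,nat_lit 2,nat_lit 1,nat_lit 4,nat_lit 5,nat_lit 4,nat_lit 5])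
) (.leaf [nat_lit 19,nat_lit 2,nat_lit 1,nat_lit 2,nat_lit 5,nat_lit 2,nat_lit 5])
) (.node (.leaf [nat_lit 18,nat_lit 2,nat_lit 1,nat_lit 1,nat_lit 5,nat_lit 1,nat_lit 5])
 (.leaf [nat_lit 20,nat_lit 2,nat_lit 1,nat_lit 3,nat_lit 5,nat_lit 3,nat_lit 5])
))

noncomputable def u6_subs : LT :=
(.leaf [nat_lit 0,nat_lit 0,nat_lit 0,nat_lit 6])


noncomputable def u6 : TC :=
  ⟨fun x c => Nat.shiftRight (BT.get u6_t x) (Nat.mul (nat_lit 18) c),
  (nat_lit 3), (nat_lit 7), (nat_lit 4095), (nat_lit 12), (nat_lit 63), (nat_lit 4088), (nat_lit 2), (nat_lit 2), (nat_lit 6), (nat_lit 5), (nat_lit 6), (nat_lit 7), u6_inv, u6_rules, u6_subs⟩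

theorem u6_c1 : u6.rules.all (ruleOK u6.m u6.inv u6_rels) = true := by decide +kernel
theorem u6_c2 : u6.subs.all (subOK u6.m u6.inv u6_hws) = true := by decide +kernel
theorem u6_c3 : u6.base = true := by decide +kernel

theorem u6_s0 : u6.slots (nat_lit 0) (nat_lit 2) = true := by decide +kernel

theorem u6_c4 : u6.Upto u6.N := ((TC.upto_zero u6).step _ u6_s0)
theorem u6_c5 : u6.UptoE u6.N := (TC.uptoE_n u6)
theorem u6_bound {G : Type*} [Group G] {g : ℕ → G} {H : Subgroup G} (hinv : ∀ x < 6, g x * g (u6_inv x) = 1)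
    (hrels : ∀ i, evalW g (u6_rels.get i) = 1) (hH : ∀ x < 5, g x ∈ H) (hhws : ∀ i, evalW g (u6_hws.get i) ∈ H) :
    H.relIndex (genLt g 6) ≠ 0 ∧ H.relIndex (genLt g 6) ≤ 2 :=
  TC.relIndex_le (T := u6) hinv hrels hH hhws u6_c1 u6_c2 u6_c3 u6_c4 u6_c5

theorem u6_bd : Bound.{u} rl6 5 6 2 := fun _ _ _ _ hs hH =>
  u6_bound (hs.hinv (by decide +kernel)) (hs.tree (by decide +kernel)) hH (leaf_nil_mem' _ _ (by decide +kernel))

theorem prs6 : Pres.{u} rl6 6 64 := prs5.step u6_bd (by decide +kernel)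

def rl7 : List (List ℕ) :=
  [[0, 0],
   [1, 1],
   [1, 0, 1, 0],
   [2, 2],
   [2, 0, 2, 0],
   [2, 1, 2, 1],
   [3, 3],
   [3, 0, 3, 0],
   [3, 1, 3, 1],
   [3, 2, 3, 2],
   [4, 4],
   [4, 0, 4, 0],
   [4, 1, 4, 1],
   [4, 2, 4, 2],
   [4, 3, 4, 3],
   [5, 5],
   [5, 0, 5, 0],
   [5, 1, 5, 1],
   [5, 2, 5, 2],
   [5, 3, 5, 3],
   [5, 4, 5, 4],
   [6, 6],
   [6, 0, 6, 1],
   [6, 2, 6, 3],
   [6, 4, 6, 4],
   [6, 5, 6, 5]]

noncomputable def u7_rels : LT :=
(.node (.node (.node (.node (.node (.leaf [])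
 (.leaf [nat_lit 4,nat_lit 2,nat_lit 4,nat_lit 2])
) (.node (.leaf [nat_lit 1,nat_lit 0,nat_lit 1,nat_lit 0])
 (.leaf [nat_lit 6,nat_lit 2,nat_lit 6,nat_lit 3])
)) (.node (.node (.leaf [nat_lit 3,nat_lit 3])
 (.leaf [nat_lit 5,nat_lit 2,nat_lit 5,nat_lit 2])
) (.leaf [nat_lit 3,nat_lit 1,nat_lit 3,nat_lit 1])
)) (.node (.node (.node (.leaf [nat_lit 1,nat_lit 1])
 (.leaf [nat_lit 5,nat_lit 0,nat_lit 5,nat_lit 0])
) (.node (.leaf [nat_lit 2,nat_lit 1,nat_lit 2,nat_lit 1])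
 (.leaf [nat_lit 6,nat_lit 5,nat_lit 6,nat_lit 5])
)) (.node (.node (.leaf [nat_lit 5,nat_lit 5])
 (.leaf [nat_lit 5,nat_lit 4,nat_lit 5,nat_lit 4])
) (.leaf [nat_lit 4,nat_lit 0,nat_lit 4,nat_lit 0])
))) (.node (.node (.node (.node (.leaf [nat_lit 0,nat_lit 0])
 (.leaf [nat_lit 4,nat_lit 3,nat_lit 4,nat_lit 3])
) (.node (.leaf [nat_lit 2,nat_lit 0,nat_lit 2,nat_lit 0])
 (.leaf [nat_lit 6,nat_lit 4,nat_lit 6,nat_lit 4])
)) (.node (.node (.leaf [nat_lit 4,nat_lit 4])
 (.leaf [nat_lit 5,nat_lit 3,nat_lit 5,nat_lit 3])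
) (.leaf [nat_lit 3,nat_lit 2,nat_lit 3,nat_lit 2])
)) (.node (.node (.node (.leaf [nat_lit 2,nat_lit 2])
 (.leaf [nat_lit 5,nat_lit 1,nat_lit 5,nat_lit 1])
) (.leaf [nat_lit 3,nat_lit 0,nat_lit 3,nat_lit 0])
) (.node (.node (.leaf [nat_lit 6,nat_lit 6])
 (.leaf [nat_lit 6,nat_lit 0,nat_lit 6,nat_lit 1])
) (.leaf [nat_lit 4,nat_lit 1,nat_lit 4,nat_lit 1])
))))
noncomputable def u7_hws : LT :=
(.leaf [])

noncomputable def u7_inv : ℕ → ℕ := getP (nat_lit 8) (nat_lit 255) (nat_lit 0x6050403020100)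

noncomputable def u7_t : BT :=
(.node (.node (.node (.node (.leaf (nat_lit 0x41047000))
 (.leaf (nat_lit 0x20c00000))
) (.leaf (nat_lit 0x841847020))
) (.node (.leaf (nat_lit 0x441447010))
 (.leaf (nat_lit 0xe02031))
)) (.node (.node (.leaf (nat_lit 0x241247008))
 (.leaf (nat_lit 0xa41a47028))
) (.node (.leaf (nat_lit 0x641647018))
 (.leaf (nat_lit 0x3fe00ff8))
)))

noncomputable def u7_rules : LT :=
(.node (.node (.node (.leaf [nat_lit 23,nat_lit 2,nat_lit 1,nat_lit 0,nat_lit 6,nat_lit 1,nat_lit 6])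
 (.leaf [nat_lit 25,nat_lit 2,nat_lit 1,nat_lit 4,nat_lit 6,nat_lit 4,nat_lit 6])
) (.leaf [nat_lit 24,nat_lit 2,nat_lit 1,nat_lit 2,nat_lit 6,nat_lit 3,nat_lit 6])
) (.node (.node (.leaf [nat_lit 23,nat_lit 0,nat_lit 1,nat_lit 1,nat_lit 6,nat_lit 0,nat_lit 6])
 (.leaf [nat_lit 26,nat_lit 2,nat_lit 1,nat_lit 5,nat_lit 6,nat_lit 5,nat_lit 6])
) (.leaf [nat_lit 24,nat_lit 0,nat_lit 1,nat_lit 3,nat_lit 6,nat_lit 2,nat_lit 6])
))

noncomputable def u7_subs : LT :=
(.leaf [nat_lit 0,nat_lit 0,nat_lit 0,nat_lit 7])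


noncomputable def u7 : TC :=
  ⟨fun x c => Nat.shiftRight (BT.get u7_t x) (Nat.mul (nat_lit 18) c),
  (nat_lit 3), (nat_lit 7), (nat_lit 4095), (nat_lit 12), (nat_lit 63), (nat_lit 4088), (nat_lit 2), (nat_lit 2), (nat_lit 7), (nat_lit 6), (nat_lit 7), (nat_lit 8), u7_inv, u7_rules, u7_subs⟩

theorem u7_c1 : u7.rules.all (ruleOK u7.m u7.inv u7_rels) = true := by decide +kernel
theorem u7_c2 : u7.subs.all (subOK u7.m u7.inv u7_hws) = true := by decide +kernel
theorem u7_c3 : u7.base = true := by decide +kernel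

theorem u7_s0 : u7.slots (nat_lit 0) (nat_lit 2) = true := by decide +kernel

theorem u7_c4 : u7.Upto u7.N := ((TC.upto_zero u7).step _ u7_s0)
theorem u7_c5 : u7.UptoE u7.N := (TC.uptoE_n u7)
theorem u7_bound {G : Type*} [Group G] {g : ℕ → G} {H : Subgroup G} (hinv : ∀ x < 7, g x * g (u7_inv x) = 1)
    (hrels : ∀ i, evalW g (u7_rels.get i) = 1) (hH : ∀ x < 6, g x ∈ H) (hhws : ∀ i, evalW g (u7_hws.get i) ∈ H) :
    H.relIndex (genLt g 7) ≠ 0 ∧ H.relIndex (genLt g 7) ≤ 2 :=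
  TC.relIndex_le (T := u7) hinv hrels hH hhws u7_c1 u7_c2 u7_c3 u7_c4 u7_c5

theorem u7_bd : Bound.{u} rl7 6 7 2 := fun _ _ _ _ hs hH =>
  u7_bound (hs.hinv (by decide +kernel)) (hs.tree (by decide +kernel)) hH (leaf_nil_mem' _ _ (by decide +kernel))

theorem prs7 : Pres.{u} rl7 7 128 := prs6.step u7_bd (by decide +kernel)

def rl8 : List (List ℕ) :=
  [[0, 0],
   [1, 1],
   [1, 0, 1, 0],
   [2, 2],
   [2, 0, 2, 0],
   [2, 1, 2, 1],
   [3, 3],
   [3, 0, 3, 0],
   [3, 1, 3, 1],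
   [3, 2, 3, 2],
   [4, 4],
   [4, 0, 4, 0],
   [4, 1, 4, 1],
   [4, 2, 4, 2],
   [4, 3, 4, 3],
   [5, 5],
   [5, 0, 5, 0],
   [5, 1, 5, 1],
   [5, 2, 5, 2],
   [5, 3, 5, 3],
   [5, 4, 5, 4],
   [6, 6],
   [6, 0, 6, 1],
   [6, 2, 6, 3],
   [6, 4, 6, 4],
   [6, 5, 6, 5],
   [7, 7],
   [7, 0, 7, 1],
   [7, 2, 7, 2],
   [7, 3, 7, 3],
   [7, 4, 7, 5],
   [7, 6, 7, 6]]

noncomputable def u8_rels : LT :=
(.node (.node (.node (.node (.node (.node (.leaf [])
 (.leaf [nat_lit 7,nat_lit 6,nat_lit 7,nat_lit 6])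
) (.leaf [nat_lit 4,nat_lit 1,nat_lit 4,nat_lit 1])
) (.node (.leaf [nat_lit 7,nat_lit 7])
 (.leaf [nat_lit 6,nat_lit 0,nat_lit 6,nat_lit 1])
)) (.node (.node (.leaf [nat_lit 3,nat_lit 3])
 (.leaf [nat_lit 5,nat_lit 1,nat_lit 5,nat_lit 1])
) (.node (.leaf [nat_lit 3,nat_lit 0,nat_lit 3,nat_lit 0])
 (.leaf [nat_lit 7,nat_lit 0,nat_lit 7,nat_lit 1])
))) (.node (.node (.node (.leaf [nat_lit 1,nat_lit 1])
 (.leaf [nat_lit 4,nat_lit 3,nat_lit 4,nat_lit 3])
) (.node (.leaf [nat_lit 2,nat_lit 0,nat_lit 2,nat_lit 0])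
 (.leaf [nat_lit 6,nat_lit 4,nat_lit 6,nat_lit 4])
)) (.node (.node (.leaf [nat_lit 5,nat_lit 5])
 (.leaf [nat_lit 5,nat_lit 3,nat_lit 5,nat_lit 3])
) (.node (.leaf [nat_lit 3,nat_lit 2,nat_lit 3,nat_lit 2])
 (.leaf [nat_lit 7,nat_lit 3,nat_lit 7,nat_lit 3])
)))) (.node (.node (.node (.node (.leaf [nat_lit 0,nat_lit 0])
 (.leaf [nat_lit 4,nat_lit 2,nat_lit 4,nat_lit 2])
) (.node (.leaf [nat_lit 1,nat_lit 0,nat_lit 1,nat_lit 0])
 (.leaf [nat_lit 6,nat_lit 2,nat_lit 6,nat_lit 3])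
)) (.node (.node (.leaf [nat_lit 4,nat_lit 4])
 (.leaf [nat_lit 5,nat_lit 2,nat_lit 5,nat_lit 2])
) (.node (.leaf [nat_lit 3,nat_lit 1,nat_lit 3,nat_lit 1])
 (.leaf [nat_lit 7,nat_lit 2,nat_lit 7,nat_lit 2])
))) (.node (.node (.node (.leaf [nat_lit 2,nat_lit 2])
 (.leaf [nat_lit 5,nat_lit 0,nat_lit 5,nat_lit 0])
) (.node (.leaf [nat_lit 2,nat_lit 1,nat_lit 2,nat_lit 1])
 (.leaf [nat_lit 6,nat_lit 5,nat_lit 6,nat_lit 5])
)) (.node (.node (.leaf [nat_lit 6,nat_lit 6])
 (.leaf [nat_lit 5,nat_lit 4,nat_lit 5,nat_lit 4])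
) (.node (.leaf [nat_lit 4,nat_lit 0,nat_lit 4,nat_lit 0])
 (.leaf [nat_lit 7,nat_lit 4,nat_lit 7,nat_lit 5])
)))))
noncomputable def u8_hws : LT :=
(.leaf [])

noncomputable def u8_inv : ℕ → ℕ := getP (nat_lit 8) (nat_lit 255) (nat_lit 0x706050403020100)

noncomputable def u8_t : BT :=
(.node (.node (.node (.node (.leaf (nat_lit 0x41247000))
 (.leaf (nat_lit 0x3fe00ff8))
) (.leaf (nat_lit 0x841a47020))
) (.node (.leaf (nat_lit 0x441647010))
 (.leaf (nat_lit 0xc41e47030))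
)) (.node (.node (.node (.leaf (nat_lit 0x241447008))
 (.leaf (nat_lit 0x20e00000))
) (.leaf (nat_lit 0xa41c47028))
) (.node (.leaf (nat_lit 0x641847018))
 (.leaf (nat_lit 0x1002039))
)))

noncomputable def u8_rules : LT :=
(.node (.node (.node (.leaf [nat_lit 28,nat_lit 2,nat_lit 1,nat_lit 0,nat_lit 7,nat_lit 1,nat_lit 7])
 (.leaf [nat_lit 31,nat_lit 2,nat_lit 1,nat_lit 4,nat_lit 7,nat_lit 5,nat_lit 7])
) (.node (.leaf [nat_lit 29,nat_lit 2,nat_lit 1,nat_lit 2,nat_lit 7,nat_lit 2,nat_lit 7])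
 (.leaf [nat_lit 32,nat_lit 2,nat_lit 1,nat_lit 6,nat_lit 7,nat_lit 6,nat_lit 7])
)) (.node (.node (.leaf [nat_lit 28,nat_lit 0,nat_lit 1,nat_lit 1,nat_lit 7,nat_lit 0,nat_lit 7])
 (.leaf [nat_lit 31,nat_lit 0,nat_lit 1,nat_lit 5,nat_lit 7,nat_lit 4,nat_lit 7])
) (.leaf [nat_lit 30,nat_lit 2,nat_lit 1,nat_lit 3,nat_lit 7,nat_lit 3,nat_lit 7])
))

noncomputable def u8_subs : LT :=
(.leaf [nat_lit 0,nat_lit 0,nat_lit 0,nat_lit 8])


noncomputable def u8 : TC :=
  ⟨fun x c => Nat.shiftRight (BT.get u8_t x) (Nat.mul (nat_lit 18) c),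
  (nat_lit 3), (nat_lit 7), (nat_lit 4095), (nat_lit 12), (nat_lit 63), (nat_lit 4088), (nat_lit 2), (nat_lit 2), (nat_lit 8), (nat_lit 7), (nat_lit 8), (nat_lit 9), u8_inv, u8_rules, u8_subs⟩

theorem u8_c1 : u8.rules.all (ruleOK u8.m u8.inv u8_rels) = true := by decide +kernel
theorem u8_c2 : u8.subs.all (subOK u8.m u8.inv u8_hws) = true := by decide +kernel
theorem u8_c3 : u8.base = true := by decide +kernel

theorem u8_s0 : u8.slots (nat_lit 0) (nat_lit 2) = true := by decide +kernel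

theorem u8_c4 : u8.Upto u8.N := ((TC.upto_zero u8).step _ u8_s0)
theorem u8_c5 : u8.UptoE u8.N := (TC.uptoE_n u8)
theorem u8_bound {G : Type*} [Group G] {g : ℕ → G} {H : Subgroup G} (hinv : ∀ x < 8, g x * g (u8_inv x) = 1)
    (hrels : ∀ i, evalW g (u8_rels.get i) = 1) (hH : ∀ x < 7, g x ∈ H) (hhws : ∀ i, evalW g (u8_hws.get i) ∈ H) :
    H.relIndex (genLt g 8) ≠ 0 ∧ H.relIndex (genLt g 8) ≤ 2 :=
  TC.relIndex_le (T := u8) hinv hrels hH hhws u8_c1 u8_c2 u8_c3 u8_c4 u8_c5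

theorem u8_bd : Bound.{u} rl8 7 8 2 := fun _ _ _ _ hs hH =>
  u8_bound (hs.hinv (by decide +kernel)) (hs.tree (by decide +kernel)) hH (leaf_nil_mem' _ _ (by decide +kernel))

theorem prs8 : Pres.{u} rl8 8 256 := prs7.step u8_bd (by decide +kernel)

def rl9 : List (List ℕ) :=
  [[0, 0],
   [1, 1],
   [1, 0, 1, 0],
   [2, 2],
   [2, 0, 2, 0],
   [2, 1, 2, 1],
   [3, 3],
   [3, 0, 3, 0],
   [3, 1, 3, 1],
   [3, 2, 3, 2],
   [4, 4],
   [4, 0, 4, 0],
   [4, 1, 4, 1],
   [4, 2, 4, 2],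
   [4, 3, 4, 3],
   [5, 5],
   [5, 0, 5, 0],
   [5, 1, 5, 1],
   [5, 2, 5, 2],
   [5, 3, 5, 3],
   [5, 4, 5, 4],
   [6, 6],
   [6, 0, 6, 1],
   [6, 2, 6, 3],
   [6, 4, 6, 4],
   [6, 5, 6, 5],
   [7, 7],
   [7, 0, 7, 1],
   [7, 2, 7, 2],
   [7, 3, 7, 3],
   [7, 4, 7, 5],
   [7, 6, 7, 6],
   [8, 8],
   [8, 0, 8, 2],
   [8, 1, 8, 3],
   [8, 4, 8, 4],
   [8, 5, 8, 5],
   [8, 6, 8, 6],
   [8, 7, 8, 7, 6]]

noncomputable def u9_rels : LT :=
(.node (.node (.node (.node (.node (.node (.leaf [])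
 (.leaf [nat_lit 7,nat_lit 4,nat_lit 7,nat_lit 5])
) (.leaf [nat_lit 4,nat_lit 0,nat_lit 4,nat_lit 0])
) (.node (.leaf [nat_lit 7,nat_lit 7])
 (.leaf [nat_lit 5,nat_lit 4,nat_lit 5,nat_lit 4])
)) (.node (.node (.node (.leaf [nat_lit 3,nat_lit 3])
 (.leaf [nat_lit 8,nat_lit 4,nat_lit 8,nat_lit 4])
) (.leaf [nat_lit 5,nat_lit 0,nat_lit 5,nat_lit 0])
) (.node (.leaf [nat_lit 2,nat_lit 1,nat_lit 2,nat_lit 1])
 (.leaf [nat_lit 6,nat_lit 5,nat_lit 6,nat_lit 5])
))) (.node (.node (.node (.node (.leaf [nat_lit 1,nat_lit 1])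
 (.leaf [nat_lit 8,nat_lit 0,nat_lit 8,nat_lit 2])
) (.leaf [nat_lit 4,nat_lit 2,nat_lit 4,nat_lit 2])
) (.node (.leaf [nat_lit 1,nat_lit 0,nat_lit 1,nat_lit 0])
 (.leaf [nat_lit 6,nat_lit 2,nat_lit 6,nat_lit 3])
)) (.node (.node (.node (.leaf [nat_lit 5,nat_lit 5])
 (.leaf [nat_lit 8,nat_lit 6,nat_lit 8,nat_lit 6])
) (.leaf [nat_lit 5,nat_lit 2,nat_lit 5,nat_lit 2])
) (.node (.leaf [nat_lit 3,nat_lit 1,nat_lit 3,nat_lit 1])
 (.leaf [nat_lit 7,nat_lit 2,nat_lit 7,nat_lit 2])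
)))) (.node (.node (.node (.node (.node (.leaf [nat_lit 0,nat_lit 0])
 (.leaf [nat_lit 7,nat_lit 6,nat_lit 7,nat_lit 6])
) (.leaf [nat_lit 4,nat_lit 1,nat_lit 4,nat_lit 1])
) (.node (.leaf [nat_lit 8,nat_lit 8])
 (.leaf [nat_lit 6,nat_lit 0,nat_lit 6,nat_lit 1])
)) (.node (.node (.node (.leaf [nat_lit 4,nat_lit 4])
 (.leaf [nat_lit 8,nat_lit 5,nat_lit 8,nat_lit 5])
) (.leaf [nat_lit 5,nat_lit 1,nat_lit 5,nat_lit 1])
) (.node (.leaf [nat_lit 3,nat_lit 0,nat_lit 3,nat_lit 0])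
 (.leaf [nat_lit 7,nat_lit 0,nat_lit 7,nat_lit 1])
))) (.node (.node (.node (.node (.leaf [nat_lit 2,nat_lit 2])
 (.leaf [nat_lit 8,nat_lit 1,nat_lit 8,nat_lit 3])
) (.leaf [nat_lit 4,nat_lit 3,nat_lit 4,nat_lit 3])
) (.node (.leaf [nat_lit 2,nat_lit 0,nat_lit 2,nat_lit 0])
 (.leaf [nat_lit 6,nat_lit 4,nat_lit 6,nat_lit 4])
)) (.node (.node (.node (.leaf [nat_lit 6,nat_lit 6])
 (.leaf [nat_lit 8,nat_lit 7,nat_lit 8,nat_lit 7,nat_lit 6])
) (.leaf [nat_lit 5,nat_lit 3,nat_lit 5,nat_lit 3])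
) (.node (.leaf [nat_lit 3,nat_lit 2,nat_lit 3,nat_lit 2])
 (.leaf [nat_lit 7,nat_lit 3,nat_lit 7,nat_lit 3])
)))))
noncomputable def u9_hws : LT :=
(.leaf [])

noncomputable def u9_inv : ℕ → ℕ := getP (nat_lit 8) (nat_lit 255) (nat_lit 0x80706050403020100)

noncomputable def u9_t : BT :=
(.node (.node (.node (.node (.leaf (nat_lit 0x10508e000))
 (.leaf (nat_lit 0x4804081))
) (.leaf (nat_lit 0x210708e040))
) (.node (.node (.leaf (nat_lit 0x110588e020))
 (.leaf (nat_lit 0x84000000))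
) (.leaf (nat_lit 0x310808e060))
)) (.node (.node (.node (.leaf (nat_lit 0x90608e010))
 (.leaf (nat_lit 0xff801ff0))
) (.leaf (nat_lit 0x290788e050))
) (.node (.leaf (nat_lit 0x190688e030))
 (.leaf (nat_lit 0x390888e070))
)))

noncomputable def u9_rules : LT :=
(.node (.node (.node (.leaf [nat_lit 34,nat_lit 2,nat_lit 1,nat_lit 0,nat_lit 8,nat_lit 2,nat_lit 8])
 (.leaf [nat_lit 36,nat_lit 2,nat_lit 1,nat_lit 4,nat_lit 8,nat_lit 4,nat_lit 8])
) (.node (.leaf [nat_lit 34,nat_lit 0,nat_lit 1,nat_lit 2,nat_lit 8,nat_lit 0,nat_lit 8])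
 (.leaf [nat_lit 38,nat_lit 2,nat_lit 1,nat_lit 6,nat_lit 8,nat_lit 6,nat_lit 8])
)) (.node (.node (.leaf [nat_lit 35,nat_lit 2,nat_lit 1,nat_lit 1,nat_lit 8,nat_lit 3,nat_lit 8])
 (.leaf [nat_lit 37,nat_lit 2,nat_lit 1,nat_lit 5,nat_lit 8,nat_lit 5,nat_lit 8])
) (.node (.leaf [nat_lit 35,nat_lit 0,nat_lit 1,nat_lit 3,nat_lit 8,nat_lit 1,nat_lit 8])
 (.leaf [nat_lit 39,nat_lit 3,nat_lit 1,nat_lit 7,nat_lit 8,nat_lit 6,nat_lit 7,nat_lit 8])
)))

noncomputable def u9_subs : LT :=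
(.leaf [nat_lit 0,nat_lit 0,nat_lit 0,nat_lit 9])


noncomputable def u9 : TC :=
  ⟨fun x c => Nat.shiftRight (BT.get u9_t x) (Nat.mul (nat_lit 19) c),
  (nat_lit 4), (nat_lit 15), (nat_lit 8191), (nat_lit 13), (nat_lit 63), (nat_lit 8176), (nat_lit 2), (nat_lit 2), (nat_lit 9), (nat_lit 8), (nat_lit 9), (nat_lit 10), u9_inv, u9_rules, u9_subs⟩

theorem u9_c1 : u9.rules.all (ruleOK u9.m u9.inv u9_rels) = true := by decide +kernel
theorem u9_c2 : u9.subs.all (subOK u9.m u9.inv u9_hws) = true := by decide +kernel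
theorem u9_c3 : u9.base = true := by decide +kernel

theorem u9_s0 : u9.slots (nat_lit 0) (nat_lit 2) = true := by decide +kernel

theorem u9_c4 : u9.Upto u9.N := ((TC.upto_zero u9).step _ u9_s0)
theorem u9_c5 : u9.UptoE u9.N := (TC.uptoE_n u9)
theorem u9_bound {G : Type*} [Group G] {g : ℕ → G} {H : Subgroup G} (hinv : ∀ x < 9, g x * g (u9_inv x) = 1)
    (hrels : ∀ i, evalW g (u9_rels.get i) = 1) (hH : ∀ x < 8, g x ∈ H) (hhws : ∀ i, evalW g (u9_hws.get i) ∈ H) :
    H.relIndex (genLt g 9) ≠ 0 ∧ H.relIndex (genLt g 9) ≤ 2 :=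
  TC.relIndex_le (T := u9) hinv hrels hH hhws u9_c1 u9_c2 u9_c3 u9_c4 u9_c5

theorem u9_bd : Bound.{u} rl9 8 9 2 := fun _ _ _ _ hs hH =>
  u9_bound (hs.hinv (by decide +kernel)) (hs.tree (by decide +kernel)) hH (leaf_nil_mem' _ _ (by decide +kernel))

theorem prs9 : Pres.{u} rl9 9 512 := prs8.step u9_bd (by decide +kernel)

theorem rl9_ok : allL rl9 (fun w => Nat.beq (evC P c9 w) P.one) = true := by decide +kernel

noncomputable def Ca_t : ST :=
(.node (nat_lit 0xa0b08090001020304050607) (.node (nat_lit 0x9080b0a0001020304050607) (.node (nat_lit 0x8090a0b0405060700010203) (.node (nat_lit 0x8090a0b0203000104050607) (.node (nat_lit 0x8090a0b0100030204050607) (.node (nat_lit 0x8090a0b0001020306070405) (.node (nat_lit 0x8090a0b0001020305040706) (.leaf (nat_lit 0x8090a0b0001020304050607) (nat_lit 1030))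
 (.leaf (nat_lit 0x8090a0b0001020305040706) (nat_lit 1030))
) (.node (nat_lit 0x8090a0b0001020307060504) (.leaf (nat_lit 0x8090a0b0001020306070405) (nat_lit 1286))
 (.leaf (nat_lit 0x8090a0b0001020307060504) (nat_lit 774))
)) (.node (nat_lit 0x8090a0b0100030206070405) (.node (nat_lit 0x8090a0b0100030205040706) (.leaf (nat_lit 0x8090a0b0100030204050607) (nat_lit 1030))
 (.leaf (nat_lit 0x8090a0b0100030205040706) (nat_lit 1030))
) (.node (nat_lit 0x8090a0b0100030207060504) (.leaf (nat_lit 0x8090a0b0100030206070405) (nat_lit 1286))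
 (.leaf (nat_lit 0x8090a0b0100030207060504) (nat_lit 774))
))) (.node (nat_lit 0x8090a0b0302010004050607) (.node (nat_lit 0x8090a0b0203000106070405) (.node (nat_lit 0x8090a0b0203000105040706) (.leaf (nat_lit 0x8090a0b0203000104050607) (nat_lit 1286))
 (.leaf (nat_lit 0x8090a0b0203000105040706) (nat_lit 1286))
) (.node (nat_lit 0x8090a0b0203000107060504) (.leaf (nat_lit 0x8090a0b0203000106070405) (nat_lit 1542))
 (.leaf (nat_lit 0x8090a0b0203000107060504) (nat_lit 1030))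
)) (.node (nat_lit 0x8090a0b0302010006070405) (.node (nat_lit 0x8090a0b0302010005040706) (.leaf (nat_lit 0x8090a0b0302010004050607) (nat_lit 774))
 (.leaf (nat_lit 0x8090a0b0302010005040706) (nat_lit 774))
) (.node (nat_lit 0x8090a0b0302010007060504) (.leaf (nat_lit 0x8090a0b0302010006070405) (nat_lit 1030))
 (.leaf (nat_lit 0x8090a0b0302010007060504) (nat_lit 518))
)))) (.node (nat_lit 0x8090a0b0607040500010203) (.node (nat_lit 0x8090a0b0504070600010203) (.node (nat_lit 0x8090a0b0405060702030001) (.node (nat_lit 0x8090a0b0405060701000302) (.leaf (nat_lit 0x8090a0b0405060700010203) (nat_lit 773))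
 (.leaf (nat_lit 0x8090a0b0405060701000302) (nat_lit 773))
) (.node (nat_lit 0x8090a0b0405060703020100) (.leaf (nat_lit 0x8090a0b0405060702030001) (nat_lit 1029))
 (.leaf (nat_lit 0x8090a0b0405060703020100) (nat_lit 517))
)) (.node (nat_lit 0x8090a0b0504070602030001) (.node (nat_lit 0x8090a0b0504070601000302) (.leaf (nat_lit 0x8090a0b0504070600010203) (nat_lit 773))
 (.leaf (nat_lit 0x8090a0b0504070601000302) (nat_lit 773))
) (.node (nat_lit 0x8090a0b0504070603020100) (.leaf (nat_lit 0x8090a0b0504070602030001) (nat_lit 1029))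
 (.leaf (nat_lit 0x8090a0b0504070603020100) (nat_lit 517))
))) (.node (nat_lit 0x8090a0b0706050400010203) (.node (nat_lit 0x8090a0b0607040502030001) (.node (nat_lit 0x8090a0b0607040501000302) (.leaf (nat_lit 0x8090a0b0607040500010203) (nat_lit 1029))
 (.leaf (nat_lit 0x8090a0b0607040501000302) (nat_lit 1029))
) (.node (nat_lit 0x8090a0b0607040503020100) (.leaf (nat_lit 0x8090a0b0607040502030001) (nat_lit 1285))
 (.leaf (nat_lit 0x8090a0b0607040503020100) (nat_lit 773))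
)) (.node (nat_lit 0x8090a0b0706050402030001) (.node (nat_lit 0x8090a0b0706050401000302) (.leaf (nat_lit 0x8090a0b0706050400010203) (nat_lit 517))
 (.leaf (nat_lit 0x8090a0b0706050401000302) (nat_lit 517))
) (.node (nat_lit 0x8090a0b0706050403020100) (.leaf (nat_lit 0x8090a0b0706050402030001) (nat_lit 773))
 (.leaf (nat_lit 0x8090a0b0706050403020100) (nat_lit 261))
))))) (.node (nat_lit 0x9080b0a0405060700010203) (.node (nat_lit 0x9080b0a0203000104050607) (.node (nat_lit 0x9080b0a0100030204050607) (.node (nat_lit 0x9080b0a0001020306070405) (.node (nat_lit 0x9080b0a0001020305040706) (.leaf (nat_lit 0x9080b0a0001020304050607) (nat_lit 1030))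
 (.leaf (nat_lit 0x9080b0a0001020305040706) (nat_lit 1030))
) (.node (nat_lit 0x9080b0a0001020307060504) (.leaf (nat_lit 0x9080b0a0001020306070405) (nat_lit 1286))
 (.leaf (nat_lit 0x9080b0a0001020307060504) (nat_lit 774))
)) (.node (nat_lit 0x9080b0a0100030206070405) (.node (nat_lit 0x9080b0a0100030205040706) (.leaf (nat_lit 0x9080b0a0100030204050607) (nat_lit 1030))
 (.leaf (nat_lit 0x9080b0a0100030205040706) (nat_lit 1030))
) (.node (nat_lit 0x9080b0a0100030207060504) (.leaf (nat_lit 0x9080b0a0100030206070405) (nat_lit 1286))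
 (.leaf (nat_lit 0x9080b0a0100030207060504) (nat_lit 774))
))) (.node (nat_lit 0x9080b0a0302010004050607) (.node (nat_lit 0x9080b0a0203000106070405) (.node (nat_lit 0x9080b0a0203000105040706) (.leaf (nat_lit 0x9080b0a0203000104050607) (nat_lit 1286))
 (.leaf (nat_lit 0x9080b0a0203000105040706) (nat_lit 1286))
) (.node (nat_lit 0x9080b0a0203000107060504) (.leaf (nat_lit 0x9080b0a0203000106070405) (nat_lit 1542))
 (.leaf (nat_lit 0x9080b0a0203000107060504) (nat_lit 1030))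
)) (.node (nat_lit 0x9080b0a0302010006070405) (.node (nat_lit 0x9080b0a0302010005040706) (.leaf (nat_lit 0x9080b0a0302010004050607) (nat_lit 774))
 (.leaf (nat_lit 0x9080b0a0302010005040706) (nat_lit 774))
) (.node (nat_lit 0x9080b0a0302010007060504) (.leaf (nat_lit 0x9080b0a0302010006070405) (nat_lit 1030))
 (.leaf (nat_lit 0x9080b0a0302010007060504) (nat_lit 518))
)))) (.node (nat_lit 0x9080b0a0607040500010203) (.node (nat_lit 0x9080b0a0504070600010203) (.node (nat_lit 0x9080b0a0405060702030001) (.node (nat_lit 0x9080b0a0405060701000302) (.leaf (nat_lit 0x9080b0a0405060700010203) (nat_lit 772))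
 (.leaf (nat_lit 0x9080b0a0405060701000302) (nat_lit 772))
) (.node (nat_lit 0x9080b0a0405060703020100) (.leaf (nat_lit 0x9080b0a0405060702030001) (nat_lit 1028))
 (.leaf (nat_lit 0x9080b0a0405060703020100) (nat_lit 516))
)) (.node (nat_lit 0x9080b0a0504070602030001) (.node (nat_lit 0x9080b0a0504070601000302) (.leaf (nat_lit 0x9080b0a0504070600010203) (nat_lit 772))
 (.leaf (nat_lit 0x9080b0a0504070601000302) (nat_lit 772))
) (.node (nat_lit 0x9080b0a0504070603020100) (.leaf (nat_lit 0x9080b0a0504070602030001) (nat_lit 1028))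
 (.leaf (nat_lit 0x9080b0a0504070603020100) (nat_lit 516))
))) (.node (nat_lit 0x9080b0a0706050400010203) (.node (nat_lit 0x9080b0a0607040502030001) (.node (nat_lit 0x9080b0a0607040501000302) (.leaf (nat_lit 0x9080b0a0607040500010203) (nat_lit 1028))
 (.leaf (nat_lit 0x9080b0a0607040501000302) (nat_lit 1028))
) (.node (nat_lit 0x9080b0a0607040503020100) (.leaf (nat_lit 0x9080b0a0607040502030001) (nat_lit 1284))
 (.leaf (nat_lit 0x9080b0a0607040503020100) (nat_lit 772))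
)) (.node (nat_lit 0x9080b0a0706050402030001) (.node (nat_lit 0x9080b0a0706050401000302) (.leaf (nat_lit 0x9080b0a0706050400010203) (nat_lit 516))
 (.leaf (nat_lit 0x9080b0a0706050401000302) (nat_lit 516))
) (.node (nat_lit 0x9080b0a0706050403020100) (.leaf (nat_lit 0x9080b0a0706050402030001) (nat_lit 772))
 (.leaf (nat_lit 0x9080b0a0706050403020100) (nat_lit 260))
)))))) (.node (nat_lit 0xb0a09080001020304050607) (.node (nat_lit 0xa0b08090405060700010203) (.node (nat_lit 0xa0b08090203000104050607) (.node (nat_lit 0xa0b08090100030204050607) (.node (nat_lit 0xa0b08090001020306070405) (.node (nat_lit 0xa0b08090001020305040706) (.leaf (nat_lit 0xa0b08090001020304050607) (nat_lit 1286))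
 (.leaf (nat_lit 0xa0b08090001020305040706) (nat_lit 1286))
) (.node (nat_lit 0xa0b08090001020307060504) (.leaf (nat_lit 0xa0b08090001020306070405) (nat_lit 1542))
 (.leaf (nat_lit 0xa0b08090001020307060504) (nat_lit 1030))
)) (.node (nat_lit 0xa0b08090100030206070405) (.node (nat_lit 0xa0b08090100030205040706) (.leaf (nat_lit 0xa0b08090100030204050607) (nat_lit 1286))
 (.leaf (nat_lit 0xa0b08090100030205040706) (nat_lit 1286))
) (.node (nat_lit 0xa0b08090100030207060504) (.leaf (nat_lit 0xa0b08090100030206070405) (nat_lit 1542))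
 (.leaf (nat_lit 0xa0b08090100030207060504) (nat_lit 1030))
))) (.node (nat_lit 0xa0b08090302010004050607) (.node (nat_lit 0xa0b08090203000106070405) (.node (nat_lit 0xa0b08090203000105040706) (.leaf (nat_lit 0xa0b08090203000104050607) (nat_lit 1542))
 (.leaf (nat_lit 0xa0b08090203000105040706) (nat_lit 1542))
) (.node (nat_lit 0xa0b08090203000107060504) (.leaf (nat_lit 0xa0b08090203000106070405) (nat_lit 1798))
 (.leaf (nat_lit 0xa0b08090203000107060504) (nat_lit 1286))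
)) (.node (nat_lit 0xa0b08090302010006070405) (.node (nat_lit 0xa0b08090302010005040706) (.leaf (nat_lit 0xa0b08090302010004050607) (nat_lit 1030))
 (.leaf (nat_lit 0xa0b08090302010005040706) (nat_lit 1030))
) (.node (nat_lit 0xa0b08090302010007060504) (.leaf (nat_lit 0xa0b08090302010006070405) (nat_lit 1286))
 (.leaf (nat_lit 0xa0b08090302010007060504) (nat_lit 774))
)))) (.node (nat_lit 0xa0b08090607040500010203) (.node (nat_lit 0xa0b08090504070600010203) (.node (nat_lit 0xa0b08090405060702030001) (.node (nat_lit 0xa0b08090405060701000302) (.leaf (nat_lit 0xa0b08090405060700010203) (nat_lit 1029))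
 (.leaf (nat_lit 0xa0b08090405060701000302) (nat_lit 1029))
) (.node (nat_lit 0xa0b08090405060703020100) (.leaf (nat_lit 0xa0b08090405060702030001) (nat_lit 1285))
 (.leaf (nat_lit 0xa0b08090405060703020100) (nat_lit 773))
)) (.node (nat_lit 0xa0b08090504070602030001) (.node (nat_lit 0xa0b08090504070601000302) (.leaf (nat_lit 0xa0b08090504070600010203) (nat_lit 1029))
 (.leaf (nat_lit 0xa0b08090504070601000302) (nat_lit 1029))
) (.node (nat_lit 0xa0b08090504070603020100) (.leaf (nat_lit 0xa0b08090504070602030001) (nat_lit 1285))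
 (.leaf (nat_lit 0xa0b08090504070603020100) (nat_lit 773))
))) (.node (nat_lit 0xa0b08090706050400010203) (.node (nat_lit 0xa0b08090607040502030001) (.node (nat_lit 0xa0b08090607040501000302) (.leaf (nat_lit 0xa0b08090607040500010203) (nat_lit 1285))
 (.leaf (nat_lit 0xa0b08090607040501000302) (nat_lit 1285))
) (.node (nat_lit 0xa0b08090607040503020100) (.leaf (nat_lit 0xa0b08090607040502030001) (nat_lit 1541))
 (.leaf (nat_lit 0xa0b08090607040503020100) (nat_lit 1029))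
)) (.node (nat_lit 0xa0b08090706050402030001) (.node (nat_lit 0xa0b08090706050401000302) (.leaf (nat_lit 0xa0b08090706050400010203) (nat_lit 773))
 (.leaf (nat_lit 0xa0b08090706050401000302) (nat_lit 773))
) (.node (nat_lit 0xa0b08090706050403020100) (.leaf (nat_lit 0xa0b08090706050402030001) (nat_lit 1029))
 (.leaf (nat_lit 0xa0b08090706050403020100) (nat_lit 517))
))))) (.node (nat_lit 0xb0a09080405060700010203) (.node (nat_lit 0xb0a09080203000104050607) (.node (nat_lit 0xb0a09080100030204050607) (.node (nat_lit 0xb0a09080001020306070405) (.node (nat_lit 0xb0a09080001020305040706) (.leaf (nat_lit 0xb0a09080001020304050607) (nat_lit 774))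
 (.leaf (nat_lit 0xb0a09080001020305040706) (nat_lit 774))
) (.node (nat_lit 0xb0a09080001020307060504) (.leaf (nat_lit 0xb0a09080001020306070405) (nat_lit 1030))
 (.leaf (nat_lit 0xb0a09080001020307060504) (nat_lit 518))
)) (.node (nat_lit 0xb0a09080100030206070405) (.node (nat_lit 0xb0a09080100030205040706) (.leaf (nat_lit 0xb0a09080100030204050607) (nat_lit 774))
 (.leaf (nat_lit 0xb0a09080100030205040706) (nat_lit 774))
) (.node (nat_lit 0xb0a09080100030207060504) (.leaf (nat_lit 0xb0a09080100030206070405) (nat_lit 1030))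
 (.leaf (nat_lit 0xb0a09080100030207060504) (nat_lit 518))
))) (.node (nat_lit 0xb0a09080302010004050607) (.node (nat_lit 0xb0a09080203000106070405) (.node (nat_lit 0xb0a09080203000105040706) (.leaf (nat_lit 0xb0a09080203000104050607) (nat_lit 1030))
 (.leaf (nat_lit 0xb0a09080203000105040706) (nat_lit 1030))
) (.node (nat_lit 0xb0a09080203000107060504) (.leaf (nat_lit 0xb0a09080203000106070405) (nat_lit 1286))
 (.leaf (nat_lit 0xb0a09080203000107060504) (nat_lit 774))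
)) (.node (nat_lit 0xb0a09080302010006070405) (.node (nat_lit 0xb0a09080302010005040706) (.leaf (nat_lit 0xb0a09080302010004050607) (nat_lit 518))
 (.leaf (nat_lit 0xb0a09080302010005040706) (nat_lit 518))
) (.node (nat_lit 0xb0a09080302010007060504) (.leaf (nat_lit 0xb0a09080302010006070405) (nat_lit 774))
 (.leaf (nat_lit 0xb0a09080302010007060504) (nat_lit 262))
)))) (.node (nat_lit 0xb0a09080607040500010203) (.node (nat_lit 0xb0a09080504070600010203) (.node (nat_lit 0xb0a09080405060702030001) (.node (nat_lit 0xb0a09080405060701000302) (.leaf (nat_lit 0xb0a09080405060700010203) (nat_lit 515))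
 (.leaf (nat_lit 0xb0a09080405060701000302) (nat_lit 515))
) (.node (nat_lit 0xb0a09080405060703020100) (.leaf (nat_lit 0xb0a09080405060702030001) (nat_lit 771))
 (.leaf (nat_lit 0xb0a09080405060703020100) (nat_lit 259))
)) (.node (nat_lit 0xb0a09080504070602030001) (.node (nat_lit 0xb0a09080504070601000302) (.leaf (nat_lit 0xb0a09080504070600010203) (nat_lit 514))
 (.leaf (nat_lit 0xb0a09080504070601000302) (nat_lit 514))
) (.node (nat_lit 0xb0a09080504070603020100) (.leaf (nat_lit 0xb0a09080504070602030001) (nat_lit 770))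
 (.leaf (nat_lit 0xb0a09080504070603020100) (nat_lit 258))
))) (.node (nat_lit 0xb0a09080706050400010203) (.node (nat_lit 0xb0a09080607040502030001) (.node (nat_lit 0xb0a09080607040501000302) (.leaf (nat_lit 0xb0a09080607040500010203) (nat_lit 771))
 (.leaf (nat_lit 0xb0a09080607040501000302) (nat_lit 771))
) (.node (nat_lit 0xb0a09080607040503020100) (.leaf (nat_lit 0xb0a09080607040502030001) (nat_lit 1027))
 (.leaf (nat_lit 0xb0a09080607040503020100) (nat_lit 515))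
)) (.node (nat_lit 0xb0a09080706050402030001) (.node (nat_lit 0xb0a09080706050401000302) (.leaf (nat_lit 0xb0a09080706050400010203) (nat_lit 257))
 (.leaf (nat_lit 0xb0a09080706050401000302) (nat_lit 256))
) (.node (nat_lit 0xb0a09080706050403020100) (.leaf (nat_lit 0xb0a09080706050402030001) (nat_lit 513))
 (.leaf (nat_lit 0xb0a09080706050403020100) (nat_lit 0))
)))))))

theorem Ca_ok : genOK P [(nat_lit 0xb0a09080706050401000302), (nat_lit 0xb0a09080706050400010203), (nat_lit 0xb0a09080504070603020100), (nat_lit 0xb0a09080405060703020100), (nat_lit 0x9080b0a0706050403020100), (nat_lit 0x8090a0b0706050403020100), (nat_lit 0xb0a09080302010007060504)] Ca_t (nat_lit 128) = true := by decide +kernel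

noncomputable def F1_t : ST :=
(.node (nat_lit 0xa0b08090203000106070405) (.node (nat_lit 0x9080b0a0203000106070405) (.node (nat_lit 0x8090a0b0607040502030001) (.node (nat_lit 0x8090a0b0302000107060405) (.node (nat_lit 0x8090a0b0203010006070504) (.leaf (nat_lit 0x8090a0b0203000106070405) (nat_lit 772))
 (.leaf (nat_lit 0x8090a0b0203010006070504) (nat_lit 1028))
) (.node (nat_lit 0x8090a0b0302010007060504) (.leaf (nat_lit 0x8090a0b0302000107060405) (nat_lit 772))
 (.leaf (nat_lit 0x8090a0b0302010007060504) (nat_lit 516))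
)) (.node (nat_lit 0x8090a0b0706040503020001) (.node (nat_lit 0x8090a0b0607050402030100) (.leaf (nat_lit 0x8090a0b0607040502030001) (nat_lit 514))
 (.leaf (nat_lit 0x8090a0b0607050402030100) (nat_lit 771))
) (.node (nat_lit 0x8090a0b0706050403020100) (.leaf (nat_lit 0x8090a0b0706040503020001) (nat_lit 515))
 (.leaf (nat_lit 0x8090a0b0706050403020100) (nat_lit 258))
))) (.node (nat_lit 0x9080b0a0607040502030001) (.node (nat_lit 0x9080b0a0302000107060405) (.node (nat_lit 0x9080b0a0203010006070504) (.leaf (nat_lit 0x9080b0a0203000106070405) (nat_lit 772))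
 (.leaf (nat_lit 0x9080b0a0203010006070504) (nat_lit 1028))
) (.node (nat_lit 0x9080b0a0302010007060504) (.leaf (nat_lit 0x9080b0a0302000107060405) (nat_lit 772))
 (.leaf (nat_lit 0x9080b0a0302010007060504) (nat_lit 516))
)) (.node (nat_lit 0x9080b0a0706040503020001) (.node (nat_lit 0x9080b0a0607050402030100) (.leaf (nat_lit 0x9080b0a0607040502030001) (nat_lit 513))
 (.leaf (nat_lit 0x9080b0a0607050402030100) (nat_lit 771))
) (.node (nat_lit 0x9080b0a0706050403020100) (.leaf (nat_lit 0x9080b0a0706040503020001) (nat_lit 515))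
 (.leaf (nat_lit 0x9080b0a0706050403020100) (nat_lit 257))
)))) (.node (nat_lit 0xb0a09080203000106070405) (.node (nat_lit 0xa0b08090607040502030001) (.node (nat_lit 0xa0b08090302000107060405) (.node (nat_lit 0xa0b08090203010006070504) (.leaf (nat_lit 0xa0b08090203000106070405) (nat_lit 1028))
 (.leaf (nat_lit 0xa0b08090203010006070504) (nat_lit 1284))
) (.node (nat_lit 0xa0b08090302010007060504) (.leaf (nat_lit 0xa0b08090302000107060405) (nat_lit 1028))
 (.leaf (nat_lit 0xa0b08090302010007060504) (nat_lit 772))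
)) (.node (nat_lit 0xa0b08090706040503020001) (.node (nat_lit 0xa0b08090607050402030100) (.leaf (nat_lit 0xa0b08090607040502030001) (nat_lit 770))
 (.leaf (nat_lit 0xa0b08090607050402030100) (nat_lit 1027))
) (.node (nat_lit 0xa0b08090706050403020100) (.leaf (nat_lit 0xa0b08090706040503020001) (nat_lit 771))
 (.leaf (nat_lit 0xa0b08090706050403020100) (nat_lit 514))
))) (.node (nat_lit 0xb0a09080607040502030001) (.node (nat_lit 0xb0a09080302000107060405) (.node (nat_lit 0xb0a09080203010006070504) (.leaf (nat_lit 0xb0a09080203000106070405) (nat_lit 516))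
 (.leaf (nat_lit 0xb0a09080203010006070504) (nat_lit 772))
) (.node (nat_lit 0xb0a09080302010007060504) (.leaf (nat_lit 0xb0a09080302000107060405) (nat_lit 516))
 (.leaf (nat_lit 0xb0a09080302010007060504) (nat_lit 260))
)) (.node (nat_lit 0xb0a09080706040503020001) (.node (nat_lit 0xb0a09080607050402030100) (.leaf (nat_lit 0xb0a09080607040502030001) (nat_lit 256))
 (.leaf (nat_lit 0xb0a09080607050402030100) (nat_lit 515))
) (.node (nat_lit 0xb0a09080706050403020100) (.leaf (nat_lit 0xb0a09080706040503020001) (nat_lit 259))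
 (.leaf (nat_lit 0xb0a09080706050403020100) (nat_lit 0))
)))))

theorem F1_ok : genOK P [(nat_lit 0xb0a09080607040502030001), (nat_lit 0x9080b0a0706050403020100), (nat_lit 0x8090a0b0706050403020100), (nat_lit 0xb0a09080706040503020001), (nat_lit 0xb0a09080302010007060504)] F1_t (nat_lit 32) = true := by decide +kernel

noncomputable def F2_t : ST :=
(.node (nat_lit 0xa0b08090001020304050607) (.node (nat_lit 0x9080b0a0001020304050607) (.node (nat_lit 0x8090a0b0607040502030001) (.node (nat_lit 0x8090a0b0100020304050706) (.node (nat_lit 0x8090a0b0001030205040607) (.leaf (nat_lit 0x8090a0b0001020304050607) (nat_lit 772))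
 (.leaf (nat_lit 0x8090a0b0001030205040607) (nat_lit 1028))
) (.node (nat_lit 0x8090a0b0100030205040706) (.leaf (nat_lit 0x8090a0b0100020304050706) (nat_lit 772))
 (.leaf (nat_lit 0x8090a0b0100030205040706) (nat_lit 516))
)) (.node (nat_lit 0x8090a0b0706040502030100) (.node (nat_lit 0x8090a0b0607050403020001) (.leaf (nat_lit 0x8090a0b0607040502030001) (nat_lit 514))
 (.leaf (nat_lit 0x8090a0b0607050403020001) (nat_lit 771))
) (.node (nat_lit 0x8090a0b0706050403020100) (.leaf (nat_lit 0x8090a0b0706040502030100) (nat_lit 515))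
 (.leaf (nat_lit 0x8090a0b0706050403020100) (nat_lit 258))
))) (.node (nat_lit 0x9080b0a0607040502030001) (.node (nat_lit 0x9080b0a0100020304050706) (.node (nat_lit 0x9080b0a0001030205040607) (.leaf (nat_lit 0x9080b0a0001020304050607) (nat_lit 772))
 (.leaf (nat_lit 0x9080b0a0001030205040607) (nat_lit 1028))
) (.node (nat_lit 0x9080b0a0100030205040706) (.leaf (nat_lit 0x9080b0a0100020304050706) (nat_lit 772))
 (.leaf (nat_lit 0x9080b0a0100030205040706) (nat_lit 516))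
)) (.node (nat_lit 0x9080b0a0706040502030100) (.node (nat_lit 0x9080b0a0607050403020001) (.leaf (nat_lit 0x9080b0a0607040502030001) (nat_lit 513))
 (.leaf (nat_lit 0x9080b0a0607050403020001) (nat_lit 771))
) (.node (nat_lit 0x9080b0a0706050403020100) (.leaf (nat_lit 0x9080b0a0706040502030100) (nat_lit 515))
 (.leaf (nat_lit 0x9080b0a0706050403020100) (nat_lit 257))
)))) (.node (nat_lit 0xb0a09080001020304050607) (.node (nat_lit 0xa0b08090607040502030001) (.node (nat_lit 0xa0b08090100020304050706) (.node (nat_lit 0xa0b08090001030205040607) (.leaf (nat_lit 0xa0b08090001020304050607) (nat_lit 1028))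
 (.leaf (nat_lit 0xa0b08090001030205040607) (nat_lit 1284))
) (.node (nat_lit 0xa0b08090100030205040706) (.leaf (nat_lit 0xa0b08090100020304050706) (nat_lit 1028))
 (.leaf (nat_lit 0xa0b08090100030205040706) (nat_lit 772))
)) (.node (nat_lit 0xa0b08090706040502030100) (.node (nat_lit 0xa0b08090607050403020001) (.leaf (nat_lit 0xa0b08090607040502030001) (nat_lit 770))
 (.leaf (nat_lit 0xa0b08090607050403020001) (nat_lit 1027))
) (.node (nat_lit 0xa0b08090706050403020100) (.leaf (nat_lit 0xa0b08090706040502030100) (nat_lit 771))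
 (.leaf (nat_lit 0xa0b08090706050403020100) (nat_lit 514))
))) (.node (nat_lit 0xb0a09080607040502030001) (.node (nat_lit 0xb0a09080100020304050706) (.node (nat_lit 0xb0a09080001030205040607) (.leaf (nat_lit 0xb0a09080001020304050607) (nat_lit 516))
 (.leaf (nat_lit 0xb0a09080001030205040607) (nat_lit 772))
) (.node (nat_lit 0xb0a09080100030205040706) (.leaf (nat_lit 0xb0a09080100020304050706) (nat_lit 516))
 (.leaf (nat_lit 0xb0a09080100030205040706) (nat_lit 260))
)) (.node (nat_lit 0xb0a09080706040502030100) (.node (nat_lit 0xb0a09080607050403020001) (.leaf (nat_lit 0xb0a09080607040502030001) (nat_lit 256))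
 (.leaf (nat_lit 0xb0a09080607050403020001) (nat_lit 515))
) (.node (nat_lit 0xb0a09080706050403020100) (.leaf (nat_lit 0xb0a09080706040502030100) (nat_lit 259))
 (.leaf (nat_lit 0xb0a09080706050403020100) (nat_lit 0))
)))))

theorem F2_ok : genOK P [(nat_lit 0xb0a09080607040502030001), (nat_lit 0x9080b0a0706050403020100), (nat_lit 0x8090a0b0706050403020100), (nat_lit 0xb0a09080706040502030100), (nat_lit 0xb0a09080100030205040706)] F2_t (nat_lit 32) = true := by decide +kernel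

noncomputable def Q64_t : ST :=
(.node (nat_lit 0xb0a09080001020304050607) (.node (nat_lit 0xa0b08090405060700010203) (.node (nat_lit 0xa0b08090203000106070405) (.node (nat_lit 0xa0b08090100020304050706) (.node (nat_lit 0xa0b08090001030204050706) (.node (nat_lit 0xa0b08090001020305040706) (.leaf (nat_lit 0xa0b08090001020304050607) (nat_lit 1285))
 (.leaf (nat_lit 0xa0b08090001020305040706) (nat_lit 1029))
) (.node (nat_lit 0xa0b08090001030205040607) (.leaf (nat_lit 0xa0b08090001030204050706) (nat_lit 1029))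
 (.leaf (nat_lit 0xa0b08090001030205040607) (nat_lit 1285))
)) (.node (nat_lit 0xa0b08090100030204050607) (.node (nat_lit 0xa0b08090100020305040607) (.leaf (nat_lit 0xa0b08090100020304050706) (nat_lit 1285))
 (.leaf (nat_lit 0xa0b08090100020305040607) (nat_lit 1029))
) (.node (nat_lit 0xa0b08090100030205040706) (.leaf (nat_lit 0xa0b08090100030204050607) (nat_lit 1029))
 (.leaf (nat_lit 0xa0b08090100030205040706) (nat_lit 773))
))) (.node (nat_lit 0xa0b08090302000106070504) (.node (nat_lit 0xa0b08090203010006070504) (.node (nat_lit 0xa0b08090203000107060504) (.leaf (nat_lit 0xa0b08090203000106070405) (nat_lit 1029))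
 (.leaf (nat_lit 0xa0b08090203000107060504) (nat_lit 773))
) (.node (nat_lit 0xa0b08090203010007060405) (.leaf (nat_lit 0xa0b08090203010006070504) (nat_lit 1285))
 (.leaf (nat_lit 0xa0b08090203010007060405) (nat_lit 1029))
)) (.node (nat_lit 0xa0b08090302010006070405) (.node (nat_lit 0xa0b08090302000107060405) (.leaf (nat_lit 0xa0b08090302000106070504) (nat_lit 1029))
 (.leaf (nat_lit 0xa0b08090302000107060405) (nat_lit 773))
) (.node (nat_lit 0xa0b08090302010007060504) (.leaf (nat_lit 0xa0b08090302010006070405) (nat_lit 773))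
 (.leaf (nat_lit 0xa0b08090302010007060504) (nat_lit 517))
)))) (.node (nat_lit 0xa0b08090607040502030001) (.node (nat_lit 0xa0b08090504060700010302) (.node (nat_lit 0xa0b08090405070600010302) (.node (nat_lit 0xa0b08090405060701000302) (.leaf (nat_lit 0xa0b08090405060700010203) (nat_lit 1027))
 (.leaf (nat_lit 0xa0b08090405060701000302) (nat_lit 771))
) (.node (nat_lit 0xa0b08090405070601000203) (.leaf (nat_lit 0xa0b08090405070600010302) (nat_lit 772))
 (.leaf (nat_lit 0xa0b08090405070601000203) (nat_lit 1028))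
)) (.node (nat_lit 0xa0b08090504070600010203) (.node (nat_lit 0xa0b08090504060701000203) (.leaf (nat_lit 0xa0b08090504060700010302) (nat_lit 1027))
 (.leaf (nat_lit 0xa0b08090504060701000203) (nat_lit 771))
) (.node (nat_lit 0xa0b08090504070601000302) (.leaf (nat_lit 0xa0b08090504070600010203) (nat_lit 771))
 (.leaf (nat_lit 0xa0b08090504070601000302) (nat_lit 515))
))) (.node (nat_lit 0xa0b08090706040502030100) (.node (nat_lit 0xa0b08090607050402030100) (.node (nat_lit 0xa0b08090607040503020100) (.leaf (nat_lit 0xa0b08090607040502030001) (nat_lit 770))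
 (.leaf (nat_lit 0xa0b08090607040503020100) (nat_lit 514))
) (.node (nat_lit 0xa0b08090607050403020001) (.leaf (nat_lit 0xa0b08090607050402030100) (nat_lit 1028))
 (.leaf (nat_lit 0xa0b08090607050403020001) (nat_lit 772))
)) (.node (nat_lit 0xa0b08090706050402030001) (.node (nat_lit 0xa0b08090706040503020001) (.leaf (nat_lit 0xa0b08090706040502030100) (nat_lit 772))
 (.leaf (nat_lit 0xa0b08090706040503020001) (nat_lit 516))
) (.node (nat_lit 0xa0b08090706050403020100) (.leaf (nat_lit 0xa0b08090706050402030001) (nat_lit 514))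
 (.leaf (nat_lit 0xa0b08090706050403020100) (nat_lit 258))
))))) (.node (nat_lit 0xb0a09080405060700010203) (.node (nat_lit 0xb0a09080203000106070405) (.node (nat_lit 0xb0a09080100020304050706) (.node (nat_lit 0xb0a09080001030204050706) (.node (nat_lit 0xb0a09080001020305040706) (.leaf (nat_lit 0xb0a09080001020304050607) (nat_lit 1029))
 (.leaf (nat_lit 0xb0a09080001020305040706) (nat_lit 773))
) (.node (nat_lit 0xb0a09080001030205040607) (.leaf (nat_lit 0xb0a09080001030204050706) (nat_lit 773))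
 (.leaf (nat_lit 0xb0a09080001030205040607) (nat_lit 1029))
)) (.node (nat_lit 0xb0a09080100030204050607) (.node (nat_lit 0xb0a09080100020305040607) (.leaf (nat_lit 0xb0a09080100020304050706) (nat_lit 1029))
 (.leaf (nat_lit 0xb0a09080100020305040607) (nat_lit 773))
) (.node (nat_lit 0xb0a09080100030205040706) (.leaf (nat_lit 0xb0a09080100030204050607) (nat_lit 773))
 (.leaf (nat_lit 0xb0a09080100030205040706) (nat_lit 517))
))) (.node (nat_lit 0xb0a09080302000106070504) (.node (nat_lit 0xb0a09080203010006070504) (.node (nat_lit 0xb0a09080203000107060504) (.leaf (nat_lit 0xb0a09080203000106070405) (nat_lit 773))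
 (.leaf (nat_lit 0xb0a09080203000107060504) (nat_lit 517))
) (.node (nat_lit 0xb0a09080203010007060405) (.leaf (nat_lit 0xb0a09080203010006070504) (nat_lit 1029))
 (.leaf (nat_lit 0xb0a09080203010007060405) (nat_lit 773))
)) (.node (nat_lit 0xb0a09080302010006070405) (.node (nat_lit 0xb0a09080302000107060405) (.leaf (nat_lit 0xb0a09080302000106070504) (nat_lit 773))
 (.leaf (nat_lit 0xb0a09080302000107060405) (nat_lit 517))
) (.node (nat_lit 0xb0a09080302010007060504) (.leaf (nat_lit 0xb0a09080302010006070405) (nat_lit 517))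
 (.leaf (nat_lit 0xb0a09080302010007060504) (nat_lit 261))
)))) (.node (nat_lit 0xb0a09080607040502030001) (.node (nat_lit 0xb0a09080504060700010302) (.node (nat_lit 0xb0a09080405070600010302) (.node (nat_lit 0xb0a09080405060701000302) (.leaf (nat_lit 0xb0a09080405060700010203) (nat_lit 771))
 (.leaf (nat_lit 0xb0a09080405060701000302) (nat_lit 515))
) (.node (nat_lit 0xb0a09080405070601000203) (.leaf (nat_lit 0xb0a09080405070600010302) (nat_lit 516))
 (.leaf (nat_lit 0xb0a09080405070601000203) (nat_lit 772))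
)) (.node (nat_lit 0xb0a09080504070600010203) (.node (nat_lit 0xb0a09080504060701000203) (.leaf (nat_lit 0xb0a09080504060700010302) (nat_lit 771))
 (.leaf (nat_lit 0xb0a09080504060701000203) (nat_lit 515))
) (.node (nat_lit 0xb0a09080504070601000302) (.leaf (nat_lit 0xb0a09080504070600010203) (nat_lit 515))
 (.leaf (nat_lit 0xb0a09080504070601000302) (nat_lit 259))
))) (.node (nat_lit 0xb0a09080706040502030100) (.node (nat_lit 0xb0a09080607050402030100) (.node (nat_lit 0xb0a09080607040503020100) (.leaf (nat_lit 0xb0a09080607040502030001) (nat_lit 513))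
 (.leaf (nat_lit 0xb0a09080607040503020100) (nat_lit 257))
) (.node (nat_lit 0xb0a09080607050403020001) (.leaf (nat_lit 0xb0a09080607050402030100) (nat_lit 772))
 (.leaf (nat_lit 0xb0a09080607050403020001) (nat_lit 516))
)) (.node (nat_lit 0xb0a09080706050402030001) (.node (nat_lit 0xb0a09080706040503020001) (.leaf (nat_lit 0xb0a09080706040502030100) (nat_lit 516))
 (.leaf (nat_lit 0xb0a09080706040503020001) (nat_lit 260))
) (.node (nat_lit 0xb0a09080706050403020100) (.leaf (nat_lit 0xb0a09080706050402030001) (nat_lit 256))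
 (.leaf (nat_lit 0xb0a09080706050403020100) (nat_lit 0))
))))))

theorem Q64_ok : genOK P [(nat_lit 0xb0a09080706050402030001), (nat_lit 0xb0a09080607040503020100), (nat_lit 0xa0b08090706050403020100), (nat_lit 0xb0a09080504070601000302), (nat_lit 0xb0a09080706040503020001), (nat_lit 0xb0a09080302010007060504)] Q64_t (nat_lit 64) = true := by decide +kernel

end Cfsg.Agent.O7
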