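import Mathlib
import Cfsg.Agent.Inv.FzBasic
import Cfsg.Agent.P4.Lift

/-!
Seven commuting involutions with product one (the "labels"): definitions.
Plan: `stubs/Cfsg/Agent/O7/PLAN.md`.
-/

set_option autoImplicit false

namespace Cfsg.Agent.O7

open Subgroup Equiv Cfsg.Agent.Inv.Fz Cfsg.Agent.GW
open scoped commutatorElement

variable {G : Type*} [Group G]

/-- The product of the labels in `J`. -/
def pr (a : Fin 7 → G) (J : Finset (Fin 7)) : G := ((List.finRange 7).map fun i => if i ∈ J then a i else 1).prod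

/-- The group generated by the labels. -/
def EE (a : Fin 7 → G) : Subgroup G := closure (Set.range a)

/-- Seven commuting involutions with product one, generating a group of order 64. -/
structure Lab (a : Fin 7 → G) : Prop where
  sq : ∀ i, a i * a i = 1
  comm : ∀ i j, Commute (a i) (a j)
  one : ∀ J, pr a J = 1 ↔ J = ∅ ∨ J = Finset.univ

/-- `g` permutes the labels by `σ`. -/
def Acts (a : Fin 7 → G) (g : G) (σ : Perm (Fin 7)) : Prop := ∀ i, g * a i * g⁻¹ = a (σ i)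

/-- The centraliser of the hyperplane of `EE a` belonging to the even set `J`. -/
def CJ (a : Fin 7 → G) (J : Finset (Fin 7)) : Subgroup G :=
  centralizer ({x | ∃ i ∉ J, x = a i} ∪ {x | ∃ i ∈ J, ∃ j ∈ J, x = a i * a j})

/-- The centraliser of the labels outside `T`. -/
def CT (a : Fin 7 → G) (T : Finset (Fin 7)) : Subgroup G := centralizer {x | ∃ i ∉ T, x = a i}

theorem mem_CJ {a : Fin 7 → G} {J : Finset (Fin 7)} {g : G} :
    g ∈ CJ a J ↔ (∀ i ∉ J, Commute g (a i)) ∧ ∀ i ∈ J, ∀ j ∈ J, Commute g (a i * a j) :=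
  ⟨fun h => ⟨fun i hi => (h _ (.inl ⟨i, hi, rfl⟩)).symm, fun i hi j hj => (h _ (.inr ⟨i, hi, j, hj, rfl⟩)).symm⟩,
    fun h => by
      rintro _ (⟨i, hi, rfl⟩ | ⟨i, hi, j, hj, rfl⟩)
      exacts [(h.1 i hi).symm, (h.2 i hi j hj).symm]⟩

theorem mem_CT {a : Fin 7 → G} {T : Finset (Fin 7)} {g : G} : g ∈ CT a T ↔ ∀ i ∉ T, Commute g (a i) :=
  ⟨fun h i hi => (h _ ⟨i, hi, rfl⟩).symm, fun h => by rintro _ ⟨i, hi, rfl⟩; exact (h i hi).symm⟩

theorem mem_EE (a : Fin 7 → G) (i : Fin 7) : a i ∈ EE a := subset_closure ⟨i, rfl⟩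

/-- The part of the cores belonging to `J`. -/
def Th (a : Fin 7 → G) (J : Finset (Fin 7)) : Subgroup G := CJ a J ⊓ ⨅ i ∉ J, UU (a i)

theorem mem_Th {a : Fin 7 → G} {J : Finset (Fin 7)} {g : G} : g ∈ Th a J ↔ g ∈ CJ a J ∧ ∀ i ∉ J, g ∈ UU (a i) := by
  simp [Th, mem_iInf]

/-- `(0 1)(2 3)`. -/
def g1 : Perm (Fin 7) := swap 0 1 * swap 2 3
/-- `(0 1)(4 5)`. -/
def g2 : Perm (Fin 7) := swap 0 1 * swap 4 5
/-- `(0 2)(1 3)`. -/
def g3 : Perm (Fin 7) := swap 0 2 * swap 1 3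
/-- `(0 4)(1 5)`. -/
def g4 : Perm (Fin 7) := swap 0 4 * swap 1 5
/-- The dihedral group generated by `g1, g2, g3`. -/
def d8 : List (Perm (Fin 7)) := [1, g1, g2, g1 * g2, g3, g3 * g1, g3 * g2, g3 * g1 * g2]

/-- The labels in a Sylow 2-subgroup: they are the conjugates of `a 6`. -/
structure Gl0 (a : Fin 7 → G) (S : Subgroup G) : Prop where
  lab : Lab a
  syl : IsSylIn 2 S ⊤
  card : Nat.card S = 512
  le : ∀ i, a i ∈ S
  act : ∀ s ∈ S, ∃ σ ∈ d8, Acts a s σ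
  ker : ∀ s ∈ S, (∀ i, Commute s (a i)) → s ∈ EE a
  e1 : ∃ s ∈ S, Acts a s g1
  e2 : ∃ s ∈ S, Acts a s g2
  e3 : ∃ s ∈ S, Acts a s g3
  e4 : ∃ r, Acts a r g4
  iso : ∀ g, g * a 6 * g⁻¹ ∈ S → ∃ i, g * a 6 * g⁻¹ = a i
  mv : IsConj (a 6) (a 4)

/-- `Gl0` and the position of the class of `a 4 * a 5` outside `EE a`. -/
structure Gl (a : Fin 7 → G) (S : Subgroup G) : Prop extends Gl0 a S where
  cos : ∀ x ∈ S, x * x = 1 → x ∉ EE a → ∀ i j k, i ≠ j → j ≠ k → i ≠ k → Commute x (a i) → Commute x (a j) →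
    Commute x (a k) → IsConj (x * (a i * a j)) (x * (a j * a k)) → IsConj (x * (a j * a k)) (x * (a i * a k)) →
    IsConj (a 4 * a 5) x

/-- The local facts in the centraliser of `a 6`, without core. -/
structure Loc (a : Fin 7 → G) : Prop where
  p1 : ∀ J : Finset (Fin 7), 6 ∉ J → Even J.card → 4 ≤ J.card → ∀ x ∈ CJ a J, Odd (orderOf x) → ∀ i, Commute x (a i)
  p2 : ∀ T : Finset (Fin 7), 6 ∉ T → T.card = 3 → ∀ O : Subgroup G, Odd (Nat.card O) → O ≤ CT a T →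
    CT a T ≤ normalizer (O : Set G) → O = ⊥
  p3 : ∀ M : Subgroup G, normalizer (EE a : Set G) ⊓ Cen (a 6) ≤ M → Cen (a 4) ⊓ Cen (a 5) ⊓ Cen (a 6) ≤ M →
    Cen (a 6) ≤ M

/-- The local facts with cores. -/
structure LocG (a : Fin 7 → G) : Prop where
  p1 : ∀ J : Finset (Fin 7), Even J.card → 4 ≤ J.card → ∀ i ∉ J, ∀ x ∈ CJ a J, Odd (orderOf x) →
    ∀ j, ⁅x, a j⁆ ∈ UU (a i)
  p2 : ∀ T : Finset (Fin 7), T.card = 3 → ∀ i ∉ T, ∀ O : Subgroup G, Odd (Nat.card O) → O ≤ CT a T →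
    CT a T ≤ normalizer (O : Set G) → O ≤ UU (a i)
  p3 : ∀ M : Subgroup G, UU (a 6) ≤ M → normalizer (EE a : Set G) ⊓ Cen (a 6) ≤ M →
    Cen (a 4) ⊓ Cen (a 5) ⊓ Cen (a 6) ≤ M → Cen (a 6) ≤ M

/-- `A₁₂` or `A₁₃`. -/
def IsAlt (G : Type*) [Group G] : Prop :=
  Nonempty (G ≃* alternatingGroup (Fin 12)) ∨ Nonempty (G ≃* alternatingGroup (Fin 13))

end Cfsg.Agent.O7
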