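import Mathlib
import Cfsg.Agent.O7.Data2
import Cfsg.Agent.O7.LDefs
import Cfsg.Agent.Yam.Base
import Cfsg.Agent.Rec.Sim

/-!
A Sylow 2-subgroup of type `A₁₂` in letters (a chart). The letters are those of `Yam.St`.
Plan: `stubs/Cfsg/Agent/O7/PLAN.md`.
-/

set_option autoImplicit false
set_option synthInstance.maxSize 100000
set_option synthInstance.maxHeartbeats 1000000
set_option linter.unusedSectionVars false

namespace Cfsg.Agent.O7

open Cfsg.Agent.Spor Cfsg.Agent.Rec Cfsg.Agent.Inv.Fz Cfsg.Agent.Yam Subgroup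

universe u

/-- The elements of `K` whose code is listed in `D`. -/
def flt {G : Type*} [Group G] {A : Ar} (C : Cod A G) (K : Set G) (D : Dom) : Set G :=
  {x | x ∈ K ∧ ∃ a, C.Rep a x ∧ D.has a = true}

theorem lists_flt {G : Type*} [Group G] {A : Ar} {C : Cod A G} {D E : Dom} {K : Set G} (h : C.Lists D K) :
    C.Lists (D.inter E) (flt C K E) := by
  have k : ∀ a, C.V a → (C.elt a ∈ flt C K E ↔ C.elt a ∈ K ∧ E.has a = true) := fun a ha =>
    and_congr_right fun _ => ⟨fun ⟨b, hb, e⟩ => C.inj hb.1 ha hb.2 ▸ e, fun e => ⟨a, ⟨ha, rfl⟩, e⟩⟩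
  refine ⟨fun f => (h.all _).trans ⟨fun H a ha hm => ?_, fun H a ha hm => ?_⟩, fun a ha => ?_,
    fun x hx => h.cov x hx.1⟩
  · have := H a ha ((k a ha).1 hm).1
    rwa [((k a ha).1 hm).2] at this
  · cases e : E.has a
    · rfl
    · exact H a ha ((k a ha).2 ⟨hm, e⟩)
  · rw [k a ha, ← h.has a ha]
    exact band_iff _ _

/-- A Sylow 2-subgroup of `G` is the explicit group of order `512`. -/
structure Crt (G : Type u) [Group G] where
  (A A' C D X X' f h w : G)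
  cod : Cod P G
  rep0 : cod.RepL c9 [A, A', C, D, X, X', f, h, w]
  syl0 : IsSylIn 2 (clos [A, A', C, D, X, X', f, h, w]) ⊤

variable {G : Type u} [Group G]

namespace Crt

variable (s : Crt G)

/-- `τ1 τ2`, the subset `{1,2}`. -/
def d1 : G := s.A * s.A'
/-- `τ3 τ4`, the subset `{3,4}`. -/
def d2 : G := s.C * s.D
/-- `τ5 τ6`, the subset `{5,6}`. -/
def d3 : G := s.X * s.X'
/-- `{1,2,3,4}`. -/
def z : G := s.d1 * s.d2
/-- `{1,…,6}`. -/
def α : G := s.z * s.d3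

/-- The generators. -/
abbrev e9 : List G := [s.A, s.A', s.C, s.D, s.X, s.X', s.f, s.h, s.w]
/-- All letters. -/
abbrev e : List G := [s.A, s.A', s.C, s.D, s.X, s.X', s.f, s.h, s.w, s.d1, s.d2, s.d3, s.z, s.α]

theorem rep : s.cod.RepL cE s.e := by
  have a1 : s.cod.Rep (nth 0 cE 9) s.d1 := s.rep0.term (s.A * s.A') (by decide +kernel)
  have a2 : s.cod.Rep (nth 0 cE 10) s.d2 := s.rep0.term (s.C * s.D) (by decide +kernel)
  have a3 : s.cod.Rep (nth 0 cE 11) s.d3 := s.rep0.term (s.X * s.X') (by decide +kernel)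
  have h4 := a1.cons (a2.cons (a3.cons s.rep0))
  have hz : s.cod.Rep (nth 0 cE 12) s.z := h4.term (s.d1 * s.d2) (by decide +kernel)
  have ha : s.cod.Rep (nth 0 cE 13) s.α := (hz.cons h4).term (s.z * s.d3) (by decide +kernel)
  exact s.rep0.append (c' := cE.drop 9) <| a1.cons <| a2.cons <| a3.cons <| hz.cons <| ha.cons Cod.repL_nil

/-- The Sylow subgroup. -/
def S : Subgroup G := clos s.e9
/-- The elementary abelian subgroup of order 64. -/
def E : Subgroup G := clos [s.A, s.A', s.C, s.D, s.X, s.X']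
/-- The centraliser of `X` in `S`. -/
def R : Subgroup G := clos [s.A, s.A', s.C, s.D, s.X, s.X', s.f, s.w]
/-- The even sign changes. -/
def F : Subgroup G := clos [s.d1, s.d2, s.d3, s.f, s.h]
/-- `F ⊓ R`. -/
def F0 : Subgroup G := clos [s.d1, s.d2, s.d3, s.f]
/-- `E ⊓ F`. -/
def Dd : Subgroup G := clos [s.d1, s.d2, s.d3]
/-- A hyperplane of `E`. -/
def U32 : Subgroup G := clos [s.d1, s.d2, s.A * s.C, s.X, s.X']
/-- The group generated by the last three labels. -/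
def Z8 : Subgroup G := clos [s.z, s.X, s.X']
/-- The even subsets of `{1,…,6}`. -/
def E0 : Subgroup G := clos [s.d1, s.d2, s.d3, s.A * s.C, s.A * s.X]
/-- The Sylow subgroup of the derived group of the centraliser of `α`. -/
def S0 : Subgroup G := clos [s.d1, s.d2, s.d3, s.A * s.C, s.A * s.X, s.f, s.h, s.w]
/-- A complement to `F`. -/
def T16 : Subgroup G := clos [s.A, s.C, s.X, s.w]
/-- The centraliser of `A C` in `S`. -/
def Ca : Subgroup G := clos [s.A, s.A', s.C, s.D, s.X, s.X', s.w]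
/-- An elementary abelian subgroup of order 32. -/
def F1 : Subgroup G := clos [s.z, s.X, s.X', s.f, s.w]
/-- The conjugate of `F1` by `A`. -/
def F2 : Subgroup G := clos [s.z, s.X, s.X', s.d1 * s.f, s.A * s.C * s.w]
/-- A subgroup of order 64 of `S0`. -/
def Q64 : Subgroup G := clos [s.d1, s.d2, s.d3, s.A * s.C, s.f, s.w]
/-- The part in `S` of the class of `d3` in the Weyl group. -/
def cd : Set G := flt s.cod s.S cd_t.dom
/-- The class of `z`. -/
def cdd : Set G := flt s.cod s.S cdd_t.dom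
/-- The class of `X`. -/
def ca : Set G := flt s.cod s.S ca_t.dom
/-- The class of `X α`. -/
def cdda : Set G := flt s.cod s.S cdda_t.dom
/-- The class of `A d3`. -/
def cda : Set G := flt s.cod s.S cda_t.dom
/-- The class of `A C`. -/
def caa : Set G := flt s.cod s.S caa_t.dom
/-- The class of `A C d3`. -/
def cdaa : Set G := flt s.cod s.S cdaa_t.dom
/-- The class of `A C X`. -/
def cp : Set G := flt s.cod s.S cp_t.dom
/-- The class of `A C X'`. -/
def cm : Set G := flt s.cod s.S cm_t.dom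
/-- The labels. -/
def a : Fin 7 → G := ![s.A * s.α, s.A' * s.α, s.C * s.α, s.D * s.α, s.X * s.α, s.X' * s.α, s.α]
/-- `τ1 τi`. -/
def u : Fin 6 → G := ![1, s.d1, s.f, s.f * s.d2, s.h * s.d3, s.h]
/-- The duads `τi τj`. -/
def tau (i j : Fin 6) : G := s.u i * s.u j
/-- `g` permutes the duads by `π`. -/
def ActF (g : G) (π : Equiv.Perm (Fin 6)) : Prop := ∀ i j, g * s.tau i j * g⁻¹ = s.tau (π i) (π j)

theorem gS : s.cod.Lists S_t.dom s.S ∧ Nat.card s.S = 512 := s.rep0.gen S_ok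
theorem gE : s.cod.Lists V_t.dom s.E ∧ Nat.card s.E = 64 := (s.rep.pick [0, 1, 2, 3, 4, 5]).gen V_ok
theorem gR : s.cod.Lists R_t.dom s.R ∧ Nat.card s.R = 256 := (s.rep.pick [0, 1, 2, 3, 4, 5, 6, 8]).gen R_ok
theorem gF : s.cod.Lists F_t.dom s.F ∧ Nat.card s.F = 32 := (s.rep.pick [9, 10, 11, 6, 7]).gen F_ok
theorem gF0 : s.cod.Lists F0_t.dom s.F0 ∧ Nat.card s.F0 = 16 := (s.rep.pick [9, 10, 11, 6]).gen F0_ok
theorem gDd : s.cod.Lists Dd_t.dom s.Dd ∧ Nat.card s.Dd = 8 := (s.rep.pick [9, 10, 11]).gen Dd_ok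
theorem gU32 : s.cod.Lists U32_t.dom s.U32 ∧ Nat.card s.U32 = 32 :=
  ((s.rep.nth 9).cons <| (s.rep.nth 10).cons <| (s.rep.tm (.mul (.v 0) (.v 2))).cons (s.rep.pick [4, 5])).gen U32_ok
theorem gZ8 : s.cod.Lists Z8_t.dom s.Z8 ∧ Nat.card s.Z8 = 8 := (s.rep.pick [12, 4, 5]).gen Z8_ok
theorem gE0 : s.cod.Lists E0_t.dom s.E0 ∧ Nat.card s.E0 = 32 :=
  ((s.rep.nth 9).cons <| (s.rep.nth 10).cons <| (s.rep.nth 11).cons <| (s.rep.tm (.mul (.v 0) (.v 2))).cons <|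
    (s.rep.tm (.mul (.v 0) (.v 4))).cons Cod.repL_nil).gen E0_ok
theorem gS0 : s.cod.Lists S0_t.dom s.S0 ∧ Nat.card s.S0 = 256 :=
  ((s.rep.nth 9).cons <| (s.rep.nth 10).cons <| (s.rep.nth 11).cons <| (s.rep.tm (.mul (.v 0) (.v 2))).cons <|
    (s.rep.tm (.mul (.v 0) (.v 4))).cons (s.rep.pick [6, 7, 8])).gen S0_ok
theorem gT16 : s.cod.Lists T16_t.dom s.T16 ∧ Nat.card s.T16 = 16 := (s.rep.pick [0, 2, 4, 8]).gen T16_ok
theorem gCa : s.cod.Lists Ca_t.dom s.Ca ∧ Nat.card s.Ca = 128 := (s.rep.pick [0, 1, 2, 3, 4, 5, 8]).gen Ca_ok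
theorem gF1 : s.cod.Lists F1_t.dom s.F1 ∧ Nat.card s.F1 = 32 := (s.rep.pick [12, 4, 5, 6, 8]).gen F1_ok
theorem gF2 : s.cod.Lists F2_t.dom s.F2 ∧ Nat.card s.F2 = 32 :=
  ((s.rep.nth 12).cons <| (s.rep.nth 4).cons <| (s.rep.nth 5).cons <| (s.rep.tm (.mul (.v 9) (.v 6))).cons <|
    (s.rep.tm (.mul (.mul (.v 0) (.v 2)) (.v 8))).cons Cod.repL_nil).gen F2_ok
theorem gQ64 : s.cod.Lists Q64_t.dom s.Q64 ∧ Nat.card s.Q64 = 64 :=
  ((s.rep.nth 9).cons <| (s.rep.nth 10).cons <| (s.rep.nth 11).cons <| (s.rep.tm (.mul (.v 0) (.v 2))).cons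
    (s.rep.pick [6, 8])).gen Q64_ok

/-- Facts about the subgroups: `s.hL.decide s.rep (by decide +kernel)`. -/
theorem hL : s.cod.ListsL [S_t.dom, V_t.dom, R_t.dom, F_t.dom, F0_t.dom, Dd_t.dom, U32_t.dom, Z8_t.dom, E0_t.dom,
      S0_t.dom, T16_t.dom, Ca_t.dom, F1_t.dom, F2_t.dom, Q64_t.dom, S_t.dom.inter cd_t.dom, S_t.dom.inter cdd_t.dom,
      S_t.dom.inter ca_t.dom, S_t.dom.inter cdda_t.dom, S_t.dom.inter cda_t.dom, S_t.dom.inter caa_t.dom,
      S_t.dom.inter cdaa_t.dom, S_t.dom.inter cp_t.dom, S_t.dom.inter cm_t.dom]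
    [s.S, s.E, s.R, s.F, s.F0, s.Dd, s.U32, s.Z8, s.E0, s.S0, s.T16, s.Ca, s.F1, s.F2, s.Q64,
      s.cd, s.cdd, s.ca, s.cdda, s.cda, s.caa, s.cdaa, s.cp, s.cm] :=
  s.gS.1.cons <| s.gE.1.cons <| s.gR.1.cons <| s.gF.1.cons <| s.gF0.1.cons <| s.gDd.1.cons <| s.gU32.1.cons <|
    s.gZ8.1.cons <| s.gE0.1.cons <| s.gS0.1.cons <| s.gT16.1.cons <| s.gCa.1.cons <| s.gF1.1.cons <| s.gF2.1.cons <|
    s.gQ64.1.cons <| (lists_flt s.gS.1).cons <| (lists_flt s.gS.1).cons <| (lists_flt s.gS.1).cons <|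
    (lists_flt s.gS.1).cons <| (lists_flt s.gS.1).cons <| (lists_flt s.gS.1).cons <| (lists_flt s.gS.1).cons <|
    (lists_flt s.gS.1).cons <| (lists_flt s.gS.1).cons Cod.listsL_nil

theorem syl : IsSylIn 2 s.S ⊤ := s.syl0
theorem sat9 : Sat rl9 s.e9 := s.rep0.sat rl9_ok

/-- The enumeration of `E`: the bits `1, 2, 4, 8, 16, 32` are `A, A', C, D, X, X'`. -/
noncomputable def εE : ℕ → G := nth 1 (wE.map (evalW (nth 1 s.e)))
/-- The enumeration of `F`: the bits `1, 2, 4, 8, 16` are `d1, d2, d3, f, h`. -/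
noncomputable def εF : ℕ → G := nth 1 (wF.map (evalW (nth 1 s.e)))

theorem repE : s.cod.RepL cV (wE.map (evalW (nth 1 s.e))) := s.rep.words wE wE_ok
theorem repF : s.cod.RepL cF (wF.map (evalW (nth 1 s.e))) := s.rep.words wF wF_ok
theorem epsE : Eps 64 s.εE s.E := eps_of_codes s.repE s.gE.1 epsV_ok
theorem epsF : Eps 32 s.εF s.F := eps_of_codes s.repF s.gF.1 epsF_ok
theorem E_comm : ∀ x ∈ s.E, ∀ y ∈ s.E, x * y = y * x := s.epsE.comm
theorem E_sq : ∀ x ∈ s.E, x * x = 1 := s.epsE.sq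
theorem F_comm : ∀ x ∈ s.F, ∀ y ∈ s.F, x * y = y * x := s.epsF.comm
theorem F_sq : ∀ x ∈ s.F, x * x = 1 := s.epsF.sq

/-- The normaliser of `F`. -/
abbrev NF : Subgroup G := normalizer (s.F : Set G)
/-- The normaliser of `E`. -/
abbrev NE : Subgroup G := normalizer (s.E : Set G)

/-- The class of `d3` in `S` in the second case. -/
def cb : Set G := {x | x ∈ s.cd ∨ x ∈ s.ca ∨ x ∈ s.caa}

/-- The normaliser of `F` induces the symmetric group on the duads. -/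
structure Sym6 : Prop where
  act : ∀ n ∈ s.NF, ∃ π, s.ActF n π
  all : ∀ π, ∃ n ∈ s.NF, s.ActF n π

/-- `π` maps the normaliser of `F` onto the Weyl group of type `D₆`, with kernel of odd order. -/
structure W6 {Q : Type u} [Group Q] (t : St Q) (π : G → Q) : Prop where
  mul : ∀ g ∈ s.NF, ∀ g' ∈ s.NF, π (g * g') = π g * π g'
  surj : ∀ y, ∃ g ∈ s.NF, π g = y
  ker : ∀ g ∈ s.NF, π g = 1 → Odd (orderOf g)
  top : t.H = ⊤
  lett : s.e9.map π = [t.A, t.A', t.C, t.D, t.X, t.X', t.f, t.h, t.w]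

/-- The normaliser of `F` is, modulo its core, the Weyl group of type `D₆`. -/
def HasW : Prop := ∃ (Q : Type u) (_ : Group Q) (t : St Q) (π : G → Q), s.W6 t π

/-- The normalised fusion. -/
def Nrm : Prop := IsConj s.α (s.X * s.α) ∧ ¬ IsConj s.α s.X

/-- The first case: the fusion of `A₁₂`. -/
structure One : Prop where
  w : s.HasW
  nrm : s.Nrm
  daa : IsConj s.α (s.A * s.C * s.d3)
  p : IsConj s.α (s.A * s.C * s.X)
  m : IsConj s.α (s.A * s.C * s.X')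

/-- The second case: the fusion of `Sp₆(2)` or `Ω₇(q)`. -/
structure Two : Prop where
  w : s.HasW
  nrm : s.Nrm
  iso : ∀ x ∈ s.S, IsConj s.α x → x = s.α ∨ x ∈ s.cdda

/-- The chart in the centraliser of `α` modulo its core. -/
structure Yc : Prop where
  z : ∀ y, Commute y s.α
  odd : oddCore G = ⊥
  w : s.HasW
  iso : ∀ y, ∀ x ∈ s.cdda, y * x * y⁻¹ ∈ s.S → y * x * y⁻¹ ∈ s.cdda
  beta : ∀ y, ∀ x ∈ s.cb, y * x * y⁻¹ ∈ s.S → y * x * y⁻¹ ∈ s.cb

/-- The normal subgroup `L` with simple central quotient `K`. -/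
structure Lc (L : Subgroup G) {K : Type u} [Group K] (κ : L →* K) : Prop where
  yc : s.Yc
  nrm : L.Normal
  inf : ∀ x ∈ s.S, x ∈ L ↔ x ∈ s.S0
  surj : Function.Surjective κ
  ker : ∀ x : L, κ x = 1 ↔ (x : G) = 1 ∨ (x : G) = s.α
  simple : IsSimpleGroup K
  perf : commutator L = ⊤
  cen : ∀ y, (∀ l ∈ L, Commute y l) → y = 1 ∨ y = s.α
  odd : ∀ y, ∃ m, Odd m ∧ (y ^ m ∈ L ∨ (y * s.a 0) ^ m ∈ L)

end Crt

end Cfsg.Agent.O7
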