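import Mathlib
import Cfsg.Agent.O7.Defs
import Cfsg.Agent.Yam.FusA

/-! Basic facts on a chart: inclusions, the centre, weak closure of `E`, changes of letters. -/

set_option autoImplicit false
set_option synthInstance.maxSize 100000
set_option synthInstance.maxHeartbeats 1000000
set_option linter.unusedSectionVars false

namespace Cfsg.Agent.O7

open Cfsg.Agent.Spor Cfsg.Agent.Rec Cfsg.Agent.Inv.Fz Cfsg.Agent.Yam Subgroup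
open Cfsg.Agent.Rec.X32.I (conj_conj conj_symm conj_mul')

universe u

variable {G : Type u} [Group G]

namespace Crt

variable (s : Crt G)

theorem les : s.E ≤ s.R ∧ s.R ≤ s.S ∧ s.F ≤ s.S0 ∧ s.S0 ≤ s.S ∧ s.F0 ≤ s.F ∧ s.Dd ≤ s.F0 ∧ s.Dd ≤ s.U32 ∧ s.U32 ≤ s.E ∧
    s.Z8 ≤ s.U32 ∧ s.E0 ≤ s.E ∧ s.E0 ≤ s.S0 ∧ s.T16 ≤ s.S ∧ s.E ≤ s.Ca ∧ s.Ca ≤ s.R ∧ s.F1 ≤ s.R ∧ s.F2 ≤ s.R ∧
    s.Q64 ≤ s.S0 ∧ s.F0 ≤ s.R ∧ s.Dd ≤ s.E0 := s.hL.decide s.rep (by decide +kernel)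
theorem R_le_S : s.R ≤ s.S := s.les.2.1
theorem E_le_S : s.E ≤ s.S := s.les.1.trans s.R_le_S
theorem S0_le_S : s.S0 ≤ s.S := s.les.2.2.2.1
theorem F_le_S : s.F ≤ s.S := s.les.2.2.1.trans s.S0_le_S
theorem pS : IsPGroup 2 s.S := IsPGroup.of_card (n := 9) s.gS.2

/-- Every letter lies in `S`. -/
theorem eS : s.A ∈ s.S ∧ s.A' ∈ s.S ∧ s.C ∈ s.S ∧ s.D ∈ s.S ∧ s.X ∈ s.S ∧ s.X' ∈ s.S ∧ s.f ∈ s.S ∧ s.h ∈ s.S ∧
    s.w ∈ s.S ∧ s.d1 ∈ s.S ∧ s.d2 ∈ s.S ∧ s.d3 ∈ s.S ∧ s.z ∈ s.S ∧ s.α ∈ s.S := s.hL.decide s.rep (by decide +kernel)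
theorem eE : s.A ∈ s.E ∧ s.A' ∈ s.E ∧ s.C ∈ s.E ∧ s.D ∈ s.E ∧ s.X ∈ s.E ∧ s.X' ∈ s.E ∧ s.d1 ∈ s.E ∧ s.d2 ∈ s.E ∧
    s.d3 ∈ s.E ∧ s.z ∈ s.E ∧ s.α ∈ s.E := s.hL.decide s.rep (by decide +kernel)
theorem eF : s.f ∈ s.F ∧ s.h ∈ s.F ∧ s.d1 ∈ s.F ∧ s.d2 ∈ s.F ∧ s.d3 ∈ s.F ∧ s.z ∈ s.F ∧ s.α ∈ s.F :=
  s.hL.decide s.rep (by decide +kernel)
theorem α_E : s.α ∈ s.E := s.eE.2.2.2.2.2.2.2.2.2.2
theorem α_F : s.α ∈ s.F := s.eF.2.2.2.2.2.2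
theorem α_S : s.α ∈ s.S := s.E_le_S s.α_E

theorem sq : s.A * s.A = 1 ∧ s.A' * s.A' = 1 ∧ s.C * s.C = 1 ∧ s.D * s.D = 1 ∧ s.X * s.X = 1 ∧ s.X' * s.X' = 1 ∧
    s.f * s.f = 1 ∧ s.h * s.h = 1 ∧ s.w * s.w = 1 ∧ s.d1 * s.d1 = 1 ∧ s.d2 * s.d2 = 1 ∧ s.d3 * s.d3 = 1 ∧
    s.z * s.z = 1 ∧ s.α * s.α = 1 := Cod.listsL_nil.decide s.rep (by decide +kernel)

theorem α_sq : s.α * s.α = 1 := s.sq.2.2.2.2.2.2.2.2.2.2.2.2.2
theorem α_ne : s.α ≠ 1 := Cod.listsL_nil.decide s.rep (by decide +kernel)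
theorem ord_α : orderOf s.α = 2 := Cod.listsL_nil.decide s.rep (by decide +kernel)
theorem comm_S : ∀ k ∈ s.S, k * s.z = s.z * k ∧ k * s.d3 = s.d3 * k ∧ k * s.α = s.α * k :=
  s.hL.decide s.rep (by decide +kernel)
theorem comm_α {k : G} (h : k ∈ s.S) : k * s.α = s.α * k := (s.comm_S k h).2.2
theorem fix_α {k : G} (h : k ∈ s.S) : k * s.α * k⁻¹ = s.α := mul_inv_eq_iff_eq_mul.2 (s.comm_α h)
theorem S_norm_E : ∀ k ∈ s.S, ∀ v ∈ s.E, k * v * k⁻¹ ∈ s.E := fun k hk =>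
  conj_clos_mem (by
    simpa using (show ∀ k ∈ s.S, k * s.A * k⁻¹ ∈ s.E ∧ k * s.A' * k⁻¹ ∈ s.E ∧ k * s.C * k⁻¹ ∈ s.E ∧ k * s.D * k⁻¹ ∈ s.E ∧
      k * s.X * k⁻¹ ∈ s.E ∧ k * s.X' * k⁻¹ ∈ s.E from s.hL.decide s.rep (by decide +kernel)) k hk)
theorem S_norm_F : ∀ k ∈ s.S, ∀ v ∈ s.F, k * v * k⁻¹ ∈ s.F := fun k hk =>
  conj_clos_mem (by
    simpa using (show ∀ k ∈ s.S, k * s.d1 * k⁻¹ ∈ s.F ∧ k * s.d2 * k⁻¹ ∈ s.F ∧ k * s.d3 * k⁻¹ ∈ s.F ∧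
      k * s.f * k⁻¹ ∈ s.F ∧ k * s.h * k⁻¹ ∈ s.F from s.hL.decide s.rep (by decide +kernel)) k hk)
/-- `E` and `F` are self-centralising in `S`. -/
theorem cenE : ∀ k ∈ s.S, (∀ x ∈ s.E, k * x = x * k) → k ∈ s.E := fun k hk h =>
  (show ∀ k ∈ s.S, k * s.A = s.A * k → k * s.A' = s.A' * k → k * s.X = s.X * k → k ∈ s.E from
    s.hL.decide s.rep (by decide +kernel)) k hk (h _ s.eE.1) (h _ s.eE.2.1) (h _ s.eE.2.2.2.2.1)
theorem cenF : ∀ k ∈ s.S, (∀ x ∈ s.F, k * x = x * k) → k ∈ s.F := fun k hk h =>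
  (show ∀ k ∈ s.S, k * s.f = s.f * k → k * s.h = s.h * k → k * s.d1 = s.d1 * k → k ∈ s.F from
    s.hL.decide s.rep (by decide +kernel)) k hk (h _ s.eF.1) (h _ s.eF.2.1) (h _ s.eF.2.2.1)
/-- The centre of `S`. -/
theorem cen_S : ∀ x ∈ s.S, (∀ y ∈ s.S, x * y = y * x) → x = 1 ∨ x = s.α ∨ x = s.d3 ∨ x = s.z := fun x hx h =>
  (show ∀ x ∈ s.S, x * s.A = s.A * x → x * s.X = s.X * x → x * s.f = s.f * x → x * s.h = s.h * x → x * s.w = s.w * x →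
      x = 1 ∨ x = s.α ∨ x = s.d3 ∨ x = s.z from s.hL.decide s.rep (by decide +kernel)) x hx
    (h _ (mem_clos (by simp))) (h _ (mem_clos (by simp))) (h _ (mem_clos (by simp))) (h _ (mem_clos (by simp)))
    (h _ (mem_clos (by simp)))
theorem squares : s.X * s.h * (s.X * s.h) = s.d3 ∧ s.A * s.C * s.f * (s.A * s.C * s.f) = s.z ∧
    s.w * s.C * (s.w * s.C) = s.A * s.C ∧ (s.A * s.w * s.h) ^ 4 = s.z := Cod.listsL_nil.decide s.rep (by decide +kernel)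
theorem α_not_sq : ∀ y ∈ s.S, y * y ≠ s.α := s.hL.decide s.rep (by decide +kernel)
/-- The involutions of `S`. -/
theorem inv_S : ∀ x ∈ s.S, x * x = 1 → x = 1 ∨ x = s.α ∨ x ∈ s.cd ∨ x ∈ s.cdd ∨ x ∈ s.ca ∨ x ∈ s.cdda ∨ x ∈ s.cda ∨
    x ∈ s.caa ∨ x ∈ s.cdaa ∨ x ∈ s.cp ∨ x ∈ s.cm := s.hL.decide s.rep (by decide +kernel)

/-- The labels in letters. -/
theorem a_eq : s.a 0 = s.A * s.α ∧ s.a 1 = s.A' * s.α ∧ s.a 2 = s.C * s.α ∧ s.a 3 = s.D * s.α ∧ s.a 4 = s.X * s.α ∧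
    s.a 5 = s.X' * s.α ∧ s.a 6 = s.α := ⟨rfl, rfl, rfl, rfl, rfl, rfl, rfl⟩

/-- The codes of the labels. -/
noncomputable def ca7 (i : ℕ) : ℕ := if i = 6 then nth P.one cE 13 else P.mul (nth P.one cE i) (nth P.one cE 13)

theorem rep_a (i : Fin 7) : s.cod.Rep (ca7 i) (s.a i) := by
  fin_cases i
  exacts [(s.rep.nth 0).mul (s.rep.nth 13), (s.rep.nth 1).mul (s.rep.nth 13), (s.rep.nth 2).mul (s.rep.nth 13),
    (s.rep.nth 3).mul (s.rep.nth 13), (s.rep.nth 4).mul (s.rep.nth 13), (s.rep.nth 5).mul (s.rep.nth 13), s.rep.nth 13]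

theorem a_E (i : Fin 7) : s.a i ∈ s.E := by
  obtain ⟨h1, h2, h3, h4, h5, h6, -, -, -, -, h7⟩ := s.eE
  fin_cases i
  exacts [mul_mem h1 h7, mul_mem h2 h7, mul_mem h3 h7, mul_mem h4 h7, mul_mem h5 h7, mul_mem h6 h7, h7]

theorem EE_a : EE s.a = s.E := by
  refine le_antisymm ((closure_le _).2 ?_) (clos_le.2 ?_)
  · rintro _ ⟨i, rfl⟩
    exact s.a_E i
  · have k : ∀ {x : G}, x * s.α ∈ EE s.a → x ∈ EE s.a := (mul_mem_cancel_right (mem_EE s.a 6)).1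
    simp only [List.forall_mem_cons]
    exact ⟨k (mem_EE s.a 0), k (mem_EE s.a 1), k (mem_EE s.a 2), k (mem_EE s.a 3), k (mem_EE s.a 4), k (mem_EE s.a 5),
      by simp⟩

/-- The code of a product of labels. -/
noncomputable def prC (J : Finset (Fin 7)) : ℕ :=
  (List.finRange 7).foldr (fun i b => P.mul (if i ∈ J then ca7 i else P.one) b) P.one

theorem rep_pr (J : Finset (Fin 7)) : s.cod.Rep (prC J) (pr s.a J) := by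
  unfold prC pr
  induction List.finRange 7 with
  | nil => exact Cod.rep_one
  | cons i l ih =>
    rw [List.map_cons, List.prod_cons, List.foldr_cons]
    refine Cod.Rep.mul ?_ ih
    split_ifs
    exacts [s.rep_a i, Cod.rep_one]

theorem lab : Lab s.a :=
  ⟨fun i => s.E_sq _ (s.a_E i), fun i j => s.E_comm _ (s.a_E i) _ (s.a_E j), fun J =>
    ((s.rep_pr J).eq_iff Cod.rep_one).symm.trans
      ((by decide +kernel : ∀ J : Finset (Fin 7), prC J = P.one ↔ J = ∅ ∨ J = Finset.univ) J)⟩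

/-- The action of `f`, `h`, `w` on the labels. -/
theorem acts : Acts s.a s.f g1 ∧ Acts s.a s.h g2 ∧ Acts s.a s.w g3 := by
  have k : ∀ {c : ℕ} {g : G} {σ : Equiv.Perm (Fin 7)}, s.cod.Rep c g →
      (∀ i : Fin 7, P.mul (P.mul c (ca7 i)) (P.inv c) = ca7 (σ i)) → Acts s.a g σ := fun hc h i =>
    (((hc.mul (s.rep_a i)).mul hc.inv).eq_iff (s.rep_a _)).1 (h i)
  exact ⟨k (s.rep.nth 6) (by decide +kernel), k (s.rep.nth 7) (by decide +kernel), k (s.rep.nth 8) (by decide +kernel)⟩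

include s in
/-- Other generators of a Sylow subgroup satisfying the defining relations. -/
theorem of_sat' {Y : Type u} [Group Y] {A A' C D X X' f h w : Y} (hs : Sat rl9 [A, A', C, D, X, X', f, h, w])
    (hc : 512 ≤ Nat.card (clos [A, A', C, D, X, X', f, h, w])) (hy : IsSylIn 2 (clos [A, A', C, D, X, X', f, h, w]) ⊤) :
    ∃ t : Crt Y, t.e9 = [A, A', C, D, X, X', f, h, w] := by
  obtain ⟨C', k⟩ := prs9.cod_of_card s.rep0 s.sat9 rfl s.gS.2 (by norm_num) hs rfl hc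
  exact ⟨⟨A, A', C, D, X, X', f, h, w, C', k, hy⟩, rfl⟩

/-- Other generators of `S` satisfying the defining relations. -/
theorem of_sat {A A' C D X X' f h w : G} (hs : Sat rl9 [A, A', C, D, X, X', f, h, w])
    (hc : clos [A, A', C, D, X, X', f, h, w] = s.S) : ∃ t : Crt G, t.A = A ∧ t.A' = A' ∧ t.C = C ∧ t.D = D ∧ t.X = X ∧
      t.X' = X' ∧ t.f = f ∧ t.h = h ∧ t.w = w := by
  obtain ⟨t, k⟩ := s.of_sat' hs (by rw [hc, s.gS.2]) (hc ▸ s.syl)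
  exact ⟨t, by simpa using k⟩

variable [Finite G]

theorem S_le_NE : s.S ≤ s.NE := fun k hk => mem_normalizer_of_conj_mem (s.S_norm_E k hk)
theorem S_le_NF : s.S ≤ s.NF := fun k hk => mem_normalizer_of_conj_mem (s.S_norm_F k hk)

theorem cnt1 : ∀ x ∈ s.S, (x * x = 1 ∧ x ∉ s.E) → {y | y ∈ (s.S : Set G) ∧ (y * y = 1 ∧ x * y = y * x)}.ncard ≤ 64 :=
  s.hL.all_count s.rep s.gS.1 s.gS.1 _ _ 64 (by decide +kernel)

theorem cnt2 : ∀ x ∈ s.S, (x * x = 1 ∧ x ∉ s.E ∧ ¬ (x * s.f = s.f * x ∧ x * s.h = s.h * x ∧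
    ∃ y ∈ s.E, x * y = y * x ∧ ¬ (y * s.f = s.f * y ∧ y * s.h = s.h * y))) →
    {y | y ∈ (s.S : Set G) ∧ (y * y = 1 ∧ x * y = y * x)}.ncard ≤ 63 :=
  s.hL.all_count s.rep s.gS.1 s.gS.1 _ _ 63 (by decide +kernel)

/-- `E` is weakly closed in `S`. -/
theorem wc (g : G) (hg : cj g s.E ≤ s.S) : cj g s.E = s.E := by
  refine cj_eq_of_le fun x hx => ?_
  by_contra hxV
  have h1 : ∀ y ∈ cj g s.E, y * y = 1 := fun y hy => by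
    simpa [mul_assoc] using conj_sq (g := g) (s.E_sq _ (mem_cj.1 hy))
  have h2 : ∀ x ∈ cj g s.E, ∀ y ∈ cj g s.E, x * y = y * x := fun x hx y hy => by
    simpa [mul_assoc] using comm_of_conj (g := g) (s.E_comm _ (mem_cj.1 hx) _ (mem_cj.1 hy))
  have h3 : (cj g s.E : Set G) ⊆ {y | y ∈ (s.S : Set G) ∧ (y * y = 1 ∧ x * y = y * x)} := fun y hy =>
    ⟨hg hy, h1 y hy, h2 x hx y hy⟩
  have h4 : (cj g s.E : Set G).ncard = 64 := by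
    rw [← Nat.card_coe_set_eq, SetLike.coe_sort_coe, card_cj, s.gE.2]
  have h5 := Set.eq_of_subset_of_ncard_le h3 (h4 ▸ s.cnt1 x (hg hx) ⟨h1 x hx, hxV⟩)
  have h6 := s.cnt2 x (hg hx) ⟨h1 x hx, hxV, fun ⟨a1, a2, y, hy, a3, a4⟩ => by
    have b : y ∈ cj g s.E := h5.ge ⟨s.E_le_S hy, s.E_sq y hy, a3⟩
    exact a4 ⟨h2 y b _ (h5.ge ⟨mem_clos (by simp), s.sq.2.2.2.2.2.2.1, a1⟩),
      h2 y b _ (h5.ge ⟨mem_clos (by simp), s.sq.2.2.2.2.2.2.2.1, a2⟩)⟩⟩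
  rw [← h5, h4] at h6
  omega

/-- Fusion in `E` is controlled by its normaliser, in any subgroup `L` in which `T ≥ E` is a Sylow subgroup. -/
theorem ctrl' {T L : Subgroup G} (hT : IsSylIn 2 T L) (h1 : s.E ≤ T) (h2 : T ≤ s.S) {x g : G} (hg : g ∈ L)
    (hx : x ∈ s.E) (hy : g * x * g⁻¹ ∈ s.E) : ∃ n ∈ L, n ∈ s.NE ∧ n * x * n⁻¹ = g * x * g⁻¹ :=
  exists_norm_conj hT h1 (fun g _ h => s.wc g (h.trans h2)) hg (fun e he => s.E_comm e he x hx)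
    fun e he => s.E_comm e he _ hy

theorem ctrl {x y : G} (hx : x ∈ s.E) (hy : y ∈ s.E) (h : IsConj x y) : ∃ n ∈ s.NE, n * x * n⁻¹ = y := by
  obtain ⟨g, rfl⟩ := isConj_iff.1 h
  obtain ⟨n, -, h1⟩ := s.ctrl' s.syl s.E_le_S le_rfl (mem_top g) hx hy
  exact ⟨n, h1⟩

/-- `S` is a Sylow subgroup of every subgroup containing it. -/
theorem syl' {L : Subgroup G} (h : s.S ≤ L) : IsSylIn 2 s.S L := s.syl.mono h le_top

theorem sylα : IsSylIn 2 s.S (centralizer {s.α}) := s.syl' fun _ hk => mem_cen.2 (s.comm_α hk)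

theorem not_sq (y : G) : ¬ IsConj s.α (y * y) := fun h => by
  obtain ⟨g, hg⟩ := isConj_iff.1 h.symm
  rw [conj_mul'] at hg
  generalize g * y * g⁻¹ = x at hg
  obtain ⟨k, hk, h2⟩ := exists_conj_mem_syl s.sylα (x := x) (mem_cen.2 (by rw [← hg, mul_assoc])) (k := 2) (by
    rw [show 2 ^ 2 = 2 * 2 by norm_num, pow_mul, pow_two, pow_two, hg, s.α_sq])
  exact s.α_not_sq _ h2 (by rw [← conj_mul', hg, mem_cen'.1 hk])

theorem α_not_d3 : ¬ IsConj s.α s.d3 := s.squares.1 ▸ s.not_sq _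
theorem α_not_z : ¬ IsConj s.α s.z := s.squares.2.1 ▸ s.not_sq _
theorem α_not_AC : ¬ IsConj s.α (s.A * s.C) := s.squares.2.2.1 ▸ s.not_sq _

theorem d_not_z : ¬ IsConj s.d3 s.z := fun h => by
  obtain ⟨g, hg⟩ := isConj_iff.1 h.symm
  rw [← s.squares.2.2.2, ← conj_pow] at hg
  generalize g * (s.A * s.w * s.h) * g⁻¹ = y at hg
  have hS : IsSylIn 2 s.S (centralizer {s.d3}) := s.syl' fun k hk => mem_cen.2 (s.comm_S k hk).2.1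
  obtain ⟨k, hk, h2⟩ := exists_conj_mem_syl hS (x := y) (mem_cen.2 (by rw [← hg, ← pow_succ, ← pow_succ'])) (k := 3) (by
    rw [show 2 ^ 3 = 4 * 2 by norm_num, pow_mul, hg, pow_two, s.sq.2.2.2.2.2.2.2.2.2.2.2.1])
  exact (show ∀ y ∈ s.S, y ^ 4 ≠ s.d3 from s.hL.decide s.rep (by decide +kernel)) _ h2
    (by rw [conj_pow, hg, mem_cen'.1 hk])

end Crt

end Cfsg.Agent.O7
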