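import Mathlib
import Cfsg.Agent.O7.Base

/-! Further facts on a chart: the chart of `A₁₂`, the action on labels and duads, transport of charts. -/

set_option autoImplicit false
set_option synthInstance.maxSize 100000
set_option synthInstance.maxHeartbeats 1000000
set_option linter.unusedSectionVars false

namespace Cfsg.Agent.O7

open Cfsg.Agent.Spor Cfsg.Agent.Rec Cfsg.Agent.Inv.Fz Cfsg.Agent.Yam Subgroup
open Cfsg.Agent.Rec.X32.I (conj_conj conj_symm conj_mul')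

universe u

variable {G : Type u} [Group G]

theorem st_rep9 (t : St G) : t.cod.RepL c9 [t.A, t.A', t.C, t.D, t.X, t.X', t.f, t.h, t.w] :=
  t.rep.pick [0, 5, 2, 7, 4, 8, 13, 14, 15]

theorem st_gF (t : St G) : t.cod.Lists F_t.dom (clos [t.d1, t.d2, t.d3, t.f, t.h]) ∧
    Nat.card (clos [t.d1, t.d2, t.d3, t.f, t.h]) = 32 := (t.rep.pick [9, 10, 11, 13, 14]).gen F_ok

theorem st_gCa (t : St G) : t.cod.Lists Ca_t.dom (clos [t.A, t.A', t.C, t.D, t.X, t.X', t.w]) ∧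
    Nat.card (clos [t.A, t.A', t.C, t.D, t.X, t.X', t.w]) = 128 := (t.rep.pick [0, 5, 2, 7, 4, 8, 15]).gen Ca_ok

open Equiv in
/-- The letters in `A₁₂`. -/
theorem exists_st12 : ∃ r : St (alternatingGroup (Fin 12)), ∀ a x, r.cod.Rep a x → pcode (x : Perm (Fin 12)) = a := by
  set π : Perm (Fin 12) := swap (0 : Fin 12) 1 * swap 2 3 * swap 4 5 * swap 6 7 * swap 8 9 * swap 10 11 with hπ
  have h0 : (permCod P_ok).RepL c7 [swap 0 2 * swap 1 3, swap 2 4 * swap 3 5, swap 4 6 * swap 5 7, swap 6 8 * swap 7 9,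
      swap 8 10 * swap 9 11, swap 0 3 * swap 1 2, π] :=
    (rep_pcode P_ok _ (by decide +kernel)).cons <| (rep_pcode P_ok _ (by decide +kernel)).cons <|
      (rep_pcode P_ok _ (by decide +kernel)).cons <| (rep_pcode P_ok _ (by decide +kernel)).cons <|
      (rep_pcode P_ok _ (by decide +kernel)).cons <| (rep_pcode P_ok _ (by decide +kernel)).cons <|
      (rep_pcode P_ok _ (by decide +kernel)).cons Cod.repL_nil
  have h1 : Nat.card (centralizer ({π} : Set (Perm (Fin 12)))) = 46080 := by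
    rw [Perm.nat_card_centralizer, show π.cycleType = {2, 2, 2, 2, 2, 2} by decide +kernel]
    decide +kernel
  have h2 : Nat.card ↥(alternatingGroup (Fin 12) ⊓ centralizer {π}) ≤ 23040 := by
    have h3 := card_mul_relIndex (inf_le_right : alternatingGroup (Fin 12) ⊓ centralizer {π} ≤ _)
    have h4 : (alternatingGroup (Fin 12) ⊓ centralizer {π}).relIndex (centralizer {π}) ≠ 1 := fun e => by
      have h5 := (relIndex_eq_one.1 e (mem_cen.2 (by decide +kernel : swap 0 1 * π = π * swap 0 1))).1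
      simp at h5
    rw [h1] at h3
    generalize (alternatingGroup (Fin 12) ⊓ centralizer {π}).relIndex (centralizer {π}) = k at h3 h4
    by_contra h5
    rcases k with _ | _ | k
    · omega
    · exact h4 rfl
    · nlinarith
  have m : ∀ x ∈ [swap 0 2 * swap 1 3, swap 2 4 * swap 3 5, swap 4 6 * swap 5 7, swap 6 8 * swap 7 9,
      swap 8 10 * swap 9 11, swap 0 3 * swap 1 2, π], x ∈ alternatingGroup (Fin 12) ⊓ centralizer {π} := by
    simp only [List.forall_mem_cons, List.not_mem_nil, false_imp_iff, implies_true, and_true, mem_inf, mem_cen,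
      Perm.mem_alternatingGroup]
    decide +kernel
  have h3 := eq_of_le_of_card_ge (clos_le.2 m) (h2.trans (card_of_rep h0).ge)
  simp only [List.forall_mem_cons] at m
  obtain ⟨m0, m1, m2, m3, m4, m5, m6, -⟩ := m
  have k := fun {a x} (h : (permCod P_ok).Rep a x) hx =>
    h.map (H := alternatingGroup (Fin 12)) (MonoidHom.id _) Function.injective_id hx
  refine ⟨⟨⟨_, m0.1⟩, ⟨_, m1.1⟩, ⟨_, m2.1⟩, ⟨_, m3.1⟩, ⟨_, m4.1⟩, ⟨_, m5.1⟩, ⟨_, m6.1⟩, _,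
    (k (h0.nth 0) m0.1).cons <| (k (h0.nth 1) m1.1).cons <| (k (h0.nth 2) m2.1).cons <| (k (h0.nth 3) m3.1).cons <|
      (k (h0.nth 4) m4.1).cons <| (k (h0.nth 5) m5.1).cons <| (k (h0.nth 6) m6.1).cons Cod.repL_nil, ?_⟩, ?_⟩
  · refine map_injective (alternatingGroup (Fin 12)).subtype_injective ?_
    rw [map_clos]
    refine Eq.trans ?_ h3.symm
    ext x
    exact ⟨fun ⟨y, hy, e⟩ => e ▸ ⟨y.2, mem_cen.2 (congrArg Subtype.val (mem_cen.1 hy))⟩,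
      fun hx => ⟨⟨x, hx.1⟩, mem_cen.2 (Subtype.ext (mem_cen.1 hx.2)), rfl⟩⟩
  · rintro a x ⟨⟨⟨σ, rfl⟩, h5⟩, rfl⟩
    have h6 : (permCod P_ok).elt (pcode σ) = σ := (rep_pcode P_ok σ rfl).2
    exact congrArg pcode ((congrArg Subtype.val (dif_pos h5)).trans h6)

theorem d8_mul : ∀ σ ∈ d8, ∀ τ ∈ d8, σ * τ ∈ d8 := fun σ h τ k => by
  obtain ⟨ρ, h1, h2⟩ := (by simpa only [List.all_eq_true, List.any_eq_true, decide_eq_true_eq] using (by decide +kernel :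
    (d8.all fun σ => d8.all fun τ => d8.any fun ρ => decide (∀ i, σ (τ i) = ρ i)) = true) :
      ∀ σ ∈ d8, ∀ τ ∈ d8, ∃ ρ ∈ d8, ∀ i, σ (τ i) = ρ i) σ h τ k
  exact (Equiv.ext h2 : σ * τ = ρ) ▸ h1

theorem d8_inv : ∀ σ ∈ d8, σ⁻¹ ∈ d8 := fun σ h => by
  obtain ⟨ρ, h1, h2⟩ := (by simpa only [List.all_eq_true, List.any_eq_true, decide_eq_true_eq] using (by decide +kernel :
    (d8.all fun σ => d8.any fun ρ => decide (∀ i, σ (ρ i) = i)) = true) : ∀ σ ∈ d8, ∃ ρ ∈ d8, ∀ i, σ (ρ i) = i) σ h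
  exact inv_eq_of_mul_eq_one_right (Equiv.ext h2 : σ * ρ = 1) ▸ h1

namespace Crt

variable (s : Crt G)

theorem act_d8 : ∀ k ∈ s.S, ∃ σ ∈ d8, Acts s.a k σ := fun k hk => by
  have e : ∀ x ∈ s.E, ∃ σ ∈ d8, Acts s.a x σ := fun x hx =>
    ⟨1, by decide, fun i => mul_inv_eq_iff_eq_mul.2 (s.E_comm x hx _ (s.a_E i))⟩
  induction hk using closure_induction with
  | mem x hx =>
    obtain ⟨h1, h2, h3, h4, h5, h6, -⟩ := s.eE
    simp only [Set.mem_ofPred_eq, List.mem_cons, List.not_mem_nil, or_false] at hx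
    rcases hx with rfl | rfl | rfl | rfl | rfl | rfl | rfl | rfl | rfl
    exacts [e _ h1, e _ h2, e _ h3, e _ h4, e _ h5, e _ h6, ⟨_, by decide, s.acts.1⟩, ⟨_, by decide, s.acts.2.1⟩,
      ⟨_, by decide, s.acts.2.2⟩]
  | one => exact e _ (one_mem _)
  | mul x y _ _ ihx ihy =>
    obtain ⟨σ, a1, a2⟩ := ihx
    obtain ⟨τ, b1, b2⟩ := ihy
    exact ⟨σ * τ, d8_mul σ a1 τ b1, fun i =>
      (conj_conj (b2 i)).trans (a2 _)⟩
  | inv x _ ih =>
    obtain ⟨σ, a1, a2⟩ := ih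
    exact ⟨σ⁻¹, d8_inv σ a1, fun i => conj_symm (by simpa using a2 (σ⁻¹ i))⟩

/-- The elements of the class `cdda` in `S` are the first six labels. -/
theorem mem_cdda {x : G} : x ∈ s.cdda ↔ ∃ i : Fin 6, x = s.a i.castSucc := by
  obtain ⟨h1, h2⟩ : (∀ x ∈ s.cdda, x = s.A * s.α ∨ x = s.A' * s.α ∨ x = s.C * s.α ∨ x = s.D * s.α ∨ x = s.X * s.α ∨
      x = s.X' * s.α) ∧ s.A * s.α ∈ s.cdda ∧ s.A' * s.α ∈ s.cdda ∧ s.C * s.α ∈ s.cdda ∧ s.D * s.α ∈ s.cdda ∧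
      s.X * s.α ∈ s.cdda ∧ s.X' * s.α ∈ s.cdda := s.hL.decide s.rep (by decide +kernel)
  refine ⟨fun h => ?_, fun ⟨i, e⟩ => ?_⟩
  · rcases h1 x h with e | e | e | e | e | e
    exacts [⟨0, e⟩, ⟨1, e⟩, ⟨2, e⟩, ⟨3, e⟩, ⟨4, e⟩, ⟨5, e⟩]
  · subst e
    fin_cases i
    exacts [h2.1, h2.2.1, h2.2.2.1, h2.2.2.2.1, h2.2.2.2.2.1, h2.2.2.2.2.2]

/-- The codes of `s.u i`. -/
noncomputable def cu (i : ℕ) : ℕ := nth P.one [P.one, nth P.one cE 9, nth P.one cE 6,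
  P.mul (nth P.one cE 6) (nth P.one cE 10), P.mul (nth P.one cE 7) (nth P.one cE 11), nth P.one cE 7] i

theorem rep_u (i : Fin 6) : s.cod.Rep (cu i) (s.u i) := by
  fin_cases i
  exacts [Cod.rep_one, s.rep.nth 9, s.rep.nth 6, (s.rep.nth 6).mul (s.rep.nth 10), (s.rep.nth 7).mul (s.rep.nth 11),
    s.rep.nth 7]

theorem rep_tau (i j : Fin 6) : s.cod.Rep (P.mul (cu i) (cu j)) (s.tau i j) := (s.rep_u i).mul (s.rep_u j)

theorem u_F (i : Fin 6) : s.u i ∈ s.F := by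
  obtain ⟨h1, h2, h3, h4, h5, -⟩ := s.eF
  fin_cases i
  exacts [one_mem _, h3, h1, mul_mem h1 h4, mul_mem h2 h5, h2]

theorem tau_F (i j : Fin 6) : s.tau i j ∈ s.F := mul_mem (s.u_F i) (s.u_F j)

theorem tau_eq_iff {i j k l : Fin 6} :
    s.tau i j = s.tau k l ↔ (i = j ∧ k = l) ∨ (i = k ∧ j = l) ∨ (i = l ∧ j = k) :=
  ((s.rep_tau i j).eq_iff (s.rep_tau k l)).symm.trans ((by decide +kernel : ∀ i j k l : Fin 6,
    P.mul (cu i) (cu j) = P.mul (cu k) (cu l) ↔ (i = j ∧ k = l) ∨ (i = k ∧ j = l) ∨ (i = l ∧ j = k)) i j k l)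

theorem tau_lett : s.tau 0 1 = s.d1 ∧ s.tau 2 3 = s.d2 ∧ s.tau 4 5 = s.d3 ∧ s.tau 0 2 = s.f ∧ s.tau 0 5 = s.h :=
  ⟨((s.rep_tau 0 1).eq_iff (s.rep.nth 9)).1 (by decide +kernel),
    ((s.rep_tau 2 3).eq_iff (s.rep.nth 10)).1 (by decide +kernel),
    ((s.rep_tau 4 5).eq_iff (s.rep.nth 11)).1 (by decide +kernel),
    ((s.rep_tau 0 2).eq_iff (s.rep.nth 6)).1 (by decide +kernel),
    ((s.rep_tau 0 5).eq_iff (s.rep.nth 7)).1 (by decide +kernel)⟩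

/-- The action of `A`, `C`, `X`, `w` on the duads. -/
theorem actF : s.ActF s.A (Equiv.swap 0 1) ∧ s.ActF s.C (Equiv.swap 2 3) ∧ s.ActF s.X (Equiv.swap 4 5) ∧
    s.ActF s.w (Equiv.swap 0 2 * Equiv.swap 1 3) := by
  have k : ∀ {c : ℕ} {g : G} {σ : Equiv.Perm (Fin 6)}, s.cod.Rep c g → (∀ i j : Fin 6,
      P.mul (P.mul c (P.mul (cu i) (cu j))) (P.inv c) = P.mul (cu (σ i)) (cu (σ j))) → s.ActF g σ := fun hc h i j =>
    (((hc.mul (s.rep_tau i j)).mul hc.inv).eq_iff (s.rep_tau _ _)).1 (h i j)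
  exact ⟨k (s.rep.nth 0) (by decide +kernel), k (s.rep.nth 2) (by decide +kernel), k (s.rep.nth 4) (by decide +kernel),
    k (s.rep.nth 8) (by decide +kernel)⟩

/-- Every element of `S` has a code. -/
theorem exists_rep {x : G} (hx : x ∈ s.S) : ∃ a, s.cod.Rep a x := s.gS.1.cov x hx

/-- Transport of a chart along a map which is an injective homomorphism on `S`. -/
theorem transport {Y : Type*} [Group Y] (ψ : s.S →* Y) (hψ : Function.Injective ψ) (hy : IsSylIn 2 ψ.range ⊤) :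
    ∃ t : Crt Y, t.S = ψ.range ∧ ∀ a (x : s.S), s.cod.Rep a x → t.cod.Rep a (ψ x) := by
  obtain ⟨h1, h2, h3, h4, h5, h6, h7, h8, h9, -⟩ := s.eS
  have k := fun {a x} (h : s.cod.Rep a x) hx => h.map ψ hψ hx
  have e : clos [ψ ⟨_, h1⟩, ψ ⟨_, h2⟩, ψ ⟨_, h3⟩, ψ ⟨_, h4⟩, ψ ⟨_, h5⟩, ψ ⟨_, h6⟩, ψ ⟨_, h7⟩, ψ ⟨_, h8⟩, ψ ⟨_, h9⟩] =
      ψ.range := by
    rw [MonoidHom.range_eq_map, ← show clos [(⟨_, h1⟩ : s.S), ⟨_, h2⟩, ⟨_, h3⟩, ⟨_, h4⟩, ⟨_, h5⟩, ⟨_, h6⟩, ⟨_, h7⟩,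
      ⟨_, h8⟩, ⟨_, h9⟩] = ⊤ from map_injective s.S.subtype_injective (by
        rw [map_clos, ← MonoidHom.range_eq_map, range_subtype]; rfl), map_clos]
    rfl
  exact ⟨⟨_, _, _, _, _, _, _, _, _, _, (k (s.rep0.nth 0) h1).cons <| (k (s.rep0.nth 1) h2).cons <|
    (k (s.rep0.nth 2) h3).cons <| (k (s.rep0.nth 3) h4).cons <| (k (s.rep0.nth 4) h5).cons <|
    (k (s.rep0.nth 5) h6).cons <| (k (s.rep0.nth 6) h7).cons <| (k (s.rep0.nth 7) h8).cons <|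
    (k (s.rep0.nth 8) h9).cons Cod.repL_nil, e ▸ hy⟩, e, fun a x h => k h x.2⟩

end Crt

/-- The chart belonging to letters for the centraliser. -/
def stCrt [Finite G] (t : St G) : Crt G := ⟨t.A, t.A', t.C, t.D, t.X, t.X', t.f, t.h, t.w, t.cod, st_rep9 t, t.sylS⟩

end Cfsg.Agent.O7
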