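import Mathlib
import Cfsg.Agent.O7.Base2

/-! Finite facts on elementary abelian subgroups and transvections in a chart. -/

set_option autoImplicit false
set_option synthInstance.maxSize 100000
set_option synthInstance.maxHeartbeats 1000000
set_option linter.unusedSectionVars false

namespace Cfsg.Agent.O7

open Cfsg.Agent.Spor Cfsg.Agent.Rec Cfsg.Agent.Inv.Fz Cfsg.Agent.Yam Subgroup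

universe u

variable {G : Type u} [Group G]

namespace Crt

variable (s : Crt G)

theorem d1a : ∀ t1 ∈ s.S, t1 ∉ s.E → t1 * t1 = 1 → ∀ t2 ∈ s.S, t2 ∉ s.E → t2 * t2 = 1 → t1 * t2 ∉ s.E →
    t1 * t2 = t2 * t1 → (t1 ∈ s.F ∧ t2 ∈ s.F) ∨ (t1 ∈ s.F1 ∧ t2 ∈ s.F1) ∨ (t1 ∈ s.F2 ∧ t2 ∈ s.F2) :=
  s.hL.decide s.rep (by decide +kernel)

theorem d1F : ∀ y ∈ s.S, y ∉ s.F → y * y = 1 → ∀ t1 ∈ s.F, t1 ∉ s.E → y * t1 = t1 * y → ∀ t2 ∈ s.F, t2 ∉ s.E →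
    y * t2 = t2 * y → t1 * t2 ∈ s.E := s.hL.decide s.rep (by decide +kernel)

theorem d1F1 : ∀ y ∈ s.S, y ∉ s.F1 → y * y = 1 → ∀ t1 ∈ s.F1, t1 ∉ s.E → y * t1 = t1 * y → ∀ t2 ∈ s.F1, t2 ∉ s.E →
    y * t2 = t2 * y → t1 * t2 ∈ s.E := s.hL.decide s.rep (by decide +kernel)

theorem d1F2 : ∀ y ∈ s.S, y ∉ s.F2 → y * y = 1 → ∀ t1 ∈ s.F2, t1 ∉ s.E → y * t1 = t1 * y → ∀ t2 ∈ s.F2, t2 ∉ s.E →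
    y * t2 = t2 * y → t1 * t2 ∈ s.E := s.hL.decide s.rep (by decide +kernel)

/-- An elementary abelian subgroup of `S` covering a four-group of `S / E`. -/
theorem le_of_pair {Y : Subgroup G} (hY : Y ≤ s.S) (h1 : ∀ y ∈ Y, y * y = 1) (h2 : ∀ x ∈ Y, ∀ y ∈ Y, x * y = y * x)
    {t1 t2 : G} (m1 : t1 ∈ Y) (m2 : t2 ∈ Y) (n1 : t1 ∉ s.E) (n2 : t2 ∉ s.E) (n3 : t1 * t2 ∉ s.E) :
    Y ≤ s.F ∨ Y ≤ s.F1 ∨ Y ≤ s.F2 := by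
  refine (s.d1a t1 (hY m1) n1 (h1 _ m1) t2 (hY m2) n2 (h1 _ m2) n3 (h2 _ m1 _ m2)).imp (fun h y hy => ?_)
    (Or.imp (fun h y hy => ?_) fun h y hy => ?_) <;> by_contra k
  · exact n3 (s.d1F y (hY hy) k (h1 y hy) t1 h.1 n1 (h2 _ hy _ m1) t2 h.2 n2 (h2 _ hy _ m2))
  · exact n3 (s.d1F1 y (hY hy) k (h1 y hy) t1 h.1 n1 (h2 _ hy _ m1) t2 h.2 n2 (h2 _ hy _ m2))
  · exact n3 (s.d1F2 y (hY hy) k (h1 y hy) t1 h.1 n1 (h2 _ hy _ m1) t2 h.2 n2 (h2 _ hy _ m2))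

/-- The transvections on `F` in `S`. -/
theorem tv {c k : G} (hc : c ∈ s.F) (hk : k ∈ s.S) (n : k ∉ s.F) (h : ∀ x ∈ s.F, k * x * k⁻¹ = x ∨ k * x * k⁻¹ = x * c) :
    (k * s.A ∈ s.F ∧ c = s.d1) ∨ (k * s.C ∈ s.F ∧ c = s.d2) ∨ (k * s.X ∈ s.F ∧ c = s.d3) :=
  (show ∀ k ∈ s.S, k ∉ s.F → Let (k * s.f * k⁻¹) fun a => Let (k * s.h * k⁻¹) fun b => Let (k * s.d1 * k⁻¹) fun d =>
    ∀ c ∈ s.F, (a = s.f ∨ a = s.f * c) → (b = s.h ∨ b = s.h * c) → (d = s.d1 ∨ d = s.d1 * c) →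
      (k * s.d2 * k⁻¹ = s.d2 ∨ k * s.d2 * k⁻¹ = s.d2 * c) →
      (k * (s.f * s.h) * k⁻¹ = s.f * s.h ∨ k * (s.f * s.h) * k⁻¹ = s.f * s.h * c) →
      (k * s.A ∈ s.F ∧ c = s.d1) ∨ (k * s.C ∈ s.F ∧ c = s.d2) ∨ (k * s.X ∈ s.F ∧ c = s.d3) from
    s.hL.decide s.rep (by decide +kernel)) k hk n c hc (h _ s.eF.1) (h _ s.eF.2.1) (h _ s.eF.2.2.1) (h _ s.eF.2.2.2.1)
      (h _ (mul_mem s.eF.1 s.eF.2.1))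

/-- `A`, `C`, `X` are transvections on `F`, and their forms add up to zero. -/
theorem tv' : ∀ x ∈ s.F, (s.A * x * s.A⁻¹ = x ∨ s.A * x * s.A⁻¹ = x * s.d1) ∧
    (s.C * x * s.C⁻¹ = x ∨ s.C * x * s.C⁻¹ = x * s.d2) ∧ (s.X * x * s.X⁻¹ = x ∨ s.X * x * s.X⁻¹ = x * s.d3) ∧
    (s.X * x = x * s.X ↔ (s.A * x = x * s.A ↔ s.C * x = x * s.C)) := s.hL.decide s.rep (by decide +kernel)

theorem u32_nrm : ∀ k ∈ s.S, ∀ u ∈ s.U32, k * u * k⁻¹ ∈ s.U32 := fun k hk =>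
  conj_clos_mem (by
    simpa using (show ∀ k ∈ s.S, k * s.d1 * k⁻¹ ∈ s.U32 ∧ k * s.d2 * k⁻¹ ∈ s.U32 ∧ k * (s.A * s.C) * k⁻¹ ∈ s.U32 ∧
      k * s.X * k⁻¹ ∈ s.U32 ∧ k * s.X' * k⁻¹ ∈ s.U32 from s.hL.decide s.rep (by decide +kernel)) k hk)

theorem u32_F1 : ∀ u ∈ s.U32, (∀ x ∈ s.F1, u * x * u⁻¹ = x ∨ u * x * u⁻¹ = x * s.z) ∧
    ∀ x ∈ s.F2, u * x * u⁻¹ = x ∨ u * x * u⁻¹ = x * s.z := s.hL.decide s.rep (by decide +kernel)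

theorem mem_u32 : ∀ e ∈ s.E, e ∉ s.U32 → (∀ t1 ∈ s.F1, t1 ∉ s.E → e * t1 * e⁻¹ ∈ s.F1 → ∀ t2 ∈ s.F1, t2 ∉ s.E →
    e * t2 * e⁻¹ ∈ s.F1 → t1 * t2 ∈ s.E) ∧ ∀ t1 ∈ s.F2, t1 ∉ s.E → e * t1 * e⁻¹ ∈ s.F2 → ∀ t2 ∈ s.F2, t2 ∉ s.E →
    e * t2 * e⁻¹ ∈ s.F2 → t1 * t2 ∈ s.E := s.hL.decide s.rep (by decide +kernel)

theorem f12 : s.f ∈ s.F1 ∧ s.d1 * s.f ∈ s.F2 ∧ s.f ∉ s.E ∧ s.h ∉ s.E ∧ s.f * s.h ∉ s.E ∧ s.d1 * s.f ∉ s.E ∧ s.z ∈ s.F1 ∧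
    s.d1 ∉ s.F1 ∧ s.A * s.C ∉ s.F1 ∧ s.d1 * (s.A * s.C) ∉ s.F1 ∧ s.d1 ∈ s.U32 ∧ s.A * s.C ∈ s.U32 ∧
    ∀ x ∈ s.F2, s.A * x * s.A⁻¹ ∈ s.F1 := s.hL.decide s.rep (by decide +kernel)

/-- An involution outside `E` does not centralise a hyperplane of `E`. -/
theorem exists_e12 : ∀ t ∈ s.S, t ∉ s.E → ∃ e1 ∈ s.E, t * e1 ≠ e1 * t ∧ ∃ e2 ∈ s.E, t * e2 ≠ e2 * t ∧
    t * (e1 * e2) ≠ e1 * e2 * t := s.hL.decide s.rep (by decide +kernel)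

end Crt

end Cfsg.Agent.O7
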