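import Mathlib
import Cfsg.Agent.O7.Base3

/-! `F` is weakly closed and its normaliser fixes `α`. -/

set_option autoImplicit false
set_option synthInstance.maxSize 100000
set_option synthInstance.maxHeartbeats 1000000
set_option linter.unusedSectionVars false

namespace Cfsg.Agent.O7

open Cfsg.Agent.Spor Cfsg.Agent.Rec Cfsg.Agent.Inv.Fz Cfsg.Agent.Yam Subgroup
open Cfsg.Agent.Rec.X32.I (conj_conj conj_symm conj_mul')

universe u

variable {G : Type u} [Group G] [Finite G]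

namespace Crt

variable (s : Crt G)

theorem mem_F {P : Subgroup G} (hP : IsPGroup 2 P) (h : ∀ c ∈ P, ∀ x ∈ s.F, c * x = x * c) : P ≤ s.F := fun c hc => by
  have := Fact.mk Nat.prime_two
  obtain ⟨n, h1, h2⟩ := (s.syl' s.S_le_NF).exists_cj_le hP fun c hc =>
    mem_normalizer_of_conj_mem fun x hx => by rwa [h c hc x hx, mul_inv_cancel_right]
  have h3 := s.cenF _ (h2 (conj_mem_cj.2 hc)) fun x hx => by
    simpa [mul_assoc] using comm_of_conj (g := n) (h c hc _ (conj_mem_of_mem_norm (inv_mem h1) hx))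
  simpa [mul_assoc] using conj_mem_of_mem_norm (inv_mem h1) h3

/-- A 2-group normalising a conjugate of `F` can be moved into `S`. -/
theorem exists_move (g : G) {T : Subgroup G} (hT : T ≤ s.S) (h : T ≤ normalizer (cj g s.F : Set G)) :
    ∃ k, cj k (cj g s.F) = s.F ∧ cj k T ≤ s.S := by
  have := Fact.mk Nat.prime_two
  obtain ⟨n, h1, h2⟩ := (s.syl' s.S_le_NF).exists_cj_le (isPGroup_cj (s.pS.to_le hT) g⁻¹) (by
    rw [← cj_le_cj (g := g), cj_cj_inv, cj_normalizer]; exact h)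
  exact ⟨n * g⁻¹, by rw [← cj_cj, cj_inv_cj, cj_eq_iff.2 h1], cj_cj n _ T ▸ h2⟩

theorem not_F1 (g : G) : cj g s.F ≠ s.F1 := fun e => by
  obtain ⟨-, -, -, -, -, -, a1, a2, a3, a4, a5, a6, -⟩ := s.f12
  obtain ⟨k, h1, h2⟩ := s.exists_move g (T := s.U32) (s.les.2.2.2.2.2.2.2.1.trans s.E_le_S) (e ▸ fun u hu =>
    mem_normalizer_of_conj_mem fun x hx => ((s.u32_F1 u hu).1 x hx).elim (fun k => k.symm ▸ hx)
      fun k => k.symm ▸ mul_mem hx a1)
  rw [e] at h1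
  have m : ∀ {x}, k * x * k⁻¹ ∈ s.F ↔ x ∈ s.F1 := h1 ▸ conj_mem_cj
  have key : ∀ u ∈ s.U32, u ∉ s.F1 → _ := fun u hu n => s.tv (m.2 a1) (h2 (conj_mem_cj.2 hu)) (fun k => n (m.1 k))
    fun x hx => by
      obtain ⟨y, rfl⟩ : ∃ y, x = k * y * k⁻¹ := ⟨k⁻¹ * x * k, by group⟩
      rw [show k * u * k⁻¹ * (k * y * k⁻¹) * (k * u * k⁻¹)⁻¹ = k * (u * y * u⁻¹) * k⁻¹ by group, ← conj_mul']
      exact ((s.u32_F1 u hu).1 y (m.1 hx)).imp (fun e => by rw [e]) fun e => by rw [e]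
  refine a4 (m.1 ?_)
  rw [conj_mul']
  exact (show ∀ c ∈ s.F, ∀ a ∈ s.S, (a * s.A ∈ s.F ∧ c = s.d1) ∨ (a * s.C ∈ s.F ∧ c = s.d2) ∨
      (a * s.X ∈ s.F ∧ c = s.d3) → ∀ b ∈ s.S, (b * s.A ∈ s.F ∧ c = s.d1) ∨ (b * s.C ∈ s.F ∧ c = s.d2) ∨
      (b * s.X ∈ s.F ∧ c = s.d3) → a * b ∈ s.F from s.hL.decide s.rep (by decide +kernel)) _ (m.2 a1)
    _ (h2 (conj_mem_cj.2 a5)) (key _ a5 a2) _ (h2 (conj_mem_cj.2 a6)) (key _ a6 a3)

theorem wcF (g : G) (hg : cj g s.F ≤ s.S) : cj g s.F = s.F := by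
  have h1 : ∀ y ∈ cj g s.F, y * y = 1 := fun y hy => by
    simpa [mul_assoc] using conj_sq (g := g) (s.F_sq _ (mem_cj.1 hy))
  have h2 : ∀ x ∈ cj g s.F, ∀ y ∈ cj g s.F, x * y = y * x := fun x hx y hy => by
    simpa [mul_assoc] using comm_of_conj (g := g) (s.F_comm _ (mem_cj.1 hx) _ (mem_cj.1 hy))
  have h3 : ∀ c ∈ s.S, (∀ x ∈ cj g s.F, c * x = x * c) → c ∈ cj g s.F := fun c hc h =>
    (cj_cj_inv g (zpowers c)).ge.trans (cj_mono (s.mem_F (isPGroup_cj (s.pS.to_le (zpowers_le.2 hc)) g⁻¹) (by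
      rintro _ ⟨_, ⟨n, rfl⟩, rfl⟩ x hx
      simpa [mul_assoc] using comm_of_conj (g := g⁻¹)
        ((show Commute c _ from h _ (conj_mem_cj.2 hx)).zpow_left n).eq))) (mem_zpowers c)
  by_cases h4 : ∀ y ∈ cj g s.F, y ∉ s.E → ∀ y' ∈ cj g s.F, y' ∉ s.E → y * y' ∈ s.E
  · have h5 : s.E ≤ normalizer (cj g s.F : Set G) := fun e he => mem_normalizer_of_conj_mem fun t ht => by
      by_cases n : t ∈ s.E
      · rwa [s.E_comm e he t n, mul_inv_cancel_right]
      have a1 := s.S_norm_E t (hg ht) _ (inv_mem he)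
      have a2 : e * t * e⁻¹ * t⁻¹ ∈ s.E := by simpa [mul_assoc] using mul_mem he a1
      have a3 : e * t * e⁻¹ * t⁻¹ * t = t * (e * t * e⁻¹ * t⁻¹) := by
        have a4 := s.E_comm e he _ a1
        rw [inv_eq_of_mul_eq_one_left (s.E_sq e he), inv_eq_of_mul_eq_one_left (h1 t ht)] at a4 ⊢
        rw [mul_assoc _ t t, h1 t ht, mul_one, ← mul_assoc, ← mul_assoc, ← mul_assoc, ← a4, ← mul_assoc, ← mul_assoc,
          mul_assoc _ t t, h1 t ht, mul_one]
      simpa using mul_mem (h3 _ (s.E_le_S a2) fun x hx => by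
        by_cases k : x ∈ s.E
        · exact s.E_comm _ a2 _ k
        · simpa [mul_assoc, h1 t ht] using
            ((show Commute _ _ from s.E_comm _ a2 _ (h4 x hx k t ht n)).mul_right a3).eq) ht
    obtain ⟨k, a1, a2⟩ := s.exists_move g s.E_le_S h5
    have m : ∀ {x}, k * x * k⁻¹ ∈ s.E ↔ x ∈ s.E := fun {x} => by
      rw [← conj_mem_cj (g := k) (x := x), s.wc k a2]
    obtain ⟨-, -, b1, b2, b3, -⟩ := s.f12
    obtain ⟨x, x1, x2⟩ := a1.ge s.eF.1
    obtain ⟨y, y1, y2⟩ := a1.ge s.eF.2.1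
    rw [← x2, ← y2, ← map_mul] at b3
    exact (b3 (m.2 (h4 x x1 (fun e => b1 (x2 ▸ m.2 e)) y y1 fun e => b2 (y2 ▸ m.2 e)))).elim
  push Not at h4
  obtain ⟨t1, m1, n1, t2, m2, n2, n3⟩ := h4
  rcases s.le_of_pair hg h1 h2 m1 m2 n1 n2 n3 with k | k | k
  · exact cj_eq_of_le k
  · exact (s.not_F1 g (eq_of_le_of_card_ge k (by rw [card_cj, s.gF.2, s.gF1.2]))).elim
  · exact (s.not_F1 (s.A * g) (eq_of_le_of_card_ge (cj_cj s.A g _ ▸ cj_le_iff.2 fun x hx =>
      s.f12.2.2.2.2.2.2.2.2.2.2.2.2 x (k hx)) (by rw [card_cj, s.gF.2, s.gF1.2]))).elim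

theorem ctrlF {x y : G} (hx : x ∈ s.F) (hy : y ∈ s.F) (h : IsConj x y) : ∃ n ∈ s.NF, n * x * n⁻¹ = y := by
  have := Fact.mk Nat.prime_two
  obtain ⟨g, rfl⟩ := isConj_iff.1 h
  obtain ⟨n, -, h1⟩ := exists_norm_conj s.syl s.F_le_S (fun g _ => s.wcF g) (mem_top g)
    (fun e he => s.F_comm e he x hx) fun e he => s.F_comm e he _ hy
  exact ⟨n, h1⟩

/-- The indices of the elements of `F` fused to `α`. -/
def zF (b1 b2 : Bool) (i : ℕ) : Bool :=
  i == 7 || (b1 && [16, 17, 20, 21, 24, 26, 28, 30].contains i) || (b2 && [18, 19, 22, 23, 25, 27, 29, 31].contains i)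

theorem zF_fold : ∀ b1 b2 : Bool,
    (Finset.univ.filter fun i : Fin 32 => zF b1 b2 i = true).fold (fun a b : ℕ => a ^^^ b) 0 Fin.val = 7 := by
  decide +kernel

theorem fixA : ∀ n ∈ s.NF, n * s.α * n⁻¹ = s.α := fun n hn => by
  classical
  have h7 : s.εF 7 = s.α := ((s.repF.nth 7).eq_iff (s.rep.nth 13)).1 (by decide +kernel)
  have h1 : ∀ i : Fin 32, zF (decide (IsConj s.α s.h)) (decide (IsConj s.α (s.h * s.α))) i = true ↔
      IsConj s.α (s.εF i) := fun i => by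
    have hr : s.cod.Rep (nth P.one cF i) (s.εF i) := s.repF.nth i
    have c : ∀ {x y : G}, (∃ k ∈ s.S, k * x * k⁻¹ = y) → (IsConj s.α x ↔ IsConj s.α y) := fun ⟨k, _, e⟩ =>
      ⟨fun h => h.trans (isConj_iff.2 ⟨k, e⟩), fun h => h.trans (isConj_iff.2 ⟨k, e⟩).symm⟩
    generalize s.εF i = x at hr
    fin_cases i
    all_goals first
      | exact iff_of_false (by simp [zF]) fun h => by
          obtain ⟨y, -, e⟩ : ∃ y ∈ s.S, y * y = x := s.hL.decide (hr.cons s.rep) (by decide +kernel)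
          exact s.not_sq y (e ▸ h)
      | exact Iff.trans (by simp [zF]) (c (x := s.h) (s.hL.decide (hr.cons s.rep) (by decide +kernel)))
      | exact Iff.trans (by simp [zF]) (c (x := s.h * s.α) (s.hL.decide (hr.cons s.rep) (by decide +kernel)))
      | exact iff_of_true (by simp [zF]) ((show s.α = x from s.hL.decide (hr.cons s.rep) (by decide +kernel)) ▸ .refl _)
  obtain ⟨σ, hσ⟩ := s.epsF.exists_ct hn
  have h3 := zF_fold (decide (IsConj s.α s.h)) (decide (IsConj s.α (s.h * s.α)))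
  simp only [h1] at h3
  have h4 := (St.fold_ct s.epsF (by norm_num) hσ (Finset.univ.filter fun i : Fin 32 => IsConj s.α (s.εF i))).2.2
  have h5 : (Finset.univ.filter fun i : Fin 32 => IsConj s.α (s.εF i)).map σ.toEmbedding =
      Finset.univ.filter fun i : Fin 32 => IsConj s.α (s.εF i) := by
    ext i
    obtain ⟨j, rfl⟩ := σ.surjective i
    rw [Finset.mem_map_equiv, Equiv.symm_apply_apply, Finset.mem_filter, Finset.mem_filter, ← hσ j]
    exact and_congr (by simp) ⟨fun e => e.trans (isConj_iff.2 ⟨n, rfl⟩), fun e => e.trans (isConj_iff.2 ⟨n, rfl⟩).symm⟩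
  have h6 := Finset.fold_map (op := fun a b : ℕ => a ^^^ b) (b := 0) (f := (Fin.val : Fin 32 → ℕ)) (g := σ.toEmbedding)
    (s := Finset.univ.filter fun i : Fin 32 => IsConj s.α (s.εF i))
  rw [h5, h3] at h6
  rw [h3, h7] at h4
  exact h4.trans ((congrArg s.εF h6.symm).trans h7)

end Crt

end Cfsg.Agent.O7
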