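import Mathlib
import Cfsg.Agent.O7.LDefs
import Cfsg.Agent.Cl.OrthMisc
import Cfsg.Agent.Cl.QuadOmega
import Cfsg.Agent.Cl.OrthForms

/-!
Orthogonal groups of sums of squares: definitions. Plan: `stubs/Cfsg/Agent/O7/PLAN.md`.
-/

set_option autoImplicit false

namespace Cfsg.Agent.O7

open Subgroup Cfsg.Agent.Cl QuadraticMap

variable {F : Type} [Field F] {n : ℕ}

/-- The sum of `n` squares. -/
abbrev Qn (n : ℕ) (F : Type) [Field F] : QuadraticForm F (Fin n → F) := weightedSumSquares F (1 : Fin n → F)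

/-- `Ω_n`. -/
abbrev Om (n : ℕ) (F : Type) [Field F] : Subgroup (OG (Qn n F)) := commutator (OG (Qn n F))

/-- The standard basis. -/
abbrev ee (i : Fin n) : Fin n → F := Pi.single i 1

/-- The reflection in a basis vector. -/
abbrev rr (F : Type) [Field F] (i : Fin n) : OG (Qn n F) := orefl (Qn n F) (ee i)

/-- The negative of a reflection. -/
def tt (u : Fin n → F) : OG (Qn n F) := OG.negOne _ * orefl _ u

/-- The reflection interchanging two basis vectors. -/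
abbrev sw (F : Type) [Field F] (i j : Fin n) : OG (Qn n F) := orefl (Qn n F) (ee i - ee j)

theorem Qn_apply (v : Fin n → F) : Qn n F v = ∑ i, v i ^ 2 := by simp [pow_two]

/-- A field automorphism acting on vectors. -/
def sv (σ : F ≃+* F) (v : Fin n → F) : Fin n → F := fun i => σ (v i)

@[simp] theorem sv_symm (σ : F ≃+* F) (v : Fin n → F) : sv σ.symm (sv σ v) = v := by ext i; simp [sv]

@[simp] theorem symm_sv (σ : F ≃+* F) (v : Fin n → F) : sv σ (sv σ.symm v) = v := by ext i; simp [sv]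

theorem sv_add (σ : F ≃+* F) (v w : Fin n → F) : sv σ (v + w) = sv σ v + sv σ w := by ext i; simp [sv]

theorem sv_smul (σ : F ≃+* F) (c : F) (v : Fin n → F) : sv σ (c • v) = σ c • sv σ v := by ext i; simp [sv]

theorem Qn_sv (σ : F ≃+* F) (v : Fin n → F) : Qn n F (sv σ v) = σ (Qn n F v) := by simp [sv]

/-- A field automorphism acting on linear maps. -/
def frL (σ : F ≃+* F) (g : (Fin n → F) →ₗ[F] (Fin n → F)) : (Fin n → F) →ₗ[F] (Fin n → F) where
  toFun v := sv σ (g (sv σ.symm v))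
  map_add' v w := by rw [sv_add, map_add, sv_add]
  map_smul' c v := by rw [sv_smul, map_smul, sv_smul]; simp

/-- A field automorphism acting on the orthogonal group. -/
def fr (σ : F ≃+* F) : OG (Qn n F) →* OG (Qn n F) :=
  MonoidHom.mk' (fun g => OG.ofLinear (frL σ g.1) (frL σ (g⁻¹).1) (fun x => by simp [frL]) (fun x => by simp [frL])
    fun x => by
      show Qn n F (sv σ (g.1 (sv σ.symm x))) = _
      rw [Qn_sv, OG.map_app, Qn_sv, RingEquiv.apply_symm_apply])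
    fun g h => OG.ext fun x => by simp [frL]

theorem fr_app (σ : F ≃+* F) (g : OG (Qn n F)) (v : Fin n → F) : (fr σ g).1 v = sv σ (g.1 (sv σ.symm v)) := rfl

/-- Permutation matrices. -/
def pm (F : Type) [Field F] : Equiv.Perm (Fin n) →* OG (Qn n F) :=
  MonoidHom.mk' (fun σ => OG.ofLinear (LinearMap.funLeft F F σ.symm) (LinearMap.funLeft F F σ)
    (fun x => by ext i; simp) (fun x => by ext i; simp) fun x => by
      rw [Qn_apply, Qn_apply]
      exact σ.symm.sum_comp fun i => x i ^ 2)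
    fun _ _ => OG.ext fun _ => rfl

theorem pm_app (σ : Equiv.Perm (Fin n)) (v : Fin n → F) (i : Fin n) : (pm F σ).1 v i = v (σ.symm i) := rfl

theorem pm_ee (σ : Equiv.Perm (Fin n)) (i : Fin n) : (pm F σ).1 (ee i) = ee (σ i) := by
  ext j
  simp [pm_app, Pi.single_apply, Equiv.symm_apply_eq]

/-- The elements of `Ω_n` fixing the basis vectors in `T`. -/
def Fx (F : Type) [Field F] (T : Finset (Fin n)) : Subgroup (OG (Qn n F)) where
  carrier := {g | g ∈ Om n F ∧ ∀ i ∈ T, g.1 (ee i) = ee i}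
  one_mem' := ⟨one_mem _, fun _ _ => rfl⟩
  mul_mem' := fun {g h} hg hh => ⟨mul_mem hg.1 hh.1, fun i hi => by rw [OG.mul_app, hh.2 i hi, hg.2 i hi]⟩
  inv_mem' := fun {g} hg => ⟨inv_mem hg.1, fun i hi => (OG.inv_app_eq_iff g).2 (hg.2 i hi).symm⟩

theorem mem_Fx {T : Finset (Fin n)} {g : OG (Qn n F)} : g ∈ Fx F T ↔ g ∈ Om n F ∧ ∀ i ∈ T, g.1 (ee i) = ee i := Iff.rfl

/-- The elements of `Ω_n` fixing the basis vectors in `T` up to sign. -/
def Hs (F : Type) [Field F] (T : Finset (Fin n)) : Subgroup (OG (Qn n F)) :=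
  Om n F ⊓ centralizer {x | ∃ i ∈ T, x = tt (ee i)}

theorem mem_Hs {T : Finset (Fin n)} {g : OG (Qn n F)} :
    g ∈ Hs F T ↔ g ∈ Om n F ∧ ∀ i ∈ T, Commute g (tt (ee i)) :=
  and_congr_right fun _ => ⟨fun h i hi => (h _ ⟨i, hi, rfl⟩).symm, fun h => by rintro _ ⟨i, hi, rfl⟩; exact (h i hi).symm⟩

/-- The centraliser in `Ω₇` of the last label. -/
abbrev H7 (F : Type) [Field F] : Subgroup (OG (Qn 7 F)) := Hs F {6}

/-- The element reversing the edge `tt (ee 5)`, `tt (ee 6)`. -/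
abbrev τ7 (F : Type) [Field F] : OG (Qn 7 F) := pm F (Equiv.swap 0 1 * Equiv.swap 5 6)

/-- The element of `H7` interchanging `tt (ee 4)`, `tt (ee 5)`. -/
abbrev η7 (F : Type) [Field F] : OG (Qn 7 F) := pm F (Equiv.swap 0 1 * Equiv.swap 4 5)

/-- The class of the labels. -/
def S7 (F : Type) [Field F] : Set (OG (Qn 7 F)) := {x | ∃ u, Qn 7 F u = 1 ∧ x = tt u}

/-- The commuting graph on the class of the labels. -/
def adj7 (x y : OG (Qn 7 F)) : Prop := x ∈ S7 F ∧ y ∈ S7 F ∧ x ≠ y ∧ Commute x y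

/-- Extension of a vector by a zero. -/
def ex0 (v : Fin n → F) : Fin (n + 1) → F := Fin.snoc v 0

/-- `e` is the embedding of `O_n` into `O_{n+1}` as the stabiliser of the last basis vector. -/
structure Emb (e : OG (Qn n F) →* OG (Qn (n + 1) F)) : Prop where
  app : ∀ g v, (e g).1 (ex0 v) = ex0 (g.1 v)
  last : ∀ g, (e g).1 (ee (Fin.last n)) = ee (Fin.last n)

variable [Fintype F] {Y : Type*} [Group Y]

/-- The order of the field is `3` or `5` modulo `8`. -/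
def Q35 (F : Type) [Fintype F] : Prop := Fintype.card F % 8 = 3 ∨ Fintype.card F % 8 = 5

/-- The centraliser of `a 6` is an extension of `H7 F` by field automorphisms. -/
structure OC (a : Fin 7 → Y) (ψ : OG (Qn 7 F) → Y) : Prop where
  card : Q35 F
  mul : ∀ x ∈ H7 F, ∀ y ∈ H7 F, ψ (x * y) = ψ x * ψ y
  inj : ∀ x ∈ H7 F, ψ x = 1 → x = 1
  lab : ∀ i, ψ (tt (ee i)) = a i
  act : ∀ y, Commute y (a 6) → ∃ h ∈ H7 F, ∃ σ : F ≃+* F, ∀ x ∈ H7 F, y * ψ x * y⁻¹ = ψ (h * fr σ x * h⁻¹)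
  cen : ∀ y, (∀ x ∈ H7 F, Commute y (ψ x)) → y = 1 ∨ y = a 6

namespace OC

variable {a : Fin 7 → Y} {ψ : OG (Qn 7 F) → Y} (h : OC a ψ)
include h

/-- The embedding as a homomorphism. -/
def hom : H7 F →* Y := MonoidHom.mk' (fun x => ψ x) fun x y => h.mul _ x.2 _ y.2

@[simp] theorem hom_apply (x : H7 F) : h.hom x = ψ x := rfl

theorem hom_inj : Function.Injective h.hom :=
  (injective_iff_map_eq_one _).2 fun x e => Subtype.ext (h.inj _ x.2 e)

theorem one : ψ 1 = 1 := h.hom.map_one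

theorem inv {x : OG (Qn 7 F)} (hx : x ∈ H7 F) : ψ x⁻¹ = (ψ x)⁻¹ := h.hom.map_inv ⟨x, hx⟩

theorem pow {x : OG (Qn 7 F)} (hx : x ∈ H7 F) (k : ℕ) : ψ (x ^ k) = ψ x ^ k := h.hom.map_pow ⟨x, hx⟩ k

theorem eq_iff {x y : OG (Qn 7 F)} (hx : x ∈ H7 F) (hy : y ∈ H7 F) : ψ x = ψ y ↔ x = y :=
  ⟨fun e => congrArg Subtype.val (h.hom_inj (a₁ := ⟨x, hx⟩) (a₂ := ⟨y, hy⟩) e), fun e => e ▸ rfl⟩

theorem conj {x y : OG (Qn 7 F)} (hx : x ∈ H7 F) (hy : y ∈ H7 F) : ψ (x * y * x⁻¹) = ψ x * ψ y * (ψ x)⁻¹ := by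
  rw [h.mul _ (mul_mem hx hy) _ (inv_mem hx), h.mul _ hx _ hy, h.inv hx]

end OC

/-- The normal subgroup `Ω₆` of the centraliser, with the labels in standard position. -/
structure O6 (a : Fin 7 → Y) (θ : Om 6 F →* Y) : Prop where
  card : Q35 F
  inj : Function.Injective θ
  lab : ∀ (i j : Fin 6) (x : Om 6 F), x.1 = rr F i * rr F j → θ x = a i.castSucc * a j.castSucc
  neg : ∀ x : Om 6 F, x.1 = OG.negOne _ → θ x = a 6
  refl : ∀ (i : Fin 6) (x y : Om 6 F), y.1 = rr F i * x.1 * rr F i → a i.castSucc * θ x * a i.castSucc = θ y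
  nmem : a 0 ∉ θ.range
  nc : ¬ IsConj (a 0) (a 0 * a 6)
  act : ∀ y : Y, ∃ (h : OG (Qn 6 F)) (σ : F ≃+* F), (h ∈ Om 6 F ∨ rr F 0 * h ∈ Om 6 F) ∧
    ∀ x x' : Om 6 F, x'.1 = h * fr σ x.1 * h⁻¹ → y * θ x * y⁻¹ = θ x'
  cen : ∀ y, (∀ x, Commute y (θ x)) → y = 1 ∨ y = a 6

/-- The normal subgroup `L` of the centraliser (before its identification with `Ω₆`). -/
structure Lq (a : Fin 7 → Y) (L : Subgroup Y) : Prop where
  lab : Lab a
  nrm : L.Normal
  mem : ∀ i j : Fin 6, a i.castSucc * a j.castSucc ∈ L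
  nmem : a 0 ∉ L
  z : ∀ y, Commute y (a 6)
  cen : ∀ y, (∀ l ∈ L, Commute y l) → y = 1 ∨ y = a 6
  odd : ∀ y, ∃ m, Odd m ∧ (y ^ m ∈ L ∨ (y * a 0) ^ m ∈ L)
  iso : ∀ y i, y * a i * y⁻¹ ∈ EE a → ∃ j, y * a i * y⁻¹ = a j

end Cfsg.Agent.O7
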