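import Mathlib
import Cfsg.Agent.O7.ODefs
import Cfsg.Agent.Cl.AutField
import Cfsg.Agent.Cl.AutBase

/-! Orthogonal groups of sums of squares: basic facts (PLAN: OA). -/

set_option autoImplicit false
set_option linter.unusedSectionVars false
set_option linter.unusedVariables false

namespace Cfsg.Agent.O7

open Subgroup Cfsg.Agent.Cl QuadraticMap Cfsg.Agent.GW
open scoped commutatorElement

universe u

variable {F : Type} [Field F] [Fintype F] {n : ℕ}


theorem Q35.two_ne (h : Q35 F) : (2 : F) ≠ 0 := by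
  intro e
  have h1 := FiniteField.even_card_of_char_two
    (CharP.ringChar_of_prime_eq_zero (R := F) Nat.prime_two (by exact_mod_cast e))
  rcases h with h | h <;> omega

theorem Q35.two_nsq (h : Q35 F) : ¬ IsSquare (2 : F) := by
  rw [FiniteField.isSquare_two_iff]
  rcases h with h | h <;> omega

theorem Q35.aut_odd (h : Q35 F) (σ : RingAut F) : Odd (orderOf σ) := by
  rw [← Nat.not_even_iff_odd]
  rintro ⟨k, hk⟩
  have h1 := Aut.card_eq_card_fixF_pow σ
  rw [hk, pow_add, Nat.card_eq_fintype_card] at h1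
  have h2 : ∀ m : ℕ, m * m % 8 ≠ 3 ∧ m * m % 8 ≠ 5 := fun m => by
    rw [Nat.mul_mod]
    have := Nat.mod_lt m (by norm_num : 8 > 0)
    generalize m % 8 = r at *
    interval_cases r <;> decide
  rcases h with h | h <;> rw [h1] at h
  exacts [(h2 _).1 h, (h2 _).2 h]

theorem Qn_nd (h2 : (2 : F) ≠ 0) : (polarBilin (Qn n F)).Nondegenerate := by
  exact o_wss_nondeg h2 fun _ => one_ne_zero

theorem Qn_polar (u v : Fin n → F) : polar (Qn n F) u v = 2 * ∑ i, u i * v i := by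
  simpa using o_polar_wss (1 : Fin n → F) u v

theorem Qn_ee (i : Fin n) : Qn n F (ee i) = 1 := by
  exact o_wss_single (1 : Fin n → F) i

theorem OA.polar_ee (u : Fin n → F) (i : Fin n) : polar (Qn n F) u (ee i) = 2 * u i := by
  simp [Qn_polar, Pi.single_apply]

theorem OA.pm_of (h2 : (2 : F) ≠ 0) {u v : Fin n → F} (hu : Qn n F u = 1) (hv : Qn n F v = 1) {c : F}
    (h : (2 : F) • u = c • v) : u = v ∨ u = -v := by
  have e : u = (c / 2) • v := by rw [div_eq_inv_mul, mul_smul, ← h, smul_smul, inv_mul_cancel₀ h2, one_smul]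
  rw [e, o_qsmul, hv, mul_one, sq_eq_one_iff] at hu
  rcases hu with a | a <;> simp [e, a]

theorem rr_app (h2 : (2 : F) ≠ 0) (i : Fin n) (v : Fin n → F) (j : Fin n) :
    (rr F i).1 v j = if j = i then -v j else v j := by
  rw [orefl_app, Qn_ee, OA.polar_ee]
  split_ifs with e <;> simp [e]
  ring

theorem tt_ee_app (h2 : (2 : F) ≠ 0) (i : Fin n) (v : Fin n → F) (j : Fin n) :
    (tt (ee i : Fin n → F)).1 v j = if j = i then v j else -v j := by
  change -(rr F i).1 v j = _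
  rw [rr_app h2]
  split_ifs <;> simp

theorem sw_eq (h2 : (2 : F) ≠ 0) {i j : Fin n} (hij : i ≠ j) : sw F i j = pm F (Equiv.swap i j) := by
  refine OG.ext fun v => funext fun l => ?_
  rw [orefl_app, o_qsub, polar_sub_right, Qn_ee, Qn_ee, OA.polar_ee, OA.polar_ee, OA.polar_ee, pm_app,
    Equiv.symm_swap, Equiv.swap_apply_def, show ee i j = (0 : F) from Pi.single_eq_of_ne hij.symm _,
    one_add_one_eq_two]
  split_ifs with e e'
  · simp [e, hij]; field_simp; ring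
  · simp [e', hij.symm]; field_simp; ring
  · simp [e, e']

theorem tt_sq (u : Fin n → F) : tt u * tt u = 1 := by
  rw [tt, mul_assoc, ← mul_assoc (orefl _ _), OG.negOne_comm, mul_assoc, orefl_mul_self, mul_one, OG.negOne_mul_self]

theorem tt_mul_tt (u v : Fin n → F) : tt u * tt v = orefl (Qn n F) u * orefl (Qn n F) v := by
  exact OG.ext fun x => by simp [tt]

theorem conj_tt (g : OG (Qn n F)) (u : Fin n → F) : g * tt u * g⁻¹ = tt (g.1 u) := by
  rw [tt, tt, ← conj_orefl, ← mul_assoc, OG.negOne_comm]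
  group

theorem tt_eq_iff (h2 : (2 : F) ≠ 0) {u v : Fin n → F} (hu : Qn n F u = 1) (hv : Qn n F v = 1) :
    tt u = tt v ↔ u = v ∨ u = -v := by
  refine ⟨fun h => OA.pm_of h2 hu hv (c := polar (Qn n F) u v) ?_, ?_⟩
  · have := congrArg (fun g : OG (Qn n F) => g.1 u) (mul_left_cancel h)
    simp only [orefl_app_self (hu ▸ one_ne_zero : Qn n F u ≠ 0)] at this
    rw [orefl_app, hv, inv_one, one_mul] at this
    linear_combination (norm := module) -this
  · rintro (rfl | rfl)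
    · rfl
    · rw [tt, orefl_neg, tt]

theorem comm_tt_iff (h2 : (2 : F) ≠ 0) {g : OG (Qn n F)} {u : Fin n → F} (hu : Qn n F u = 1) :
    Commute g (tt u) ↔ g.1 u = u ∨ g.1 u = -u := by
  rw [← tt_eq_iff h2 (by rw [OG.map_app, hu]) hu, ← conj_tt, mul_inv_eq_iff_eq_mul, commute_iff_eq]

theorem tt_comm_iff (h2 : (2 : F) ≠ 0) {u v : Fin n → F} (hu : Qn n F u = 1) (hv : Qn n F v = 1) :
    Commute (tt u) (tt v) ↔ u = v ∨ u = -v ∨ polar (Qn n F) u v = 0 := by
  have e : (tt u).1 v = -(v - polar (Qn n F) u v • u) := by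
    rw [tt, OG.mul_app, orefl_app, hu, inv_one, one_mul, polar_comm, OG.negOne_app]
  refine ⟨fun h => ?_, ?_⟩
  · rcases (comm_tt_iff h2 hv).1 h with h | h <;> rw [e] at h
    · rcases OA.pm_of h2 hv hu (c := polar (Qn n F) u v) (by linear_combination (norm := module) -h) with h | h
      exacts [Or.inl h.symm, Or.inr (Or.inl (by rw [h, neg_neg]))]
    · rw [neg_inj, sub_eq_self, smul_eq_zero] at h
      exact Or.inr (Or.inr (h.resolve_right (o_ne_zero_of_norm (hu ▸ one_ne_zero : Qn n F u ≠ 0))))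
  · rintro (h | h | h)
    · rw [h]
    · rw [(tt_eq_iff h2 hu hv).2 (Or.inr h)]
    · exact (comm_tt_iff h2 hv).2 (Or.inr (by rw [e, h, zero_smul, sub_zero]))

theorem tt_mem (h2 : (2 : F) ≠ 0) {u : Fin 7 → F} (hu : Qn 7 F u = 1) : tt u ∈ Om 7 F := by
  rw [mem_commutator_OG_iff (Qn_nd h2) (not_oExc_of_two_ne_zero h2), tt, map_mul, map_mul,
    dickson_orefl _ (hu ▸ one_ne_zero), ospin_orefl _ (hu ▸ one_ne_zero), dickson_negOne _ h2,
    quad_ospin_negOne h2 _ (Pi.basisFun F _), o_disc_wss, hu, (sqSign_eq_one_iff (a := (1 : F))).2 IsSquare.one,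
    sqSign_eq_one_iff.2 ⟨2 ^ 7, by simp⟩]
  simp
  decide

theorem refl_mul_mem (h2 : (2 : F) ≠ 0) {u v : Fin n → F} (hu : Qn n F u ≠ 0) (hv : Qn n F v ≠ 0) :
    orefl (Qn n F) u * orefl (Qn n F) v ∈ Om n F ↔ IsSquare (Qn n F u * Qn n F v) := by
  exact orefl_mul_orefl_mem_commutator_iff (Qn_nd h2) (not_oExc_of_two_ne_zero h2) hu hv

theorem neg_mem (h2 : (2 : F) ≠ 0) (hn : Even n) : OG.negOne (Qn n F) ∈ Om n F := by
  rw [quad_negOne_mem_iff h2 (Qn_nd h2) (by simpa using hn) (Pi.basisFun F _), o_disc_wss]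
  simpa using hn.isSquare_pow (2 : F)

theorem pm_mem (h2 : (2 : F) ≠ 0) {σ : Equiv.Perm (Fin n)} (h : Equiv.Perm.sign σ = 1) : pm F σ ∈ Om n F := by
  have : alternatingGroup (Fin n) ≤ (Om n F).comap (pm F) := by
    rw [← Equiv.Perm.closure_three_cycles_eq_alternating, closure_le]
    intro τ hτ
    have e : τ = τ ^ 2 * τ ^ 2 := by
      rw [← pow_add, show 2 + 2 = 3 + 1 from rfl, pow_succ, ← hτ.orderOf, pow_orderOf_eq_one, one_mul]
    rw [SetLike.mem_coe, mem_comap, e, map_mul]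
    exact sq_mem_commutator_OG (Qn_nd h2) (not_oExc_of_two_ne_zero h2) _
  exact this (Equiv.Perm.mem_alternatingGroup.2 h)

theorem pm_conj_tt (σ : Equiv.Perm (Fin n)) (i : Fin n) : pm F σ * tt (ee i) * (pm F σ)⁻¹ = tt (ee (σ i)) := by
  rw [conj_tt, pm_ee]

theorem tt_ee_mem_Hs (h2 : (2 : F) ≠ 0) (i : Fin 7) (T : Finset (Fin 7)) : tt (ee i) ∈ Hs F T := by
  refine mem_Hs.2 ⟨tt_mem h2 (Qn_ee i), fun j _ => (tt_comm_iff h2 (Qn_ee i) (Qn_ee j)).2 ?_⟩
  by_cases e : j = i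
  · exact Or.inl (by rw [e])
  · exact Or.inr (Or.inr (by simp [OA.polar_ee, e]))

theorem Fx_le_Hs (T : Finset (Fin n)) : Fx F T ≤ Hs F T := by
  exact fun g hg => mem_Hs.2 ⟨hg.1, fun i hi => mul_inv_eq_iff_eq_mul.1 (by rw [conj_tt, hg.2 i hi])⟩

theorem Hs_anti {T T' : Finset (Fin n)} (h : T ⊆ T') : Hs F T' ≤ Hs F T := by
  exact fun g hg => mem_Hs.2 ⟨hg.1, fun i hi => (mem_Hs.1 hg).2 i (h hi)⟩

theorem sv_ee (σ : F ≃+* F) (i : Fin n) : sv σ (ee i) = ee i := by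
  ext j
  simp only [sv, Pi.single_apply]
  split_ifs <;> simp

theorem fr_orefl (σ : F ≃+* F) (u : Fin n → F) : fr σ (orefl (Qn n F) u) = orefl (Qn n F) (sv σ u) := by
  refine OG.ext fun v => ?_
  rw [fr_app, orefl_app, orefl_app, sub_eq_add_neg, ← neg_smul, sv_add, sv_smul, symm_sv, Qn_sv, Qn_polar, Qn_polar]
  simp [sv, sub_eq_add_neg, map_ofNat]

theorem fr_tt (σ : F ≃+* F) (u : Fin n → F) : fr σ (tt u) = tt (sv σ u) := by
  rw [tt, map_mul, fr_orefl, tt]
  congr 1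
  exact OG.ext fun v => funext fun i => by simp [fr_app, sv]

theorem fr_pm (σ : F ≃+* F) (π : Equiv.Perm (Fin n)) : fr σ (pm F π) = pm F π := by
  exact OG.ext fun v => funext fun i => by simp [fr_app, sv, pm_app]

theorem fr_refl (g : OG (Qn n F)) : fr (RingEquiv.refl F) g = g := by
  rfl

theorem fr_fr (σ τ : F ≃+* F) (g : OG (Qn n F)) : fr σ (fr τ g) = fr (τ.trans σ) g := by
  rfl

theorem fr_mem_Om (σ : F ≃+* F) {g : OG (Qn n F)} : fr σ g ∈ Om n F ↔ g ∈ Om n F := by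
  have k : ∀ (σ : F ≃+* F) {g : OG (Qn n F)}, g ∈ Om n F → fr σ g ∈ Om n F := fun σ g h =>
    commutator_mono le_top le_top ((map_commutator_eq _ (fr σ)).le (mem_map_of_mem _ h))
  exact ⟨fun h => by simpa [fr_fr, fr_refl] using k σ.symm h, k σ⟩

theorem fr_mem_Hs (σ : F ≃+* F) {T : Finset (Fin n)} {g : OG (Qn n F)} : fr σ g ∈ Hs F T ↔ g ∈ Hs F T := by
  have k : ∀ (σ : F ≃+* F) {g : OG (Qn n F)}, g ∈ Hs F T → fr σ g ∈ Hs F T := fun σ g h =>
    mem_Hs.2 ⟨(fr_mem_Om σ).2 h.1, fun i hi => by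
      simpa only [fr_tt, sv_ee] using ((mem_Hs.1 h).2 i hi).map (fr σ)⟩
  exact ⟨fun h => by simpa [fr_fr, fr_refl] using k σ.symm h, k σ⟩

theorem fr_mem_Fx (σ : F ≃+* F) {T : Finset (Fin n)} {g : OG (Qn n F)} : fr σ g ∈ Fx F T ↔ g ∈ Fx F T := by
  have k : ∀ (σ : F ≃+* F) {g : OG (Qn n F)}, g ∈ Fx F T → fr σ g ∈ Fx F T := fun σ g h =>
    ⟨(fr_mem_Om σ).2 h.1, fun i hi => by rw [fr_app, sv_ee, h.2 i hi, sv_ee]⟩
  exact ⟨fun h => by simpa [fr_fr, fr_refl] using k σ.symm h, k σ⟩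

theorem mul_fr_mem (h2 : (2 : F) ≠ 0) (σ : F ≃+* F) (g : OG (Qn n F)) : g * fr σ g ∈ Om n F := by
  have hQ := Qn_nd (n := n) h2
  have hx := not_oExc_of_two_ne_zero (Q := Qn n F) h2
  have ne : ∀ v, Qn n F v ≠ 0 → Qn n F (sv σ v) ≠ 0 := fun v hv => by rwa [Qn_sv, map_ne_zero]
  have h1 : (dickson hQ).comp (fr σ) = dickson hQ := o_hom_ext hQ hx fun v hv => by
    rw [MonoidHom.comp_apply, fr_orefl, dickson_orefl _ hv, dickson_orefl _ (ne v hv)]
  have h3 : (ospin hQ).comp (fr σ) = ospin hQ := o_hom_ext hQ hx fun v hv => by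
    rw [MonoidHom.comp_apply, fr_orefl, ospin_orefl _ hv, ospin_orefl _ (ne v hv), Qn_sv, sqSign_eq_iff]
    exact ⟨fun h => by simpa using h.map σ.symm, fun h => h.map σ⟩
  rw [mem_commutator_OG_iff hQ hx, map_mul, map_mul, ← MonoidHom.comp_apply _ (fr σ), h1,
    ← MonoidHom.comp_apply _ (fr σ), h3]
  simp

/-- A field automorphism which is trivial on a non-degenerate three-space, up to conjugation, is trivial. -/
theorem fr_triv (h2 : (2 : F) ≠ 0) {i j k : Fin n} (hij : i ≠ j) (hjk : j ≠ k) (hik : i ≠ k) {g : OG (Qn n F)}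
    {σ : F ≃+* F} (h : ∀ u : Fin n → F, (∀ l, l ≠ i → l ≠ j → l ≠ k → u l = 0) → Qn n F u = 1 →
      g * fr σ (tt u) * g⁻¹ = tt u) : σ = RingEquiv.refl F := by
  have k1 : ∀ u : Fin n → F, (∀ l, l ≠ i → l ≠ j → l ≠ k → u l = 0) → Qn n F u = 1 →
      g.1 (sv σ u) = u ∨ g.1 (sv σ u) = -u := fun u h1 h3 => by
    have := h u h1 h3
    rwa [fr_tt, conj_tt, tt_eq_iff h2 (by rw [OG.map_app, Qn_sv, h3, map_one]) h3] at this
  have k2 := k1 (ee i) (fun l hl _ _ => Pi.single_eq_of_ne hl _) (Qn_ee i)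
  rw [sv_ee] at k2
  have k3 : ∀ x, σ x = x ∨ σ x = -x := fun x => by
    obtain ⟨y, z, e⟩ := Aut.exists_sq_add_sq (1 - x ^ 2)
    obtain ⟨u, hu⟩ : ∃ u : Fin n → F, u = x • ee i + y • ee j + z • ee k := ⟨_, rfl⟩
    have h1 := k1 u (fun l a b c => by simp [hu, a, b, c]) (by
      simp only [hu, oexp, Qn_ee, OA.polar_ee]
      simp [hij.symm, hjk.symm, hik.symm]
      linear_combination -e)
    have h3 := OG.polar_app g (sv σ u) (ee i)
    have h4 : u i = x := by simp [hu, hij, hik]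
    rcases h1 with a | a <;> rcases k2 with b | b <;> rw [a, b] at h3 <;>
      simp only [polar_neg_left, polar_neg_right, OA.polar_ee, sv, h4, neg_neg, ← mul_neg, mul_right_inj' h2] at h3
    exacts [Or.inl h3.symm, Or.inr h3.symm, Or.inr h3.symm, Or.inl h3.symm]
  refine RingEquiv.ext fun x => (k3 x).elim id fun a => ?_
  rcases k3 (x + 1) with b | b <;> rw [map_add, map_one, a] at b
  · exact a.trans (show -x = x by linear_combination b)
  · exact absurd (by linear_combination b) h2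

end Cfsg.Agent.O7
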