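import Mathlib
import Cfsg.Agent.O7.OA
import Cfsg.Agent.Cl.AutOOut
import Cfsg.Agent.S0813
import Cfsg.Agent.S0814
import Cfsg.Agent.S0815
import Cfsg.Agent.S0301
import Cfsg.Agent.S0302
import Cfsg.Agent.S0303

/-! Automorphisms of `Ω₅` and `Ω₆`, by counting. -/

set_option autoImplicit false
set_option linter.unusedSectionVars false

namespace Cfsg.Agent.O7

open Subgroup Cfsg.Agent.Cl QuadraticMap Cfsg.Agent.GW
open scoped commutatorElement

universe u

variable {F : Type} [Field F] [Fintype F] {n : ℕ}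

namespace AutA

open Cfsg.Agent.Cl.Aut

theorem eq_of_central {H R : Type*} [Group H] [Group R] [Group.IsPerfect H] (f g : H →* R)
    (h : ∀ x, f x * (g x)⁻¹ ∈ Subgroup.center R) (x : H) : f x = g x := by
  have hx : x ∈ commutator H := by rw [Group.IsPerfect.commutator_eq_top]; trivial
  have : commutator H ≤ f.eqLocus g := by
    rw [commutator_def, Subgroup.commutator_le]
    intro a _ b _
    change f _ = g _
    obtain ⟨z, hz, ha⟩ : ∃ z ∈ Subgroup.center R, f a = z * g a := ⟨_, h a, by simp⟩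
    obtain ⟨w, hw, hb⟩ : ∃ w ∈ Subgroup.center R, f b = w * g b := ⟨_, h b, by simp⟩
    rw [map_commutatorElement, map_commutatorElement, ha, hb]
    have h1 := Subgroup.mem_center_iff.1 hz
    have h2 := Subgroup.mem_center_iff.1 hw
    have e1 : ⁅z * g a, w * g b⁆ = z * (g a * (w * g b) * (g a)⁻¹) * z⁻¹ * (w * g b)⁻¹ := by
      simp only [commutatorElement_def]; group
    rw [e1, ← h1, mul_inv_cancel_right, ← mul_assoc, h2 (g a)]
    have e2 : w * g a * g b * (g a)⁻¹ * (w * g b)⁻¹ = w * ⁅g a, g b⁆ * w⁻¹ := by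
      simp only [commutatorElement_def]; group
    rw [e2, ← h2, mul_inv_cancel_right]
  exact this hx

variable {ι κ : Type} [Fintype ι] [DecidableEq ι] [Fintype κ] [DecidableEq κ]
  {P : QuadraticForm F (ι → F)} {P' : QuadraticForm F (κ → F)}

/-- Similar forms have isomorphic projective groups. -/
noncomputable def pomSim (e : (ι → F) ≃ₗ[F] (κ → F)) {c : F} (hc : c ≠ 0) (h : ∀ v, P' (e v) = c * P v) :
    POmega F ⇑P ≃* POmega F ⇑P' :=
  (pomegaEquivOG P).trans ((centerQuotCongr (commutatorCongr (OG.congrSim e hc h))).trans (pomegaEquivOG P').symm)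

theorem card_aut_congr {X Y : Type*} [Group X] [Group Y] (e : X ≃* Y) :
    Nat.card (MulAut X) = Nat.card (MulAut Y) := Nat.card_congr (MulAut.congr e).toEquiv

theorem surj_of_card (hP : (polarBilin P).Nondegenerate) (hn : 5 ≤ Fintype.card ι)
    (h : Nat.card (MulAut (POmega F ⇑P)) = Nat.card (oπ P).range * Nat.card (POmega F ⇑P))
    (α : MulAut (POmega F ⇑P)) : ∃ γ, quad_ψ P γ = α := by
  haveI : Finite (POmega F ⇑P) := inferInstanceAs (Finite (_ ⧸ _))
  haveI : Finite (MulAut (POmega F ⇑P)) := Finite.of_injective _ (MulEquiv.toEquiv_injective)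
  rw [o_card_mulAut hP hn] at h
  have h1 := Nat.eq_of_mul_eq_mul_right Nat.card_pos h
  have h2 : (oπ P).range = ⊤ := eq_top_of_card_eq _ h1.symm
  obtain ⟨γ, hγ⟩ : (QuotientGroup.mk α : Out _) ∈ (oπ P).range := h2 ▸ mem_top _
  have h3 : (quad_ψ P γ)⁻¹ * α ∈ Inn (POmega F ⇑P) := QuotientGroup.eq.1 hγ
  rw [quad_Inn_eq] at h3
  obtain ⟨g, -, hg⟩ := h3
  exact ⟨γ * quad_toΓO P g, by rw [map_mul]; exact (mul_eq_of_eq_inv_mul hg :)⟩

theorem ψ_mk (γ : quad_ΓO P) {s s' : Omega F ⇑P}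
    (h : ∀ v, (omatEquiv P s'.1).1 (semiMap γ.1.left γ.1.right v) =
      semiMap γ.1.left γ.1.right ((omatEquiv P s.1).1 v)) :
    quad_ψ P γ (QuotientGroup.mk s) = QuotientGroup.mk s' :=
  (quad_induced_iff γ _).2 rfl s s' (Matrix.ext_iff_mulVec.2 fun v => by
    obtain ⟨v, rfl⟩ := (semiMap_bijective γ.1.left γ.1.right).2 v
    exact (h v).trans (semiMap_mulVec _ _ _ _))

theorem exists_pf (h : Q35 F) : ∃ (p f : ℕ) (_ : Fact p.Prime), 1 ≤ f ∧ Fintype.card F = p ^ f ∧ Odd (p ^ f) := by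
  obtain ⟨p, _, f, hp, hF⟩ := FiniteField.card' F
  refine ⟨p, f, ⟨hp⟩, f.2, hF, hF ▸ ?_⟩
  rcases h with h | h <;> exact Nat.odd_iff.2 (by omega)

theorem frob {p f : ℕ} [Fact p.Prime] (hF : Fintype.card F = p ^ f) :
    ∃ φ : quad_ΓO (Qn n F), OFrob φ ∧ φ ^ f = 1 :=
  exists_oFrob (by rw [Nat.card_eq_fintype_card, hF]) fun σ v => Qn_sv σ v

theorem surj5 (h : Q35 F) (α : MulAut (POmega F ⇑(Qn 5 F))) : ∃ γ, quad_ψ (Qn 5 F) γ = α := by
  obtain ⟨p, f, _, hf, hF, ho⟩ := exists_pf h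
  have h2 := h.two_ne
  have hP := Qn_nd (n := 5) h2
  have hF' : Nat.card F = p ^ f := by rw [Nat.card_eq_fintype_card, hF]
  refine surj_of_card hP (by simp) ?_ α
  obtain ⟨e1⟩ := o_range_two hP (by simp) hf hF' (o_index_N_odd hP h2 (by simp) (by simp; decide)) (frob hF)
  obtain ⟨c, g, hc, hg⟩ := quad_classify_odd' hP (m := 2) (by simp)
  obtain ⟨e2⟩ := S0301.result (F := F) (hF ▸ ho)
  have e3 := (pomSim (P := Qn 5 F) (P' := quad_odd 2 F) g (inv_ne_zero hc) fun v => by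
    rw [← hg, inv_mul_cancel_left₀ hc]; rfl).trans e2
  have hq : 3 ≤ p ^ f := by rcases h with h | h <;> omega
  haveI : NeZero f := ⟨by omega⟩
  have hp : p ≠ 2 := by
    rintro rfl
    exact absurd ho (Nat.not_odd_iff_even.2 (Nat.even_pow.2 ⟨even_two, by omega⟩))
  have hg2 : Nat.gcd 2 (p ^ f - 1) = 2 := Nat.gcd_eq_left (by obtain ⟨k, hk⟩ := ho; omega)
  rw [card_aut_congr e3, S0814.result p f hf hF 2 le_rfl fun _ => hq, Nat.card_congr e1.toEquiv,
    Nat.card_congr e3.toEquiv, if_neg fun x => hp x.2, hg2]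
  simp [Nat.card_prod]

theorem surj6 (h : Q35 F) (α : MulAut (POmega F ⇑(Qn 6 F))) : ∃ γ, quad_ψ (Qn 6 F) γ = α := by
  obtain ⟨p, f, _, hf, hF, ho⟩ := exists_pf h
  have h2 := h.two_ne
  have hP := Qn_nd (n := 6) h2
  have hF' : Nat.card F = p ^ f := by rw [Nat.card_eq_fintype_card, hF]
  refine surj_of_card hP (by simp) ?_ α
  have hneg : OG.negOne (Qn 6 F) ∈ Om 6 F := neg_mem h2 (by decide)
  have E : QuadEven (Qn 6 F) 3 := ⟨h2, hP, by simp, by decide⟩
  obtain ⟨e1⟩ := E.range_dihedral le_rfl hf hF' hneg ((frob hF).imp fun φ x => ⟨x.1, .inr x.2⟩)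
  haveI : NeZero f := ⟨by omega⟩
  have c1 : Nat.card (oπ (Qn 6 F)).range = 8 * f := by
    rw [Nat.card_congr e1.toEquiv]; simp [Nat.card_prod, DihedralGroup.card]
  have tr : ∀ {κ : Type} [Fintype κ] [DecidableEq κ] {P' : QuadraticForm F (κ → F)} (g : (Fin 6 → F) ≃ₗ[F] (κ → F))
      (hg : ∀ v, P' (g v) = Qn 6 F v), OG.negOne P' ∈ commutator (OG P') := fun {κ} _ _ P' g hg => by
    have := (mulEquiv_mem_commutator_iff (OG.congrSim g one_ne_zero fun v => by rw [hg, one_mul]) _).2 hneg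
    convert this using 1
    exact OG.ext fun x => by simp
  have hm4 : ∀ r, r % 4 = 1 ∨ r % 4 = 3 → p ^ f % 2 = 1 → (p ^ f) ^ 3 % 4 = r → p ^ f % 4 = r := fun r hr a b => by
    have : p ^ f % 4 = 1 ∨ p ^ f % 4 = 3 := by omega
    rcases this with x | x <;> rw [Nat.pow_mod, x] at b <;> omega
  rw [c1]
  rcases quad_classify_even hP (m := 3) (by simp) with ⟨g, hg⟩ | ⟨-, hg⟩
  · have h4 := (negOne_mem_commutator_plus_iff h2 3).1 (tr (P' := quad_plus 3 F) g hg)
    rw [hF] at h4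
    have h5 := hm4 1 (.inl rfl) (Nat.odd_iff.1 ho) h4
    obtain ⟨e2⟩ := S0302.result (F := F)
    have e3 := (pomSim (P := Qn 6 F) (P' := quad_plus 3 F) g one_ne_zero fun v => by
      rw [one_mul]; exact hg v).trans e2
    have hg4 : Nat.gcd 4 (p ^ f - 1) = 4 := Nat.gcd_eq_left (by omega)
    have := card_psl_mul (ι := Fin 4) (F := F)
    rw [hF', Fintype.card_fin, hg4] at this
    rw [card_aut_congr e3, S0813.result p f hf hF 4 (by decide) (by simp), Nat.card_congr e3.toEquiv, card_pgl, ← this,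
      if_neg (by decide)]
    ring
  · have hab : ∀ z₁ z₂ : F, z₁ ^ 2 + 0 * z₁ * z₂ + (-2) * z₂ ^ 2 = 0 → z₁ = 0 ∧ z₂ = 0 := fun x y e => by
      by_cases hy : y = 0
      · subst hy
        exact ⟨by simpa using e, rfl⟩
      · exact absurd ⟨x / y, by field_simp; linear_combination -e⟩ h.two_nsq
    obtain ⟨g, hg⟩ := hg 0 (-2) fun t e => one_ne_zero (hab t 1 (by linear_combination e)).2
    have h4 := (negOne_mem_commutator_minus_iff h2 2 hab).1 (tr (P' := quad_minus 2 F 0 (-2)) g hg)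
    rw [hF] at h4
    have h5 := hm4 3 (.inr rfl) (Nat.odd_iff.1 ho) h4
    letI : Fintype (GaloisField p (2 * f)) := Fintype.ofFinite _
    have hK : Fintype.card (GaloisField p (2 * f)) = (p ^ f) ^ 2 := by
      rw [← Nat.card_eq_fintype_card, GaloisField.card p _ (by omega), ← pow_mul, mul_comm]
    obtain ⟨e2⟩ := S0303.result hF hK 0 (-2) hab
    have e3 := (pomSim (P := Qn 6 F) (P' := quad_minus 2 F 0 (-2)) g one_ne_zero fun v => by
      rw [one_mul]; exact hg v).trans e2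
    have hg4 : Nat.gcd 4 (p ^ f + 1) = 4 := Nat.gcd_eq_left (by omega)
    rw [card_aut_congr e3, S0815.result p f hf rfl hK 4 (by decide) (by simp), Nat.card_congr e3.toEquiv, hg4]
    ring

end AutA

theorem aut56 (h : Q35 F) (hn : n = 5 ∨ n = 6) (φ : MulAut (Om n F)) :
    ∃ (σ : F ≃+* F) (g : (Fin n → F) ≃ₗ[F] (Fin n → F)) (c : F), c ≠ 0 ∧ (∀ v, Qn n F (g v) = c * Qn n F v) ∧
      ∀ (x : Om n F) v, (φ x).1.1 (g v) = g ((fr σ x.1).1 v) := by
  have hP := Qn_nd (n := n) h.two_ne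
  have h5 : 5 ≤ n := by omega
  let ω := omegaEquivOG (Qn n F)
  let α : MulAut (POmega F ⇑(Qn n F)) := centerQuotCongr ((ω.trans φ).trans ω.symm)
  obtain ⟨γ, hγ⟩ : ∃ γ, quad_ψ (Qn n F) γ = α := by
    rcases hn with rfl | rfl
    exacts [AutA.surj5 h α, AutA.surj6 h α]
  obtain ⟨c, hc⟩ := γ.2
  let σ : F ≃+* F := γ.1.right
  let g := glEquiv (Fin n) F γ.1.left
  have hs : ∀ v, Aut.semiMap γ.1.left γ.1.right v = g (sv σ v) := fun _ => rfl
  have hg : ∀ v, Qn n F (g v) = c * Qn n F v := fun v => by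
    have := hc (sv σ.symm v)
    rwa [hs, symm_sv, Qn_sv, RingEquiv.apply_symm_apply] at this
  let β : Om n F →* Om n F := (commutatorCongr (OG.congrSim g c.ne_zero hg)).toMonoidHom.comp
    (((fr σ).comp (Om n F).subtype).codRestrict _ fun x => (fr_mem_Om σ).2 x.2)
  have hβ : ∀ (x : Om n F) v, (β x).1.1 (g v) = g ((fr σ x.1).1 v) := fun x v =>
    (OG.congrSim_app g c.ne_zero hg (fr σ x.1) (g v)).trans (by rw [g.symm_apply_apply])
  haveI := isPerfect_commutator_OG hP (by simpa using h5)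
  refine ⟨σ, g, c, c.ne_zero, hg, fun x v => ?_⟩
  rw [← hβ]
  refine congrArg (fun y : Om n F => y.1.1 (g v)) (AutA.eq_of_central φ.toMonoidHom β (fun x => ?_) x)
  have e1 : quad_ψ (Qn n F) γ (QuotientGroup.mk (ω.symm x)) = QuotientGroup.mk (ω.symm (β x)) :=
    AutA.ψ_mk γ fun v => by
      have a1 : ∀ y : Om n F, omatEquiv (Qn n F) (ω.symm y).1 = y.1 := fun y =>
        congrArg Subtype.val (ω.apply_symm_apply y)
      rw [a1, a1, hs, hs, hβ, fr_app, sv_symm]
  rw [hγ] at e1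
  have e2 : (QuotientGroup.mk (φ x) : Om n F ⧸ center _) = QuotientGroup.mk (β x) := by
    have := congrArg (centerQuotCongr ω) e1
    simpa [α] using this
  have e3 := QuotientGroup.eq.1 e2.symm
  have e4 : φ.toMonoidHom x * (β x)⁻¹ = β x * ((β x)⁻¹ * φ x) * (β x)⁻¹ := by simp
  rw [e4]
  exact (inferInstance : (center (Om n F)).Normal).conj_mem _ e3 _

end Cfsg.Agent.O7
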