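import Mathlib
import Cfsg.Agent.O7.OA

/-! Orthogonal groups of sums of squares: transitivity, stabilisers. -/

set_option autoImplicit false
set_option linter.unusedSectionVars false

namespace Cfsg.Agent.O7

open Subgroup Cfsg.Agent.Cl QuadraticMap Cfsg.Agent.GW
open scoped commutatorElement

universe u

variable {F : Type} [Field F] [Fintype F] {n : ℕ}

open Polynomial in
theorem ob_rep (h2 : (2 : F) ≠ 0) {δ : F} (hδ : δ ≠ 0) (c : F) : ∃ a b : F, a ^ 2 + δ * b ^ 2 = c := by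
  have hc : ringChar F ≠ 2 := fun h => h2 (by exact_mod_cast (ringChar.spec F 2).2 (h ▸ dvd_rfl))
  obtain ⟨a, b, hab⟩ := FiniteField.exists_root_sum_quadratic (f := X ^ 2 - C c)
    (g := C δ * X ^ 2) (degree_X_pow_sub_C (by decide) _)
    (degree_C_mul_X_pow 2 hδ) (FiniteField.odd_card_of_char_ne_two hc)
  simp only [eval_sub, eval_pow, eval_X, eval_C, eval_mul] at hab
  exact ⟨a, b, by linear_combination hab⟩

theorem polar_ee_left (i : Fin n) (v : Fin n → F) : polar (Qn n F) (ee i) v = 2 * v i := by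
  rw [Qn_polar]; simp [Pi.single_apply]

theorem polar_ee_right (i : Fin n) (v : Fin n → F) : polar (Qn n F) v (ee i) = 2 * v i := by
  rw [polar_comm, polar_ee_left]

theorem polar_ee_ee {i j : Fin n} (h : i ≠ j) : polar (Qn n F) (ee i) (ee j) = 0 := by
  rw [polar_ee_left]; simp [h]

theorem og_ext {g g' : OG (Qn n F)} (h : ∀ i, g.1 (ee i) = g'.1 (ee i)) : g = g' :=
  Subtype.ext ((Pi.basisFun F (Fin n)).ext' fun i => by simpa using h i)

theorem mem_Om_iff (h2 : (2 : F) ≠ 0) (g : OG (Qn n F)) :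
    g ∈ Om n F ↔ dickson (Qn_nd h2) g = 1 ∧ ospin (Qn_nd h2) g = 1 :=
  mem_commutator_OG_iff (Qn_nd h2) (not_oExc_of_two_ne_zero h2) g

/-- Correction of an isometry by reflections in a plane orthogonal to the targets. -/
theorem ob_corr (h2 : (2 : F) ≠ 0) {ι : Type} (u v : ι → Fin n → F) (g : OG (Qn n F)) (hg : ∀ i, g.1 (u i) = v i)
    {z w : Fin n → F} (hz : Qn n F z ≠ 0) (hw : Qn n F w = 1) (wz : polar (Qn n F) w z = 0)
    (vz : ∀ i, polar (Qn n F) (v i) z = 0) (vw : ∀ i, polar (Qn n F) (v i) w = 0) :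
    ∃ g ∈ Om n F, ∀ i, g.1 (u i) = v i := by
  let S : Subgroup (OG (Qn n F)) := ⨅ i, MulAction.stabilizer (OG (Qn n F)) (v i)
  have hS : ∀ k, k ∈ S ↔ ∀ i, k.1 (v i) = v i := fun k => by
    simp only [S, mem_iInf, MulAction.mem_stabilizer_iff, OG.smul_def]
  have hw0 : Qn n F w ≠ 0 := by rw [hw]; exact one_ne_zero
  have wS : orefl (Qn n F) w ∈ S := (hS _).2 fun i => orefl_app_of_polar (vw i)
  obtain ⟨k, hk, hgk⟩ := quad_exists_mul_mem_commutator (Qn_nd h2) (not_oExc_of_two_ne_zero h2) S g⁻¹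
    (Or.inr ⟨_, wS, dickson_orefl _ hw0⟩) fun s hs => by
      obtain ⟨a, b, hab⟩ := ob_rep h2 hz s
      have hq : Qn n F (a • w + b • z) = s := by
        simp only [oexp, hw, wz]; linear_combination hab
      have hq0 : Qn n F (a • w + b • z) ≠ 0 := by rw [hq]; exact hs
      refine ⟨orefl _ w * orefl _ (a • w + b • z), mul_mem wS ((hS _).2 fun i => orefl_app_of_polar ?_), ?_, ?_⟩
      · simp only [oexp, vz i, vw i]; ring
      · rw [map_mul, dickson_orefl _ hw0, dickson_orefl _ hq0]; simp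
      · rw [map_mul, ospin_orefl _ hw0, ospin_orefl _ hq0, hw, hq]; simp
  refine ⟨(g⁻¹ * k)⁻¹, inv_mem hgk, fun i => ?_⟩
  rw [mul_inv_rev, inv_inv, OG.mul_app, hg, OG.inv_app_eq_iff, (hS k).1 hk]

theorem ob_li (h2 : (2 : F) ≠ 0) {k : ℕ} (u : Fin k → Fin n → F) (hu : ∀ i, Qn n F (u i) = 1)
    (hu' : ∀ i j, i ≠ j → polar (Qn n F) (u i) (u j) = 0) : LinearIndependent F u := by
  refine LinearMap.linearIndependent_of_isOrthoᵢ (B := polarBilin (Qn n F)) (fun i j hij => hu' i j hij) fun i h => ?_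
  have h' : polar (Qn n F) (u i) (u i) = 0 := h
  rw [o_polar_self, hu, mul_one] at h'
  exact h2 h'

theorem ob_std (h2 : (2 : F) ≠ 0) {k : ℕ} (hk : k + 2 ≤ n) (u : Fin k → Fin n → F)
    (hu : ∀ i, Qn n F (u i) = 1) (hu' : ∀ i j, i ≠ j → polar (Qn n F) (u i) (u j) = 0) :
    ∃ g ∈ Om n F, ∀ i, g.1 (u i) = ee (i.castLE (by omega)) := by
  have hv' : ∀ i j : Fin k, i ≠ j →
      polar (Qn n F) (ee (i.castLE (by omega) : Fin n)) (ee (j.castLE (by omega) : Fin n)) = 0 :=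
    fun i j hij => polar_ee_ee fun e => hij (Fin.castLE_injective _ e)
  obtain ⟨g, hg, hgu⟩ := witt_quadratic_family (Qn_nd h2) u (fun i => ee (i.castLE (by omega) : Fin n))
    (ob_li h2 u hu hu') (ob_li h2 _ (fun i => Qn_ee _) hv') (fun i j hij => by rw [hv' i j hij, hu' i j hij])
    fun i => by rw [hu, Qn_ee]
  refine ob_corr h2 u _ ⟨g, hg⟩ hgu (z := ee ⟨k, by omega⟩) (w := ee ⟨k + 1, by omega⟩)
    (by rw [Qn_ee]; exact one_ne_zero) (Qn_ee _) (polar_ee_ee ?_) (fun i => polar_ee_ee ?_) fun i => polar_ee_ee ?_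
  · simp
  · intro e; have := congrArg Fin.val e; have := i.2; simp at *; omega
  · intro e; have := congrArg Fin.val e; have := i.2; simp at *; omega

/-- Transitivity of `Ω_n` on orthonormal tuples. -/
theorem exists_map (h2 : (2 : F) ≠ 0) {k : ℕ} (hk : k + 2 ≤ n) (u v : Fin k → Fin n → F)
    (hu : ∀ i, Qn n F (u i) = 1) (hv : ∀ i, Qn n F (v i) = 1)
    (hu' : ∀ i j, i ≠ j → polar (Qn n F) (u i) (u j) = 0) (hv' : ∀ i j, i ≠ j → polar (Qn n F) (v i) (v j) = 0) :
    ∃ g ∈ Om n F, ∀ i, g.1 (u i) = v i := by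
  obtain ⟨g, hg, e⟩ := ob_std h2 hk u hu hu'
  obtain ⟨g', hg', e'⟩ := ob_std h2 hk v hv hv'
  exact ⟨g'⁻¹ * g, mul_mem (inv_mem hg') hg, fun i => by rw [OG.mul_app, e, OG.inv_app_eq_iff, e']⟩

theorem ob_li' {T : Finset (Fin n)} {u : Fin n → F} (hu : ∀ i ∈ T, u i = 0) (u0 : u ≠ 0) :
    LinearIndependent F fun o : Option T => (o.elim u fun i => ee i.1 : Fin n → F) := by
  rw [Fintype.linearIndependent_iff]
  intro c hc
  rw [Fintype.sum_option] at hc
  have hs : ∀ j : T, c (some j) = 0 := fun j => by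
    have := congrFun hc j.1
    simpa [hu j.1 j.2, Finset.sum_apply, Pi.single_apply, ← Subtype.ext_iff] using this
  rintro (_ | j)
  · simpa [hs, u0] using hc
  · exact hs j

/-- The standard vector of given norm. -/
theorem ob_fix (h2 : (2 : F) ≠ 0) {T : Finset (Fin n)} (hT : T.card + 4 ≤ n) {l : Fin n} (hl : l ∉ T) (q : F) :
    ∃ v : Fin n → F, v l = 0 ∧ ∀ u : Fin n → F, (∀ i ∈ T, u i = 0) → u ≠ 0 → Qn n F u = q →
      ∃ g ∈ Fx F T, g.1 u = v := by
  have hc : 2 < (insert l T)ᶜ.card := by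
    rw [Finset.card_compl, Finset.card_insert_of_notMem hl, Fintype.card_fin]; omega
  obtain ⟨a, b, c, ha, hb, hc, ab, ac, bc⟩ := Finset.two_lt_card_iff.1 hc
  simp only [Finset.mem_compl, Finset.mem_insert, not_or] at ha hb hc
  obtain ⟨x, y, s, t, hxy, hst, e⟩ : ∃ x y s t : F, x ^ 2 + y ^ 2 + 1 = q ∧ s ^ 2 + t ^ 2 ≠ 0 ∧ x * s + y * t = 0 := by
    by_cases hq : q = 1
    · exact ⟨0, 0, 1, 0, by simp [hq], by simp, by simp⟩
    · obtain ⟨x, y, e⟩ := ob_rep h2 one_ne_zero (q - 1)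
      refine ⟨x, y, y, -x, by linear_combination e, fun h => hq ?_, by ring⟩
      linear_combination h - e
  have hvT : ∀ i ∈ T, (x • ee a + y • ee b + ee c : Fin n → F) i = 0 := fun i hi => by
    have h1 : i ≠ a := fun e => ha.2 (e ▸ hi)
    have h2 : i ≠ b := fun e => hb.2 (e ▸ hi)
    have h3 : i ≠ c := fun e => hc.2 (e ▸ hi)
    simp [h1, h2, h3]
  have hzT : ∀ i ∈ T, (s • ee a + t • ee b : Fin n → F) i = 0 := fun i hi => by
    have h1 : i ≠ a := fun e => ha.2 (e ▸ hi)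
    have h2 : i ≠ b := fun e => hb.2 (e ▸ hi)
    simp [h1, h2]
  have hvl : (x • ee a + y • ee b + ee c : Fin n → F) l = 0 := by simp [ha.1, hb.1, hc.1, Ne.symm]
  have v0 : (x • ee a + y • ee b + ee c : Fin n → F) ≠ 0 := fun h => by
    have := congrFun h c
    simp [ac.symm, bc.symm] at this
  have hq : Qn n F (x • ee a + y • ee b + ee c) = q := by
    simp only [oexp, Qn_ee, polar_ee_ee ab, polar_ee_ee ac, polar_ee_ee bc]; linear_combination hxy
  refine ⟨_, hvl, fun u hu u0 hu' => ?_⟩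
  obtain ⟨g, hg, hgu⟩ := witt_quadratic_family (Qn_nd h2) _ _ (ob_li' hu u0) (ob_li' hvT v0)
    (by
      rintro (_ | i) (_ | j) hij
      · exact absurd rfl hij
      · simp only [Option.elim, polar_ee_right, hu j.1 j.2, hvT j.1 j.2]
      · simp only [Option.elim, polar_ee_left, hu i.1 i.2, hvT i.1 i.2]
      · rfl)
    (by
      rintro (_ | i)
      · simp only [Option.elim, hq, hu']
      · rfl)
  obtain ⟨g', hg', e'⟩ := ob_corr h2 _ _ ⟨g, hg⟩ hgu (z := s • ee a + t • ee b) (w := ee l)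
    (by simp only [oexp, Qn_ee, polar_ee_ee ab]; intro h; exact hst (by linear_combination h)) (Qn_ee _)
    (by rw [polar_ee_left]; simp [ha.1, hb.1, Ne.symm])
    (by
      rintro (_ | i)
      · simp only [Option.elim, oexp, Qn_ee, polar_ee_ee ab, polar_ee_ee ab.symm, polar_ee_ee ac.symm,
          polar_ee_ee bc.symm]
        linear_combination 2 * e
      · simp only [Option.elim, polar_ee_left, hzT i.1 i.2, mul_zero])
    (by
      rintro (_ | i)
      · simp only [Option.elim, polar_ee_right, hvl, mul_zero]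
      · exact polar_ee_ee fun e => hl (e ▸ i.2))
  exact ⟨g', ⟨hg', fun i hi => e' (some ⟨i, hi⟩)⟩, e' none⟩

/-- Transitivity of a stabiliser on vectors of given norm. -/
theorem exists_fix_map (h2 : (2 : F) ≠ 0) {T : Finset (Fin n)} (hT : T.card + 4 ≤ n) {u v : Fin n → F}
    (hu : ∀ i ∈ T, u i = 0) (hv : ∀ i ∈ T, v i = 0) (u0 : u ≠ 0) (v0 : v ≠ 0) (e : Qn n F u = Qn n F v) :
    ∃ g ∈ Fx F T, g.1 u = v := by
  obtain ⟨l, hl⟩ : ∃ l, l ∉ T := by
    by_contra h
    push Not at h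
    have := Finset.card_le_card (fun i _ => h i : Finset.univ ⊆ T)
    rw [Finset.card_univ, Fintype.card_fin] at this
    omega
  obtain ⟨w, -, hw⟩ := ob_fix h2 hT hl (Qn n F v)
  obtain ⟨g, hg, e1⟩ := hw u hu u0 e
  obtain ⟨g', hg', e2⟩ := hw v hv v0 rfl
  exact ⟨g'⁻¹ * g, mul_mem (inv_mem hg') hg, by rw [OG.mul_app, e1, OG.inv_app_eq_iff, e2]⟩

theorem coord_of_fix (h2 : (2 : F) ≠ 0) {g : OG (Qn n F)} {i : Fin n} (h : g.1 (ee i) = ee i) (u : Fin n → F) :
    g.1 u i = u i := by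
  have := OG.polar_app g (ee i) u
  rw [h, polar_ee_left, polar_ee_left] at this
  exact mul_left_cancel₀ h2 this

/-- A coordinate can be killed. -/
theorem exists_kill (h2 : (2 : F) ≠ 0) {T : Finset (Fin n)} (hT : T.card + 4 ≤ n) {l : Fin n} (hl : l ∉ T)
    (u : Fin n → F) : ∃ g ∈ Fx F T, g.1 u l = 0 ∧ ∀ i ∈ T, g.1 u i = u i := by
  let s : Fin n → F := ∑ i ∈ T, u i • ee i
  have hs : ∀ j, s j = if j ∈ T then u j else 0 := fun j => by
    simp [s, Finset.sum_apply, Pi.single_apply]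
  by_cases h0 : u - s = 0
  · refine ⟨1, one_mem _, ?_, fun _ _ => rfl⟩
    have := congrFun h0 l
    simpa [hs, hl] using this
  obtain ⟨v, hv, h⟩ := ob_fix h2 hT hl (Qn n F (u - s))
  obtain ⟨g, hg, e⟩ := h (u - s) (fun i hi => by simp [hs, hi]) h0 rfl
  refine ⟨g, hg, ?_, fun i hi => coord_of_fix h2 (hg.2 i hi) u⟩
  have gs : g.1 s = s := by
    simp only [s, map_sum, map_smul]
    exact Finset.sum_congr rfl fun i hi => by rw [hg.2 i hi]
  rw [map_sub, gs, sub_eq_iff_eq_add] at e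
  simp [e, hv, hs, hl]

theorem tt_ee_self (h2 : (2 : F) ≠ 0) (i : Fin n) : (tt (ee i : Fin n → F)).1 (ee i) = ee i := by
  ext j; rw [tt_ee_app h2]; split_ifs with h <;> simp [h]

theorem tt_ee_ne (h2 : (2 : F) ≠ 0) {i j : Fin n} (hij : j ≠ i) : (tt (ee i : Fin n → F)).1 (ee j) = -ee j := by
  ext k; rw [tt_ee_app h2]; split_ifs with h <;> simp [h, hij.symm]

theorem mem_H7 (h2 : (2 : F) ≠ 0) {g : OG (Qn 7 F)} (hg : g ∈ H7 F) : g ∈ Fx F {6} ∨ tt (ee 0) * g ∈ Fx F {6} := by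
  obtain ⟨h1, h⟩ := mem_Hs.1 hg
  rcases (comm_tt_iff h2 (Qn_ee _)).1 (h 6 (by simp)) with e | e
  · exact Or.inl ⟨h1, by simpa using e⟩
  · refine Or.inr ⟨mul_mem (tt_mem h2 (Qn_ee _)) h1, ?_⟩
    simp only [Finset.mem_singleton, forall_eq]
    rw [OG.mul_app, e, map_neg, tt_ee_ne h2 (by decide), neg_neg]

theorem mem_H56 (h2 : (2 : F) ≠ 0) {g : OG (Qn 7 F)} (hg : g ∈ Hs F {5, 6}) : g ∈ Fx F {5, 6} ∨
    tt (ee 5) * g ∈ Fx F {5, 6} ∨ tt (ee 6) * g ∈ Fx F {5, 6} ∨ tt (ee 5) * tt (ee 6) * g ∈ Fx F {5, 6} := by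
  obtain ⟨h1, h⟩ := mem_Hs.1 hg
  have t5 : tt (ee 5) ∈ Om 7 F := tt_mem h2 (Qn_ee _)
  have t6 : tt (ee 6) ∈ Om 7 F := tt_mem h2 (Qn_ee _)
  have a := tt_ee_self (F := F) h2 (5 : Fin 7)
  have b := tt_ee_self (F := F) h2 (6 : Fin 7)
  have c := tt_ee_ne (F := F) h2 (show (5 : Fin 7) ≠ 6 by decide)
  have d := tt_ee_ne (F := F) h2 (show (6 : Fin 7) ≠ 5 by decide)
  simp only [mem_Fx, Finset.mem_insert, Finset.mem_singleton, forall_eq_or_imp, forall_eq, OG.mul_app]
  rcases (comm_tt_iff h2 (Qn_ee _)).1 (h 5 (by simp)) with e | e <;>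
    rcases (comm_tt_iff h2 (Qn_ee _)).1 (h 6 (by simp)) with e' | e'
  · exact Or.inl ⟨h1, e, e'⟩
  · exact Or.inr (Or.inl ⟨mul_mem t5 h1, by rw [e, a], by rw [e', map_neg, d, neg_neg]⟩)
  · exact Or.inr (Or.inr (Or.inl ⟨mul_mem t6 h1, by rw [e, map_neg, c, neg_neg], by rw [e', b]⟩))
  · exact Or.inr (Or.inr (Or.inr ⟨mul_mem (mul_mem t5 t6) h1, by rw [e, map_neg, c, neg_neg, a],
      by rw [e', map_neg, b, map_neg, d, neg_neg]⟩))

theorem comm_Fx (h2 : (2 : F) ≠ 0) {T : Finset (Fin n)} {i : Fin n} (hi : i ∈ T) {g : OG (Qn n F)} (hg : g ∈ Fx F T) :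
    Commute g (tt (ee i)) :=
  (comm_tt_iff h2 (Qn_ee _)).2 (Or.inl (hg.2 i hi))

theorem ob_diag (h2 : (2 : F) ≠ 0) {M : Subgroup (OG (Qn 7 F))} (D : Finset (Fin 7)) :
    ∀ {g : OG (Qn 7 F)} {c : F}, (∀ i ∈ D, tt (ee i) ∈ M) → g ∈ Om 7 F → (c = 1 ∨ c = -1) →
      (∀ i, g.1 (ee i) = ee i ∨ g.1 (ee i) = -ee i) → (∀ i ∉ D, g.1 (ee i) = c • ee i) → g ∈ M := by
  induction D using Finset.induction_on with
  | empty =>
    rintro g c - hg (rfl | rfl) - h
    · have e : g = 1 := og_ext fun i => by rw [h i (by simp), one_smul, OG.one_app]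
      rw [e]; exact one_mem _
    · have e : g = OG.negOne (Qn 7 F) := og_ext fun i => by rw [h i (by simp), neg_one_smul, OG.negOne_app]
      rw [e] at hg
      exact absurd hg (negOne_notMem_commutator_of_odd (Qn_nd h2) h2 (by simp; decide))
  | insert j D hj ih =>
    intro g c hM hg hc h1 h
    have hM' : ∀ i ∈ D, tt (ee i) ∈ M := fun i hi => hM i (Finset.mem_insert_of_mem hi)
    by_cases e : g.1 (ee j) = c • ee j
    · refine ih hM' hg hc h1 fun i hi => ?_
      by_cases hij : i = j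
      · rw [hij, e]
      · exact h i (by simp [hij, hi])
    · have e' : g.1 (ee j) = -c • ee j := by
        rcases hc with rfl | rfl <;> rcases h1 j with e' | e' <;> simp_all
      have key : tt (ee j) * g ∈ M := by
        refine ih (c := -c) hM' (mul_mem (tt_mem h2 (Qn_ee _)) hg) (by rcases hc with rfl | rfl <;> simp)
          (fun i => ?_) fun i hi => ?_
        · by_cases hij : i = j
          · subst hij
            rcases h1 i with e1 | e1 <;> simp [e1, tt_ee_self h2]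
          · rcases h1 i with e1 | e1 <;> simp [e1, tt_ee_ne h2 hij]
        · by_cases hij : i = j
          · rw [hij, OG.mul_app, e', map_smul, tt_ee_self h2]
          · rw [OG.mul_app, h i (by simp [hij, hi]), map_smul, tt_ee_ne h2 hij]; simp
      exact (mul_mem_cancel_left (hM j (Finset.mem_insert_self _ _))).1 key

/-- The centraliser of the stabiliser of the vectors in `T`. -/
theorem cen_Hs (h2 : (2 : F) ≠ 0) {T : Finset (Fin 7)} (hT : T.card ≤ 3) {g : OG (Qn 7 F)} (hg : g ∈ Om 7 F)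
    (h : ∀ x ∈ Hs F T, Commute g x) : g ∈ closure {x | ∃ i ∈ T, x = tt (ee i)} := by
  have h1 : ∀ i, g.1 (ee i) = ee i ∨ g.1 (ee i) = -ee i := fun i =>
    (comm_tt_iff h2 (Qn_ee _)).1 (h _ (tt_ee_mem_Hs h2 i T))
  have hc : 2 < Tᶜ.card := by rw [Finset.card_compl, Fintype.card_fin]; omega
  obtain ⟨j, a, b, hj, ha, hb, ja, jb, ab⟩ := Finset.two_lt_card_iff.1 hc
  rw [Finset.mem_compl] at hj ha hb
  obtain ⟨c, hc, e⟩ : ∃ c : F, (c = 1 ∨ c = -1) ∧ g.1 (ee j) = c • ee j := by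
    rcases h1 j with e | e
    · exact ⟨1, Or.inl rfl, by simpa using e⟩
    · exact ⟨-1, Or.inr rfl, by simpa using e⟩
  refine ob_diag h2 T (fun i hi => subset_closure ⟨i, hi, rfl⟩) hg hc h1 fun k hk => ?_
  by_cases jk : j = k
  · rw [← jk, e]
  obtain ⟨l, hl, jl, kl⟩ : ∃ l, l ∉ T ∧ j ≠ l ∧ k ≠ l := by
    by_cases ka : k = a
    · exact ⟨b, hb, jb, ka ▸ ab⟩
    · exact ⟨a, ha, ja, ka⟩
  have hσ : pm F (Equiv.swap j k * Equiv.swap k l) ∈ Hs F T := by
    refine mem_Hs.2 ⟨pm_mem h2 (by simp [Equiv.Perm.sign_swap jk, Equiv.Perm.sign_swap kl]), fun i hi => ?_⟩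
    have h1 : i ≠ j := fun e => hj (e ▸ hi)
    have h3 : i ≠ k := fun e => hk (e ▸ hi)
    have h4 : i ≠ l := fun e => hl (e ▸ hi)
    refine (comm_tt_iff h2 (Qn_ee _)).2 (Or.inl ?_)
    rw [pm_ee, Equiv.Perm.mul_apply, Equiv.swap_apply_of_ne_of_ne h3 h4, Equiv.swap_apply_of_ne_of_ne h1 h3]
  have := congrArg (fun x : OG (Qn 7 F) => x.1 (ee j)) (h _ hσ).eq
  simp only [OG.mul_app, e, map_smul, pm_ee, Equiv.Perm.mul_apply, Equiv.swap_apply_of_ne_of_ne jk jl,
    Equiv.swap_apply_left] at this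
  exact this

/-! ### The embedding `O_n ≤ O_{n+1}` -/

@[simp] theorem ex0_last (v : Fin n → F) : ex0 v (Fin.last n) = 0 := by simp [ex0]

@[simp] theorem ex0_castSucc (v : Fin n → F) (i : Fin n) : ex0 v i.castSucc = v i := by simp [ex0]

theorem ex0_inj {v w : Fin n → F} : ex0 v = ex0 w ↔ v = w :=
  ⟨fun h => funext fun i => by simpa using congrFun h i.castSucc, fun h => h ▸ rfl⟩

/-- Extension by zero as a linear map. -/
def ex0L : (Fin n → F) →ₗ[F] (Fin (n + 1) → F) where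
  toFun := ex0
  map_add' v w := by ext i; refine Fin.lastCases ?_ (fun i => ?_) i <;> simp
  map_smul' c v := by ext i; refine Fin.lastCases ?_ (fun i => ?_) i <;> simp

theorem ex0_add (v w : Fin n → F) : ex0 (v + w) = ex0 v + ex0 w := ex0L.map_add v w

theorem ex0_sub (v w : Fin n → F) : ex0 (v - w) = ex0 v - ex0 w := ex0L.map_sub v w

theorem ex0_neg (v : Fin n → F) : ex0 (-v) = -ex0 v := ex0L.map_neg v

theorem ex0_smul (c : F) (v : Fin n → F) : ex0 (c • v) = c • ex0 v := ex0L.map_smul c v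

theorem ex0_ee (i : Fin n) : ex0 (ee i : Fin n → F) = ee i.castSucc := by
  ext j; refine Fin.lastCases ?_ (fun j => ?_) j
  · simp [(Fin.castSucc_lt_last i).ne']
  · simp [Pi.single_apply]

theorem Qn_succ (v : Fin (n + 1) → F) : Qn (n + 1) F v = Qn n F (Fin.init v) + v (Fin.last n) ^ 2 := by
  rw [Qn_apply, Qn_apply, Fin.sum_univ_castSucc]; rfl

@[simp] theorem init_ex0 (v : Fin n → F) : Fin.init (ex0 v) = v := by simp [ex0]

theorem Qn_ex0 (v : Fin n → F) : Qn (n + 1) F (ex0 v) = Qn n F v := by rw [Qn_succ]; simp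

theorem polar_ex0 (v w : Fin n → F) : polar (Qn (n + 1) F) (ex0 v) (ex0 w) = polar (Qn n F) v w := by
  simp only [polar, ← ex0_add, Qn_ex0]

theorem ex0_init {v : Fin (n + 1) → F} (h : v (Fin.last n) = 0) : ex0 (Fin.init v) = v := by
  ext j; refine Fin.lastCases ?_ (fun j => ?_) j
  · simp [h]
  · simp [Fin.init]

theorem sv_ex0 (σ : F ≃+* F) (v : Fin n → F) : sv σ (ex0 v) = ex0 (sv σ v) := by
  ext j; refine Fin.lastCases ?_ (fun j => ?_) j <;> simp [sv]

theorem og_ext0 {g g' : OG (Qn (n + 1) F)} (h : ∀ v, g.1 (ex0 v) = g'.1 (ex0 v))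
    (hl : g.1 (ee (Fin.last n)) = g'.1 (ee (Fin.last n))) : g = g' :=
  og_ext fun i => by
    refine Fin.lastCases hl (fun i => ?_) i
    rw [← ex0_ee, h]

/-- The extension of a linear map fixing the last coordinate. -/
def embL (g : (Fin n → F) →ₗ[F] (Fin n → F)) : (Fin (n + 1) → F) →ₗ[F] (Fin (n + 1) → F) where
  toFun v := Fin.snoc (g (Fin.init v)) (v (Fin.last n))
  map_add' v w := by
    rw [show Fin.init (v + w) = Fin.init v + Fin.init w from rfl, map_add]
    ext i; refine Fin.lastCases ?_ (fun i => ?_) i <;> simp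
  map_smul' c v := by
    rw [show Fin.init (c • v) = c • Fin.init v from rfl, map_smul]
    ext i; refine Fin.lastCases ?_ (fun i => ?_) i <;> simp

theorem embL_apply (g : (Fin n → F) →ₗ[F] (Fin n → F)) (v : Fin (n + 1) → F) :
    embL g v = Fin.snoc (g (Fin.init v)) (v (Fin.last n)) := rfl

theorem exists_emb : ∃ e : OG (Qn n F) →* OG (Qn (n + 1) F), Emb e := by
  refine ⟨MonoidHom.mk' (fun g => OG.ofLinear (embL g.1) (embL (g⁻¹).1) (fun x => by simp [embL_apply])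
    (fun x => by simp [embL_apply]) fun x => ?_) fun g h => OG.ext fun x => by simp [embL_apply], ?_, ?_⟩
  · rw [Qn_succ, Qn_succ, embL_apply, Fin.init_snoc, Fin.snoc_last]
    exact congrArg (· + _) (OG.map_app g _)
  · intro g v
    simp [embL_apply, ex0]
  · intro g
    have : Fin.init (ee (Fin.last n) : Fin (n + 1) → F) = 0 := by
      ext i; simp [Fin.init, (Fin.castSucc_lt_last i).ne]
    simp only [MonoidHom.mk'_apply, OG.ofLinear_app, embL_apply, this, map_zero]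
    ext j; refine Fin.lastCases ?_ (fun j => ?_) j
    · simp
    · simp [(Fin.castSucc_lt_last j).ne]

namespace Emb

variable {e : OG (Qn n F) →* OG (Qn (n + 1) F)} (h : Emb e)
include h

theorem inj : Function.Injective e := fun g g' hg => OG.ext fun v => by
  rw [← ex0_inj, ← h.app, ← h.app, hg]

theorem mem_range {g : OG (Qn (n + 1) F)} (h2 : (2 : F) ≠ 0) :
    g ∈ e.range ↔ g.1 (ee (Fin.last n)) = ee (Fin.last n) := by
  refine ⟨by rintro ⟨x, rfl⟩; exact h.last x, fun hg => ?_⟩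
  have hg' : (g⁻¹).1 (ee (Fin.last n)) = ee (Fin.last n) := (OG.inv_app_eq_iff g).2 hg.symm
  have k : ∀ v, ex0 (Fin.init (g.1 (ex0 v))) = g.1 (ex0 v) := fun v =>
    ex0_init (by rw [coord_of_fix h2 hg, ex0_last])
  have k' : ∀ v, ex0 (Fin.init ((g⁻¹).1 (ex0 v))) = (g⁻¹).1 (ex0 v) := fun v =>
    ex0_init (by rw [coord_of_fix h2 hg', ex0_last])
  let f : OG (Qn (n + 1) F) → (Fin n → F) →ₗ[F] (Fin n → F) := fun x =>
    LinearMap.funLeft F F Fin.castSucc ∘ₗ x.1.toLinearMap ∘ₗ ex0L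
  have hf : ∀ x v, f x v = Fin.init (x.1 (ex0 v)) := fun _ _ => rfl
  refine ⟨OG.ofLinear (f g) (f g⁻¹) (fun v => ?_) (fun v => ?_) fun v => ?_, og_ext0 (fun v => ?_) ?_⟩
  · rw [hf, hf, k', OG.app_inv_app, init_ex0]
  · rw [hf, hf, k, OG.inv_app_app, init_ex0]
  · rw [hf, ← Qn_ex0, k, OG.map_app, Qn_ex0]
  · rw [h.app, OG.ofLinear_app, hf, k]
  · rw [h.last, hg]

theorem orefl (u : Fin n → F) : e (orefl (Qn n F) u) = orefl (Qn (n + 1) F) (ex0 u) := by
  refine og_ext0 (fun v => ?_) ?_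
  · rw [h.app, orefl_app, orefl_app, ex0_sub, ex0_smul, Qn_ex0, polar_ex0]
  · rw [h.last, orefl_app_of_polar (by rw [polar_ee_left, ex0_last, mul_zero])]

theorem rr (i : Fin n) : e (rr F i) = rr F i.castSucc := by
  rw [O7.rr, h.orefl, ex0_ee]

theorem ee_iff {g : OG (Qn n F)} (i : Fin n) : (e g).1 (ee i.castSucc) = ee i.castSucc ↔ g.1 (ee i) = ee i := by
  rw [← ex0_ee, h.app, ex0_inj]

theorem mem_Om (h2 : (2 : F) ≠ 0) {g : OG (Qn n F)} : e g ∈ Om (n + 1) F ↔ g ∈ Om n F := by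
  have key : dickson (Qn_nd h2) (e g) = dickson (Qn_nd h2) g ∧ ospin (Qn_nd h2) (e g) = ospin (Qn_nd h2) g := by
    induction g using o_induction_orefl (Qn_nd h2) (not_oExc_of_two_ne_zero h2) with
    | h1 => simp
    | hr v hv g ih =>
      have hv' : Qn (n + 1) F (ex0 v) ≠ 0 := by rwa [Qn_ex0]
      simp only [map_mul, h.orefl, ih.1, ih.2, dickson_orefl _ hv, dickson_orefl _ hv', ospin_orefl _ hv,
        ospin_orefl _ hv', Qn_ex0, and_self]
  rw [mem_Om_iff h2, mem_Om_iff h2, key.1, key.2]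

theorem fr (σ : F ≃+* F) (g : OG (Qn n F)) : e (fr σ g) = fr σ (e g) := by
  refine og_ext0 (fun v => ?_) ?_
  · rw [h.app, fr_app, fr_app, sv_ex0, h.app, sv_ex0]
  · rw [h.last, fr_app, sv_ee, h.last, sv_ee]

theorem neg (h2 : (2 : F) ≠ 0) : e (OG.negOne _) = tt (ee (Fin.last n)) := by
  refine og_ext fun i => Fin.lastCases ?_ (fun i => ?_) i
  · rw [h.last, tt_ee_self h2]
  · rw [tt_ee_ne h2 (Fin.castSucc_lt_last i).ne, ← ex0_ee, h.app, OG.negOne_app, ex0_neg]

end Emb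

/-- `H7` is generated by the conjugates of the labels. -/
theorem H7_le (h2 : (2 : F) ≠ 0) {M : Subgroup (OG (Qn 7 F))} (h : ∀ u, u 6 = 0 → Qn 7 F u = 1 → tt u ∈ M) :
    H7 F ≤ M := by
  obtain ⟨e, he⟩ := exists_emb (F := F) (n := 6)
  let z := OG.negOne (Qn 7 F)
  have zz : z * z = 1 := OG.negOne_mul_self
  have zc : ∀ g, g * z = z * g := OG.negOne_comm
  let M' : Subgroup (OG (Qn 6 F)) :=
    { carrier := {g | e g ∈ M ⊓ Om 7 F ∨ z * e g ∈ M ⊓ Om 7 F}
      one_mem' := Or.inl (by rw [map_one]; exact one_mem _)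
      mul_mem' := by
        rintro a b (ha | ha) (hb | hb)
        · exact Or.inl (by rw [map_mul]; exact mul_mem ha hb)
        · refine Or.inr ?_
          rw [map_mul, ← mul_assoc, ← zc, mul_assoc]; exact mul_mem ha hb
        · refine Or.inr ?_
          rw [map_mul, ← mul_assoc]; exact mul_mem ha hb
        · refine Or.inl ?_
          have := mul_mem ha hb
          rwa [← mul_assoc, mul_assoc z, zc, ← mul_assoc, zz, one_mul, ← map_mul] at this
      inv_mem' := by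
        rintro a (ha | ha)
        · exact Or.inl (by rw [map_inv]; exact inv_mem ha)
        · refine Or.inr ?_
          have := inv_mem ha
          rwa [mul_inv_rev, inv_eq_of_mul_eq_one_left zz, zc, ← map_inv] at this }
  have hle : Om 6 F ≤ M' := by
    refine commutator_le_of_class (Qn_nd h2) h2 (Or.inr (Or.inl (by simp))) one_ne_zero fun v t ht hv => Or.inr ?_
    have hq : Qn 7 F (ex0 (t⁻¹ • v)) = 1 := by
      rw [Qn_ex0, o_qsmul, hv]; field_simp
    rw [← orefl_smul (inv_ne_zero ht), he.orefl]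
    exact ⟨h _ (ex0_last _) hq, tt_mem h2 hq⟩
  have hF : Fx F {6} ≤ M := fun g hg => by
    obtain ⟨x, rfl⟩ := (he.mem_range h2).2 (hg.2 6 (by simp))
    rcases hle ((he.mem_Om h2).1 hg.1) with hx | hx
    · exact hx.1
    · exact absurd ((mul_mem_cancel_right hg.1).1 hx.2)
        (negOne_notMem_commutator_of_odd (Qn_nd h2) h2 (by simp; decide))
  intro g hg
  rcases mem_H7 h2 hg with hg | hg
  · exact hF hg
  · exact (mul_mem_cancel_left (h _ (by simp) (Qn_ee _))).1 (hF hg)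

end Cfsg.Agent.O7
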