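import Mathlib
import Cfsg.Agent.O7.OB
import Cfsg.Agent.O7.Aut

/-! `Ω₅` inside `Ω₇`. -/

set_option autoImplicit false
set_option linter.unusedSectionVars false

namespace Cfsg.Agent.O7

open Subgroup Cfsg.Agent.Cl QuadraticMap Cfsg.Agent.GW
open scoped commutatorElement

universe u

variable {F : Type} [Field F] [Fintype F] {n : ℕ}

theorem exists_iso5 (h2 : (2 : F) ≠ 0) : ∃ e : OG (Qn 5 F) →* OG (Qn 7 F), Function.Injective e ∧
    (Om 5 F).map e = Fx F ({5, 6} : Finset (Fin 7)) ∧ (∀ σ g, e (fr σ g) = fr σ (e g)) ∧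
      e (sw F 0 1) = sw F 0 1 := by
  obtain ⟨e5, h5⟩ := exists_emb (F := F) (n := 5)
  obtain ⟨e6, h6⟩ := exists_emb (F := F) (n := 6)
  refine ⟨e6.comp e5, h6.inj.comp h5.inj, le_antisymm ?_ fun g hg => ?_, fun σ g => ?_, ?_⟩
  · rintro _ ⟨x, hx, rfl⟩
    refine ⟨(h6.mem_Om h2).2 ((h5.mem_Om h2).2 hx), ?_⟩
    simp only [Finset.mem_insert, Finset.mem_singleton, forall_eq_or_imp, forall_eq]
    exact ⟨(h6.ee_iff (Fin.last 5)).2 (h5.last x), h6.last _⟩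
  · obtain ⟨y, rfl⟩ := (h6.mem_range h2).2 (hg.2 6 (by simp))
    obtain ⟨x, rfl⟩ := (h5.mem_range h2).2 ((h6.ee_iff (Fin.last 5)).1 (hg.2 5 (by simp)))
    exact ⟨x, (h5.mem_Om h2).1 ((h6.mem_Om h2).1 hg.1), rfl⟩
  · rw [MonoidHom.comp_apply, h5.fr, h6.fr]; rfl
  · rw [MonoidHom.comp_apply, sw, h5.orefl, h6.orefl, ex0_sub, ex0_sub, ex0_ee, ex0_ee, ex0_ee, ex0_ee]; rfl

theorem perf5 (h2 : (2 : F) ≠ 0) : 
    ⁅Fx F ({5, 6} : Finset (Fin 7)), Fx F ({5, 6} : Finset (Fin 7))⁆ = Fx F ({5, 6} : Finset (Fin 7)) := by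
  obtain ⟨e, -, he, -⟩ := exists_iso5 h2
  rw [← he, ← map_commutator, isPerfect_iff.1 (isPerfect_commutator_OG (Qn_nd h2) (by simp))]

theorem sim_pow (h2 : (2 : F) ≠ 0) (g : (Fin n → F) ≃ₗ[F] (Fin n → F)) {c : F}
    (hg : ∀ v, Qn n F (g v) = c * Qn n F v) : IsSquare (c ^ n) := by
  have hp : ∀ v w, polar (Qn n F) (g v) (g w) = c * polar (Qn n F) v w := fun v w => by
    simp only [polar, ← map_add, hg]; ring
  have : (LinearMap.toMatrix' g.toLinearMap).transpose * LinearMap.toMatrix' g.toLinearMap = c • 1 := by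
    ext i j
    have := hp (ee i) (ee j)
    rw [Qn_polar, polar_ee_left, mul_left_comm] at this
    have := mul_left_cancel₀ h2 this
    simp only [Matrix.mul_apply, Matrix.transpose_apply, LinearMap.toMatrix'_apply, Matrix.smul_apply,
      Matrix.one_apply, smul_eq_mul]
    simpa [Pi.single_apply] using this
  have hd := congrArg Matrix.det this
  rw [Matrix.det_mul, Matrix.det_transpose, Matrix.det_smul, Matrix.det_one, mul_one, Fintype.card_fin] at hd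
  exact ⟨_, hd.symm⟩

theorem aut5' (h : Q35 F) (φ : MulAut (Om 5 F)) : ∃ (σ : F ≃+* F) (g : OG (Qn 5 F)),
    (g ∈ Om 5 F ∨ sw F 0 1 * g ∈ Om 5 F) ∧ ∀ x, (φ x).1 = g * fr σ x.1 * g⁻¹ := by
  have h2 := h.two_ne
  obtain ⟨σ, g, c, hc, hg, e⟩ := aut56 h (Or.inl rfl) φ
  obtain ⟨d, hd⟩ := sim_pow h2 g hg
  obtain ⟨s, hs⟩ : ∃ s : F, s ^ 2 * c = 1 := by
    have d0 : d ≠ 0 := fun h0 => pow_ne_zero 5 hc (by rw [hd, h0, mul_zero])
    refine ⟨c ^ 2 / d, ?_⟩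
    field_simp
    linear_combination hd
  have s0 : s ≠ 0 := fun h0 => by simp [h0] at hs
  let g0 : OG (Qn 5 F) := ⟨g.trans (LinearEquiv.smulOfNeZero F _ s s0), fun v => by
    show Qn 5 F (s • g v) = _
    rw [o_qsmul, hg, ← mul_assoc, hs, one_mul]⟩
  have e0 : ∀ x, (φ x).1 = g0 * fr σ x.1 * g0⁻¹ := fun x => by
    rw [eq_mul_inv_iff_mul_eq]
    refine OG.ext fun v => ?_
    show (φ x).1.1 (s • g v) = s • g _
    rw [map_smul, e]; rfl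
  have hn : dickson (Qn_nd h2) (OG.negOne (Qn 5 F)) = -1 ∧ ospin (Qn_nd h2) (OG.negOne (Qn 5 F)) = 1 := by
    rw [dickson_negOne _ h2, quad_ospin_negOne h2 _ (Pi.basisFun F _), o_disc_wss,
      sqSign_eq_one_iff.2 ⟨2 ^ 5, by simp⟩]
    exact ⟨by simp; decide, rfl⟩
  obtain ⟨g1, h1, e1⟩ : ∃ g1 : OG (Qn 5 F), dickson (Qn_nd h2) g1 = ospin (Qn_nd h2) g1 ∧
      ∀ x, (φ x).1 = g1 * fr σ x.1 * g1⁻¹ := by
    by_cases hh : dickson (Qn_nd h2) g0 = ospin (Qn_nd h2) g0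
    · exact ⟨g0, hh, e0⟩
    · refine ⟨g0 * OG.negOne _, ?_, fun x => ?_⟩
      · rw [map_mul, map_mul, hn.1, hn.2]
        rcases Int.units_eq_one_or (dickson (Qn_nd h2) g0) with a | a <;>
          rcases Int.units_eq_one_or (ospin (Qn_nd h2) g0) with b | b <;> simp_all
      · rw [e0, mul_assoc g0 (OG.negOne _), ← OG.negOne_comm]; group
  refine ⟨σ, g1, ?_, e1⟩
  have hq : Qn 5 F (ee 0 - ee 1) = 2 := by
    simp only [oexp, Qn_ee, polar_ee_ee (show (0 : Fin 5) ≠ 1 by decide)]; ring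
  have hq0 : Qn 5 F (ee 0 - ee 1) ≠ 0 := by rw [hq]; exact h2
  rw [mem_Om_iff h2, mem_Om_iff h2, map_mul, map_mul, dickson_orefl _ hq0, ospin_orefl _ hq0, hq,
    sqSign_eq_neg_one_iff.2 h.two_nsq, h1]
  rcases Int.units_eq_one_or (ospin (Qn_nd h2) g1) with b | b <;> simp [b]

theorem aut5 (h : Q35 F) (φ : MulAut (Fx F ({5, 6} : Finset (Fin 7)))) : ∃ (σ : F ≃+* F) (g : OG (Qn 7 F)),
    (g ∈ Fx F ({5, 6} : Finset (Fin 7)) ∨ sw F 0 1 * g ∈ Fx F ({5, 6} : Finset (Fin 7))) ∧ ∀ x, (φ x).1 = g * fr σ x.1 * g⁻¹ := by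
  obtain ⟨e, hi, he, hf, hs⟩ := exists_iso5 h.two_ne
  let ι : Om 5 F ≃* Fx F ({5, 6} : Finset (Fin 7)) := (equivMapOfInjective _ e hi).trans (MulEquiv.subgroupCongr he)
  have hι : ∀ x, (ι x).1 = e x.1 := fun _ => rfl
  obtain ⟨σ, g, hg, k⟩ := aut5' h ((ι.trans φ).trans ι.symm)
  refine ⟨σ, e g, ?_, fun x => ?_⟩
  · rw [← he, ← hs, ← map_mul]
    exact hg.imp (mem_map_of_mem e) (mem_map_of_mem e)
  · obtain ⟨y, rfl⟩ := ι.surjective x
    rw [hι, ← hf, ← map_inv, ← map_mul, ← map_mul, ← k, ← hι]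
    simp

end Cfsg.Agent.O7
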