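import Mathlib
import Cfsg.Agent.O7.OA

/-! Simultaneous diagonalisation of commuting involutions; sign changes. -/

set_option autoImplicit false
set_option linter.unusedSectionVars false

namespace Cfsg.Agent.O7

open Subgroup Cfsg.Agent.Cl QuadraticMap

variable {F : Type} [Field F] [Fintype F] {n : ℕ}

namespace X5aA

section Diag

variable {V : Type*} [AddCommGroup V] [Module F V] {Q : QuadraticForm F V} {ι : Type*} {x : ι → OG Q}

theorem le_span (h2 : (2 : F) ≠ 0) (hc : ∀ i j, Commute (x i) (x j)) (hs : ∀ i, x i * x i = 1)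
    {W : Submodule F V} (hW : ∀ i, ∀ w ∈ W, (x i).1 w ∈ W) (S : Finset ι) :
    W ≤ Submodule.span F {v | v ∈ W ∧ ∀ i ∈ S, (x i).1 v = v ∨ (x i).1 v = -v} := by
  classical
  induction S using Finset.induction_on with
  | empty => exact fun w hw => Submodule.subset_span ⟨hw, by simp⟩
  | insert s S _ ih =>
    refine ih.trans (Submodule.span_le.2 fun v ⟨hv, e⟩ => ?_)
    have k1 : (x s).1 ((x s).1 v) = v := by rw [← OG.mul_app, hs, OG.one_app]
    have k2 : ∀ t, (x t).1 ((x s).1 v) = (x s).1 ((x t).1 v) := fun t => by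
      rw [← OG.mul_app, (hc t s).eq, OG.mul_app]
    have e0 : v = (2 : F)⁻¹ • (v + (x s).1 v) + (2 : F)⁻¹ • (v - (x s).1 v) := by
      rw [← smul_add, add_add_sub_cancel, ← two_smul F v, smul_smul, inv_mul_cancel₀ h2, one_smul]
    rw [SetLike.mem_coe, e0]
    refine add_mem (Submodule.smul_mem _ _ (Submodule.subset_span ⟨add_mem hv (hW _ _ hv), fun t ht => ?_⟩))
      (Submodule.smul_mem _ _ (Submodule.subset_span ⟨sub_mem hv (hW _ _ hv), fun t ht => ?_⟩))
    · rcases Finset.mem_insert.1 ht with rfl | ht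
      · exact .inl (by rw [map_add, k1, add_comm])
      · exact (e t ht).imp (fun h => by rw [map_add, k2, h]) fun h => by rw [map_add, k2, h, map_neg, neg_add]
    · rcases Finset.mem_insert.1 ht with rfl | ht
      · exact .inr (by rw [map_sub, k1, neg_sub])
      · exact (e t ht).imp (fun h => by rw [map_sub, k2, h]) fun h => by rw [map_sub, k2, h, map_neg, neg_sub']

theorem exists_eig [Fintype ι] (h2 : (2 : F) ≠ 0) (hc : ∀ i j, Commute (x i) (x j)) (hs : ∀ i, x i * x i = 1)
    {W : Submodule F V} (hW : ∀ i, ∀ w ∈ W, (x i).1 w ∈ W) (hn : ¬ ∀ u ∈ W, ∀ v ∈ W, polar Q u v = 0) :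
    ∃ v ∈ W, Q v ≠ 0 ∧ ∀ i, (x i).1 v = v ∨ (x i).1 v = -v := by
  by_contra H
  push Not at H
  refine hn fun u hu v hv => ?_
  have H' : ∀ v ∈ W, (∀ i, (x i).1 v = v ∨ (x i).1 v = -v) → Q v = 0 := fun v hv e => by
    by_contra c
    obtain ⟨i, a, b⟩ := H v hv c
    exact (e i).elim a b
  have key : ∀ u ∈ {v | v ∈ W ∧ ∀ i ∈ Finset.univ, (x i).1 v = v ∨ (x i).1 v = -v},
      ∀ v ∈ {v | v ∈ W ∧ ∀ i ∈ Finset.univ, (x i).1 v = v ∨ (x i).1 v = -v}, polar Q u v = 0 := by
    rintro u ⟨hu, eu⟩ v ⟨hv, ev⟩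
    by_cases c : ∀ i, (x i).1 (u + v) = u + v ∨ (x i).1 (u + v) = -(u + v)
    · rw [polar, H' _ (add_mem hu hv) c, H' _ hu fun i => eu i (Finset.mem_univ _),
        H' _ hv fun i => ev i (Finset.mem_univ _), sub_zero, sub_zero]
    · push Not at c
      obtain ⟨i, a, b⟩ := c
      have e := OG.polar_app (x i) u v
      have k : polar Q u v = -polar Q u v → polar Q u v = 0 := fun h =>
        (mul_eq_zero.1 (by linear_combination h : 2 * polar Q u v = 0)).resolve_left h2
      rcases eu i (Finset.mem_univ _) with p | p <;> rcases ev i (Finset.mem_univ _) with q | q <;> rw [p, q] at e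
      · exact absurd (by rw [map_add, p, q]) a
      · exact k (by rw [← polar_neg_right, e])
      · exact k (by rw [← polar_neg_left, e])
      · exact absurd (by rw [map_add, p, q, neg_add]) b
  have a1 := le_span h2 hc hs hW Finset.univ hu
  have a2 := le_span h2 hc hs hW Finset.univ hv
  clear hu hv
  induction a1, a2 using Submodule.span_induction₂ with
  | mem_mem u v hu hv => exact key u hu v hv
  | zero_left => simp
  | zero_right => simp
  | add_left _ _ _ _ _ _ a b => rw [polar_add_left, a, b, add_zero]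
  | add_right _ _ _ _ _ _ a b => rw [polar_add_right, a, b, add_zero]
  | smul_left _ _ _ _ _ a => rw [polar_smul_left, a, smul_zero]
  | smul_right _ _ _ _ _ a => rw [polar_smul_right, a, smul_zero]

theorem exists_fam [Fintype ι] [FiniteDimensional F V] (h2 : (2 : F) ≠ 0) (hQ : (polarBilin Q).Nondegenerate)
    (hc : ∀ i j, Commute (x i) (x j)) (hs : ∀ i, x i * x i = 1) (k : ℕ) (hk : k ≤ Module.finrank F V) :
    ∃ b : Fin k → V, (∀ i j, i ≠ j → polar Q (b i) (b j) = 0) ∧ (∀ i, Q (b i) ≠ 0) ∧
      ∀ i j, (x i).1 (b j) = b j ∨ (x i).1 (b j) = -b j := by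
  induction k with
  | zero => exact ⟨Fin.elim0, fun i => i.elim0, fun i => i.elim0, fun _ i => i.elim0⟩
  | succ k ih =>
    obtain ⟨b, h1, h3, h4⟩ := ih (by omega)
    let W : Submodule F V := ⨅ i, LinearMap.ker (polarBilin Q (b i))
    have mW : ∀ v, v ∈ W ↔ ∀ i, polar Q (b i) v = 0 := fun v => by simp [W]
    have pr : ∀ v, v - ∑ j, ((2 * Q (b j))⁻¹ * polar Q (b j) v) • b j ∈ W := fun v => (mW _).2 fun i => by
      rw [← polarBilin_apply_apply, map_sub, map_sum, Finset.sum_eq_single i]
      · rw [map_smul, polarBilin_apply_apply, polarBilin_apply_apply, o_polar_self, smul_eq_mul]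
        have := h3 i
        rw [mul_right_comm, inv_mul_cancel₀ (mul_ne_zero h2 this), one_mul, sub_self]
      · intro j _ hj
        rw [map_smul, polarBilin_apply_apply, h1 i j hj.symm, smul_zero]
      · simp
    obtain ⟨v, hv, q, e⟩ := exists_eig h2 hc hs (W := W) (fun i w hw => (mW _).2 fun j => by
      have := OG.polar_app (x i) (b j) w
      rw [(mW _).1 hw] at this
      rcases h4 i j with p | p <;> rw [p] at this
      · exact this
      · rwa [polar_neg_left, neg_eq_zero] at this) fun H => by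
      have z : ∀ w ∈ W, w = 0 := fun w hw => hQ.1 w fun v => by
        have := H w hw _ (pr v)
        rw [← polarBilin_apply_apply, map_sub, map_sum, Finset.sum_eq_zero, sub_zero] at this
        · exact this
        · intro j _
          rw [map_smul, polarBilin_apply_apply, polar_comm _ w, (mW _).1 hw, smul_zero]
      have t : Submodule.span F (Set.range b) = ⊤ := eq_top_iff.2 fun v _ => by
        rw [sub_eq_zero.1 (z _ (pr v))]
        exact Submodule.sum_mem _ fun j _ => Submodule.smul_mem _ _ (Submodule.subset_span ⟨j, rfl⟩)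
      have := finrank_range_le_card (R := F) b
      rw [Set.finrank, t, finrank_top, Fintype.card_fin] at this
      omega
    refine ⟨Fin.cons v b, fun i j hij => ?_, fun i => ?_, fun i j => ?_⟩
    · induction i using Fin.cases <;> induction j using Fin.cases
      · exact absurd rfl hij
      · exact (polar_comm _ _ _).trans ((mW _).1 hv _)
      · exact (mW _).1 hv _
      · exact h1 _ _ fun c => hij (congrArg _ c)
    · induction i using Fin.cases
      exacts [q, h3 _]
    · induction j using Fin.cases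
      exacts [e i, h4 i _]

theorem li_of_orth (h2 : (2 : F) ≠ 0) {k : ℕ} {b : Fin k → V} (h1 : ∀ i j, i ≠ j → polar Q (b i) (b j) = 0)
    (h3 : ∀ i, Q (b i) ≠ 0) : LinearIndependent F b :=
  LinearMap.linearIndependent_of_isOrthoᵢ (B := polarBilin Q) (fun i j hij => h1 i j hij) fun i c =>
    mul_ne_zero h2 (h3 i) ((o_polar_self Q (b i)).symm.trans c)

end Diag

end X5aA

/-- The change of sign of the coordinates in `I`. -/
def dg (F : Type) [Field F] (I : Finset (Fin n)) : OG (Qn n F) :=
  OG.ofLinear (LinearMap.pi fun i => if i ∈ I then -LinearMap.proj i else LinearMap.proj i)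
    (LinearMap.pi fun i => if i ∈ I then -LinearMap.proj i else LinearMap.proj i)
    (fun x => by ext i; by_cases h : i ∈ I <;> simp [h]) (fun x => by ext i; by_cases h : i ∈ I <;> simp [h]) fun x => by
      rw [Qn_apply, Qn_apply]
      exact Finset.sum_congr rfl fun i _ => by by_cases h : i ∈ I <;> simp [h]

theorem dg_app (I : Finset (Fin n)) (v : Fin n → F) (i : Fin n) : (dg F I).1 v i = if i ∈ I then -v i else v i := by
  show (if i ∈ I then -LinearMap.proj i else LinearMap.proj i : (Fin n → F) →ₗ[F] F) v = _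
  split_ifs <;> rfl

theorem dg_ee (I : Finset (Fin n)) (i : Fin n) : (dg F I).1 (ee i) = if i ∈ I then -ee i else ee i := by
  ext j
  rw [dg_app]
  by_cases e : j = i
  · subst e; split_ifs <;> rfl
  · split_ifs <;> simp [e]

theorem OG_ext_ee {g h : OG (Qn n F)} (e : ∀ i, g.1 (ee i) = h.1 (ee i)) : g = h :=
  Subtype.ext (LinearEquiv.toLinearMap_injective ((Pi.basisFun F _).ext fun i => by simpa using e i))

theorem dg_mul (I J : Finset (Fin n)) : dg F I * dg F J = dg F (symmDiff I J) :=
  OG.ext fun v => funext fun i => by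
    rw [OG.mul_app, dg_app, dg_app, dg_app]
    by_cases a : i ∈ I <;> by_cases b : i ∈ J <;> simp [a, b, Finset.mem_symmDiff]

theorem dg_empty : dg F (∅ : Finset (Fin n)) = 1 := OG.ext fun v => funext fun i => by simp [dg_app]

theorem dg_univ : dg F (Finset.univ : Finset (Fin n)) = OG.negOne _ := OG.ext fun v => funext fun i => by simp [dg_app]

theorem dg_sq (I : Finset (Fin n)) : dg F I * dg F I = 1 := by rw [dg_mul, symmDiff_self]; exact dg_empty

theorem dg_inv (I : Finset (Fin n)) : (dg F I)⁻¹ = dg F I := inv_eq_of_mul_eq_one_right (dg_sq I)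

theorem dg_comm (I J : Finset (Fin n)) : Commute (dg F I) (dg F J) := by
  show _ = _
  rw [dg_mul, dg_mul, symmDiff_comm]

theorem dg_single (h2 : (2 : F) ≠ 0) (i : Fin n) : dg F {i} = rr F i :=
  OG.ext fun v => funext fun j => by simp [dg_app, rr_app h2]

theorem dg_compl (I : Finset (Fin n)) : dg F Iᶜ = OG.negOne _ * dg F I :=
  OG.ext fun v => funext fun i => by
    rw [OG.mul_app, OG.negOne_app, Pi.neg_apply, dg_app, dg_app]
    by_cases a : i ∈ I <;> simp [a]

theorem dg_insert (h2 : (2 : F) ≠ 0) {i : Fin n} {I : Finset (Fin n)} (hi : i ∉ I) :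
    dg F (insert i I) = rr F i * dg F I :=
  OG.ext fun v => funext fun j => by
    rw [OG.mul_app, rr_app h2, dg_app, dg_app]
    by_cases a : j = i
    · subst a; simp [hi]
    · simp [a]

theorem dg_inj (h2 : (2 : F) ≠ 0) {I J : Finset (Fin n)} (e : dg F I = dg F J) : I = J := by
  ext i
  have := congrArg (fun g : OG (Qn n F) => g.1 (fun _ => 1) i) e
  simp only [dg_app] at this
  have k : (-1 : F) ≠ 1 := fun c => h2 (by linear_combination -c)
  by_cases a : i ∈ I <;> by_cases b : i ∈ J <;> simp_all [k.symm]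

theorem fr_dg (σ : F ≃+* F) (I : Finset (Fin n)) : fr σ (dg F I) = dg F I :=
  OG.ext fun v => funext fun i => by
    simp only [fr_app, sv, dg_app]
    split_ifs <;> simp

theorem pm_dg (π : Equiv.Perm (Fin n)) (I : Finset (Fin n)) :
    pm F π * dg F I * (pm F π)⁻¹ = dg F (I.map π.toEmbedding) :=
  OG.ext fun v => funext fun i => by
    rw [← map_inv, OG.mul_app, OG.mul_app, pm_app, dg_app, dg_app, pm_app]
    simp [Finset.mem_map_equiv, Equiv.Perm.inv_def]

theorem rr_mul_mem (h2 : (2 : F) ≠ 0) (i j : Fin n) : rr F i * rr F j ∈ Om n F :=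
  (refl_mul_mem h2 (by rw [Qn_ee]; exact one_ne_zero) (by rw [Qn_ee]; exact one_ne_zero)).2
    (by rw [Qn_ee, Qn_ee]; exact ⟨1, rfl⟩)

theorem pow_dg_mem (h2 : (2 : F) ≠ 0) (k : Fin n) (I : Finset (Fin n)) : rr F k ^ I.card * dg F I ∈ Om n F := by
  induction I using Finset.induction_on with
  | empty => simp [dg_empty]
  | insert i I hi ih =>
    have c : Commute (rr F k ^ I.card) (rr F i) := by
      rw [← dg_single h2, ← dg_single h2]; exact (dg_comm _ _).pow_left _
    rw [Finset.card_insert_of_notMem hi, dg_insert h2 hi, pow_succ', mul_assoc, ← mul_assoc _ (rr F i), c.eq,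
      mul_assoc, ← mul_assoc]
    exact mul_mem (rr_mul_mem h2 _ _) ih

theorem dg_mem (h2 : (2 : F) ≠ 0) {I : Finset (Fin n)} (e : Even I.card) : dg F I ∈ Om n F := by
  rcases I.eq_empty_or_nonempty with rfl | ⟨k, -⟩
  · rw [dg_empty]; exact one_mem _
  obtain ⟨m, hm⟩ := e
  have := pow_dg_mem h2 k I
  rwa [hm, ← two_mul, pow_mul, pow_two, orefl_mul_self, one_pow, one_mul] at this

end Cfsg.Agent.O7
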