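import Mathlib
import Cfsg.Agent.O7.Base2
import Cfsg.Agent.P4.Lift

/-! Charts from the Weyl group. -/

set_option autoImplicit false
set_option synthInstance.maxSize 100000
set_option synthInstance.maxHeartbeats 1000000
set_option linter.unusedSectionVars false

namespace Cfsg.Agent.O7

open Cfsg.Agent.Spor Cfsg.Agent.Rec Cfsg.Agent.Inv.Fz Cfsg.Agent.Yam Subgroup
open Cfsg.Agent.Rec.X32.I (conj_conj conj_symm conj_mul')

universe u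

variable {G : Type u} [Group G] [Finite G]

theorem st_mem_F (t : St G) {y : G} (y2 : y * y = 1) (h : ∀ q, q * y * q⁻¹ ∈ t.S) :
    y ∈ clos [t.d1, t.d2, t.d3, t.f, t.h] := by
  obtain ⟨a0, a1, a2, a3, a4, a5, a6, a7, a8, a9⟩ : t.α ∈ clos [t.d1, t.d2, t.d3, t.f, t.h] ∧
      (∀ x ∈ t.cd, x ∈ clos [t.d1, t.d2, t.d3, t.f, t.h]) ∧ (∀ x ∈ t.cdd, x ∈ clos [t.d1, t.d2, t.d3, t.f, t.h]) ∧
      (∃ x ∈ t.ca, x ∉ t.S) ∧ (∃ x ∈ t.cdda, x ∉ t.S) ∧ (∃ x ∈ t.cda, x ∉ t.S) ∧ (∃ x ∈ t.caa, x ∉ t.S) ∧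
      (∃ x ∈ t.cdaa, x ∉ t.S) ∧ (∃ x ∈ t.cp, x ∉ t.S) ∧ ∃ x ∈ t.cm, x ∉ t.S :=
    ((st_gF t).1.cons t.hL).decide t.rep (by decide +kernel)
  have k : ∀ {a}, y ∈ cls t.e7 a → (∃ x ∈ cls t.e7 a, x ∉ t.S) → y ∈ clos [t.d1, t.d2, t.d3, t.f, t.h] :=
    fun hy ⟨x, hx, n⟩ => by
      obtain ⟨q, e⟩ := isConj_iff.1 ((isConj_of_mem_cls hy).symm.trans (isConj_of_mem_cls hx))
      exact (n (e ▸ h q)).elim
  rcases t.inv_S y (by simpa using h 1) y2 with e | e | e | e | e | e | e | e | e | e | e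
  exacts [e ▸ one_mem _, e ▸ a0, a1 y e, a2 y e, k e a3, k e a4, k e a5, k e a6, k e a7, k e a8, k e a9]

theorem eq_of_odd_ker {Q : Type*} [Group Q] {N P : Subgroup G} (φ : N →* Q) (ker : ∀ g, φ g = 1 → Odd (orderOf (g : G)))
    (hP : IsPGroup 2 P) {x y : N} (hx : x.1 ∈ P) (hy : y.1 ∈ P) (e : φ x = φ y) : x = y := by
  obtain ⟨k, hk⟩ := hP ⟨_, mul_mem (inv_mem hx) hy⟩
  exact Subtype.ext (inv_mul_eq_one.1 (P4.eq_one_of_two_odd (congrArg Subtype.val hk)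
    (ker (x⁻¹ * y) (by rw [map_mul, map_inv, e, inv_mul_cancel]))))

namespace Crt

variable (s : Crt G)

/-- A new chart from letters in the quotient of the normaliser of `F`. -/
theorem relift {Q : Type u} [Group Q] (t : St Q) (π : G → Q)
    (mul : ∀ g ∈ s.NF, ∀ g' ∈ s.NF, π (g * g') = π g * π g') (surj : ∀ y, ∃ g ∈ s.NF, π g = y)
    (ker : ∀ g ∈ s.NF, π g = 1 → Odd (orderOf g)) (top : t.H = ⊤) : ∃ s' : Crt G, s'.F = s.F ∧ s'.W6 t π := by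
  have := Fact.mk Nat.prime_two
  let φ : s.NF →* Q := MonoidHom.mk' (fun g => π g) fun a b => mul _ a.2 _ b.2
  have hs : Function.Surjective φ := fun y => (surj y).elim fun g h => ⟨⟨g, h.1⟩, h.2⟩
  have := Finite.of_surjective φ hs
  obtain ⟨q, -, hq⟩ := t.sylS.exists_cj_eq (isSylIn_top ((s.syl' s.S_le_NF).toSylow.mapSurjective hs))
  obtain ⟨n, rfl⟩ := hs q
  have h1 : cj n.1 s.S ≤ s.NF := (cj_mono s.S_le_NF).trans (cj_eq_of_mem n.2).le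
  have h2 : ∀ y, y ∈ t.S ↔ ∃ x : cj n.1 s.S, φ (inclusion h1 x) = y := fun y => by
    rw [← hq]
    constructor
    · rintro ⟨_, ⟨x, hx, rfl⟩, rfl⟩
      exact ⟨⟨_, conj_mem_cj.2 hx⟩, (map_mul φ (n * x) n⁻¹).trans (by simp)⟩
    · rintro ⟨⟨_, x, hx, rfl⟩, rfl⟩
      exact ⟨_, ⟨⟨x, s.S_le_NF hx⟩, hx, rfl⟩, ((map_mul φ (n * ⟨x, s.S_le_NF hx⟩) n⁻¹).trans (by simp)).symm⟩
  let e := MulEquiv.ofBijective ((φ.comp (inclusion h1)).codRestrict t.S fun x => (h2 _).2 ⟨x, rfl⟩)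
    ⟨fun x y h => inclusion_injective h1 (eq_of_odd_ker φ (fun g => ker g g.2) (isPGroup_cj s.pS n) x.2 y.2
      (congrArg Subtype.val h)), fun y => ((h2 y).1 y.2).imp fun x h => Subtype.ext h⟩
  have h3 : ((cj n.1 s.S).subtype.comp e.symm.toMonoidHom).range = cj n.1 s.S := by
    rw [MonoidHom.range_comp, MonoidHom.range_eq_top.2 e.symm.surjective, ← MonoidHom.range_eq_map, range_subtype]
  obtain ⟨s', -, h4⟩ := (stCrt t).transport ((cj n.1 s.S).subtype.comp e.symm.toMonoidHom)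
    ((subtype_injective _).comp e.symm.injective) (h3.symm ▸ cj_eq_of_normal n.1 ⊤ ▸ s.syl.cj n.1)
  have h5 : ∀ {a x y}, s'.cod.Rep a x → t.cod.Rep a y → y ∈ t.S → π x = y := fun hx hy m => by
    rw [← (((h4 _ ⟨_, m⟩ hy).eq_iff hx).1 rfl)]
    exact congrArg Subtype.val (e.apply_symm_apply ⟨_, m⟩)
  have h6 : s'.F = s.F := (eq_of_le_of_card_ge (fun x hx => by
    have m : ∀ x ∈ s.F, x ∈ cj n.1 s.S := fun x hx => cj_mono s.F_le_S ((cj_eq_iff.2 n.2).ge hx)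
    obtain ⟨a, ha⟩ := t.gS.1.cov _ (e ⟨x, m x hx⟩).2
    have a1 := h4 a (e ⟨x, m x hx⟩) ha
    have a2 : s'.cod.Rep a x := ⟨a1.1, a1.2.trans (congrArg Subtype.val (e.symm_apply_apply ⟨x, m x hx⟩))⟩
    refine a2.2 ▸ (s'.gF.1.has a a2.1).1 (((st_gF t).1.has a ha.1).2 (ha.2 ▸ st_mem_F t ?_ fun q => ?_))
    · rw [← coe_mul, ← map_mul, show (⟨x, m x hx⟩ : cj n.1 s.S) * ⟨x, m x hx⟩ = 1 from Subtype.ext (s.F_sq x hx),
        map_one, coe_one]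
    · obtain ⟨g, rfl⟩ := hs q
      exact (h2 _).2 ⟨⟨_, m _ (conj_mem_of_mem_norm g.2 hx)⟩,
        (map_mul φ (g * inclusion h1 ⟨x, m x hx⟩) g⁻¹).trans (by rw [map_mul, map_inv]; rfl)⟩)
    (by rw [s.gF.2, s'.gF.2])).symm
  have h7 : s'.NF = s.NF := by rw [NF, h6]
  have k := fun i => h5 (s'.rep0.nth i) ((st_rep9 t).nth i) (nth_mem_clos _ i)
  exact ⟨s', h6, h7 ▸ mul, h7 ▸ surj, h7 ▸ ker, top, by
    simpa using ⟨k 0, k 1, k 2, k 3, k 4, k 5, k 6, k 7, k 8⟩⟩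

variable {s} {Q : Type u} [Group Q] {t : St Q} {π : G → Q}

/-- The homomorphism. -/
def W6.hom (h : s.W6 t π) : s.NF →* Q := MonoidHom.mk' (fun g => π g) fun a b => h.mul _ a.2 _ b.2

theorem W6.hom_surj (h : s.W6 t π) : Function.Surjective h.hom := fun y => (h.surj y).elim fun g k => ⟨⟨g, k.1⟩, k.2⟩

theorem W6.one (h : s.W6 t π) : π 1 = 1 := h.hom.map_one

theorem W6.inv (h : s.W6 t π) {g : G} (hg : g ∈ s.NF) : π g⁻¹ = (π g)⁻¹ := h.hom.map_inv ⟨g, hg⟩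

theorem W6.conj (h : s.W6 t π) {g x : G} (hg : g ∈ s.NF) (hx : x ∈ s.NF) : π (g * x * g⁻¹) = π g * π x * (π g)⁻¹ := by
  rw [h.mul _ (mul_mem hg hx) _ (inv_mem hg), h.mul _ hg _ hx, h.inv hg]

theorem W6.finite (h : s.W6 t π) : Finite Q := Finite.of_surjective _ h.hom_surj

theorem W6.inj (h : s.W6 t π) {P : Subgroup G} (hP : IsPGroup 2 P) (hN : P ≤ s.NF) {x y : G} (hx : x ∈ P) (hy : y ∈ P)
    (e : π x = π y) : x = y :=
  congrArg Subtype.val (eq_of_odd_ker h.hom (fun g => h.ker g g.2) hP (x := ⟨x, hN hx⟩) (y := ⟨y, hN hy⟩) hx hy e)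

/-- The same codes. -/
theorem W6.rep (h : s.W6 t π) {a : ℕ} {x : G} (hx : x ∈ s.S) (e : s.cod.Rep a x) : t.cod.Rep a (π x) := by
  obtain ⟨b, h1, h2⟩ : ∃ b, s.cod.Rep b x ∧ t.cod.Rep b (π x) := by
    clear e
    induction hx using closure_induction with
    | mem x hx =>
      obtain ⟨i, hi, rfl⟩ := List.getElem_of_mem hx
      refine ⟨_, nth_of_lt 1 hi ▸ s.rep0.nth i, ?_⟩
      have := (st_rep9 t).nth i
      rwa [← h.lett, nth_of_lt 1 (by simpa using hi), List.getElem_map] at this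
    | one => exact ⟨_, Cod.rep_one, h.one.symm ▸ Cod.rep_one⟩
    | mul x y hx hy ihx ihy =>
      obtain ⟨a, h1, h2⟩ := ihx
      obtain ⟨b, h3, h4⟩ := ihy
      exact ⟨_, h1.mul h3, h.mul _ (s.S_le_NF hx) _ (s.S_le_NF hy) ▸ h2.mul h4⟩
    | inv x hx ih =>
      obtain ⟨a, h1, h2⟩ := ih
      exact ⟨_, h1.inv, h.inv (s.S_le_NF hx) ▸ h2.inv⟩
  exact (h1.eq_iff e).2 rfl ▸ h2

theorem W6.lett' (h : s.W6 t π) : π s.A = t.A ∧ π s.A' = t.A' ∧ π s.C = t.C ∧ π s.D = t.D ∧ π s.X = t.X ∧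
    π s.X' = t.X' ∧ π s.f = t.f ∧ π s.h = t.h ∧ π s.w = t.w ∧ π s.d1 = t.d1 ∧ π s.d2 = t.d2 ∧ π s.d3 = t.d3 ∧
    π s.z = t.z ∧ π s.α = t.α := by
  obtain ⟨a0, a1, a2, a3, a4, a5, a6, a7, a8, a9, a10, a11, a12, a13⟩ := s.eS
  have k : ∀ i j {x}, x ∈ s.S → x = nth 1 s.e i → Nat.beq (nth P.one cE i) (nth P.one cX j) = true →
      π x = nth 1 t.e j := fun i j x hx e c => ((h.rep hx (e ▸ s.rep.nth i)).eq_iff (t.rep.nth j)).1 (Nat.eq_of_beq_eq_true c)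
  exact ⟨k 0 0 a0 rfl (by decide +kernel), k 1 5 a1 rfl (by decide +kernel), k 2 2 a2 rfl (by decide +kernel),
    k 3 7 a3 rfl (by decide +kernel), k 4 4 a4 rfl (by decide +kernel), k 5 8 a5 rfl (by decide +kernel),
    k 6 13 a6 rfl (by decide +kernel), k 7 14 a7 rfl (by decide +kernel), k 8 15 a8 rfl (by decide +kernel),
    k 9 9 a9 rfl (by decide +kernel), k 10 10 a10 rfl (by decide +kernel), k 11 11 a11 rfl (by decide +kernel),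
    k 12 12 a12 rfl (by decide +kernel), k 13 6 a13 rfl (by decide +kernel)⟩

theorem W6.mem_S (h : s.W6 t π) {y : Q} : y ∈ t.S ↔ ∃ x ∈ s.S, π x = y := by
  constructor
  · intro hy
    obtain ⟨a, ha⟩ := t.gS.1.cov y hy
    have h1 := (s.gS.1.all fun b => bneg (Nat.beq b a)).2
    by_contra! k
    have h2 := (t.gS.1.all _).1 (h1 fun b hb m => by
      cases e : Nat.beq b a
      · rfl
      · exact absurd (((h.rep m ⟨hb, rfl⟩).eq_iff ha).1 (Nat.eq_of_beq_eq_true e)) (k _ m)) a ha.1 (ha.2 ▸ hy)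
    rw [Nat.beq_refl] at h2
    exact absurd h2 (by decide)
  · rintro ⟨x, hx, rfl⟩
    obtain ⟨a, ha⟩ := s.exists_rep hx
    have := h.rep hx ha
    exact this.2 ▸ (t.gS.1.has a this.1).1 ((s.gS.1.has a ha.1).2 (ha.2 ▸ hx))

/-- Conjugacy of involutions lifts. -/
theorem W6.lift_conj (h : s.W6 t π) {x x' : G} (hx : x ∈ s.NF) (hx' : x' ∈ s.NF) (x2 : x * x = 1) (x2' : x' * x' = 1)
    {y : Q} (e : y * π x * y⁻¹ = π x') : ∃ n ∈ s.NF, π n = y ∧ n * x * n⁻¹ = x' := by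
  obtain ⟨g, hg, rfl⟩ := h.surj y
  have m := mul_mem (mul_mem hg hx) (inv_mem hg)
  have h1 : π (x' * (g * x * g⁻¹)) = 1 := by rw [h.mul _ hx' _ m, h.conj hg hx, e, ← h.mul _ hx' _ hx', x2', h.one]
  obtain ⟨_, ⟨k, rfl⟩, h2⟩ := P4.exists_conj_zpowers x2' (conj_sq x2) (h.ker _ (mul_mem hx' m) h1)
  have h3 : π ((x' * (g * x * g⁻¹)) ^ k) = 1 :=
    (h.hom.map_zpow ⟨_, mul_mem hx' m⟩ k).trans (by rw [show h.hom _ = 1 from h1, one_zpow])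
  have h4 := zpow_mem (mul_mem hx' m) k
  exact ⟨_, mul_mem h4 hg, by rw [h.mul _ h4 _ hg, h3, one_mul], (conj_conj rfl).trans h2⟩

/-- Normalisers of 2-subgroups lift. -/
theorem W6.lift_norm (h : s.W6 t π) {P : Subgroup G} (hP : P ≤ s.S) {y : Q}
    (e : ∀ x ∈ P, ∃ x' ∈ P, y * π x * y⁻¹ = π x') : ∃ n ∈ s.NF, π n = y ∧ n ∈ normalizer (P : Set G) := by
  have := h.finite
  have := Fact.mk Nat.prime_two
  have hN := hP.trans s.S_le_NF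
  obtain ⟨g, hg, rfl⟩ := (GT.map_normalizer_of_coprime_ker h.hom_surj (((Nat.Prime.coprime_iff_not_dvd
    Nat.prime_two).2 fun k => by
      obtain ⟨x, hx⟩ := exists_prime_orderOf_dvd_card' 2 k
      have := h.ker _ x.1.2 x.2
      rw [orderOf_coe, orderOf_coe, hx] at this
      exact absurd this (by decide)).symm) ((s.pS.to_le hP).comap_subtype (K := s.NF))).ge
    (show y ∈ _ from mem_normalizer_of_conj_mem (by
      rintro _ ⟨p, hp, rfl⟩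
      obtain ⟨p', hp', e⟩ := e p hp
      exact ⟨⟨p', hN hp'⟩, hp', e.symm⟩))
  exact ⟨g, g.2, rfl, mem_normalizer_of_conj_mem fun p hp => conj_mem_of_mem_norm hg (x := ⟨p, hN hp⟩) hp⟩

theorem HasW.fix (h : s.HasW) : ∀ n ∈ s.NF, n * s.α * n⁻¹ = s.α := fun n hn => by
  obtain ⟨Q, _, t, π, h⟩ := h
  have hF := s.F_le_S.trans s.S_le_NF
  refine h.inj (s.pS.to_le s.F_le_S) hF (conj_mem_of_mem_norm hn s.α_F) s.α_F ?_
  rw [h.conj hn (hF s.α_F), h.lett'.2.2.2.2.2.2.2.2.2.2.2.2.2, t.fix_α (h.top ▸ mem_top _)]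

/-- The listed classes are fused by the normaliser of `F`. -/
theorem HasW.cls (h : s.HasW) : (∀ x ∈ s.cd, ∃ n ∈ s.NF, n * s.d3 * n⁻¹ = x) ∧
    (∀ x ∈ s.cdd, ∃ n ∈ s.NF, n * s.z * n⁻¹ = x) ∧ (∀ x ∈ s.ca, ∃ n ∈ s.NF, n * s.X * n⁻¹ = x) ∧
    (∀ x ∈ s.cdda, ∃ n ∈ s.NF, n * (s.X * s.α) * n⁻¹ = x) ∧ (∀ x ∈ s.cda, ∃ n ∈ s.NF, n * (s.A * s.d3) * n⁻¹ = x) ∧
    (∀ x ∈ s.caa, ∃ n ∈ s.NF, n * (s.A * s.C) * n⁻¹ = x) ∧
    (∀ x ∈ s.cdaa, ∃ n ∈ s.NF, n * (s.A * s.C * s.d3) * n⁻¹ = x) ∧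
    (∀ x ∈ s.cp, ∃ n ∈ s.NF, n * (s.A * s.C * s.X) * n⁻¹ = x) ∧
    ∀ x ∈ s.cm, ∃ n ∈ s.NF, n * (s.A * s.C * s.X') * n⁻¹ = x := by
  obtain ⟨Q, _, t, π, h⟩ := h
  have key : ∀ {D : Dom} {r : G} {r' : Q}, t.cod.Lists D (Rec.cls t.e7 r') → r ∈ s.S → r * r = 1 → π r = r' →
      ∀ x ∈ flt s.cod s.S D, ∃ n ∈ s.NF, n * r * n⁻¹ = x := fun {D r r'} hD r1 r2 e x ⟨x1, a, x2, x3⟩ => by
    have h1 := h.rep x1 x2
    obtain ⟨q, -, h2⟩ := h1.2 ▸ (hD.has a h1.1).1 x3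
    rw [← e] at h2
    have h3 : x * x = 1 := h.inj s.pS s.S_le_NF (mul_mem x1 x1) (one_mem _) (by
      rw [h.mul _ (s.S_le_NF x1) _ (s.S_le_NF x1), ← h2, ← conj_mul', ← h.mul _ (s.S_le_NF r1) _ (s.S_le_NF r1), r2,
        h.one, mul_one, mul_inv_cancel])
    exact (h.lift_conj (s.S_le_NF r1) (s.S_le_NF x1) r2 h3 h2).imp fun n k => ⟨k.1, k.2.2⟩
  obtain ⟨a0, -, a2, -, a4, a5, -, -, a11, a12, a13⟩ := s.eE
  obtain ⟨b0, -, b2, -, b4, b5, -, -, -, -, -, b11, b12, b13⟩ := h.lett'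
  have l := s.E_le_S
  have m : ∀ {x y x' y'}, x ∈ s.E → y ∈ s.E → π x = x' → π y = y' → π (x * y) = x' * y' := fun hx hy e e' => by
    rw [h.mul _ (s.S_le_NF (l hx)) _ (s.S_le_NF (l hy)), e, e']
  have k := fun {D r r'} hD (r1 : r ∈ s.E) => key (D := D) (r' := r') hD (l r1) (s.E_sq r r1)
  have c := mul_mem a0 a2
  have c' := m a0 a2 b0 b2
  exact ⟨k t.gd.1 a11 b11, k t.gdd.1 a12 b12, k t.ga.1 a4 b4, k t.gdda.1 (mul_mem a4 a13) (m a4 a13 b4 b13),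
    k t.gda.1 (mul_mem a0 a11) (m a0 a11 b0 b11), k t.gaa.1 c c', k t.gdaa.1 (mul_mem c a11) (m c a11 c' b11),
    k t.gp.1 (mul_mem c a4) (m c a4 c' b4), k t.gm.1 (mul_mem c a5) (m c a5 c' b5)⟩

theorem W6.mem_iff (h : s.W6 t π) {D : Dom} {K : Set G} {K' : Set Q} (h1 : s.cod.Lists D K) (h2 : t.cod.Lists D K')
    {x : G} (hx : x ∈ s.S) : π x ∈ K' ↔ x ∈ K := by
  obtain ⟨a, ha⟩ := s.exists_rep hx
  have := h.rep hx ha
  rw [← this.2, ← h2.has a this.1, h1.has a ha.1, ha.2]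

theorem HasW.exists_r (h : s.HasW) : ∃ r ∈ s.NF, Acts s.a r g4 := by
  obtain ⟨Q, _, t, π, h⟩ := h
  have l := s.E_le_S
  obtain ⟨n, h1, h2, h3⟩ := h.lift_norm l (y := t.r) fun x hx => by
    have h1 := t.r_norm_V _ ((h.mem_iff s.gE.1 t.gV.1 (l hx)).2 hx)
    obtain ⟨x', h2, h3⟩ := h.mem_S.1 (t.V_le_S h1)
    exact ⟨x', (h.mem_iff s.gE.1 t.gV.1 h2).1 (h3 ▸ h1), h3.symm⟩
  refine ⟨n, h1, fun i => h.inj s.pS s.S_le_NF (l (conj_mem_of_mem_norm h3 (s.a_E i))) (l (s.a_E _)) ?_⟩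
  rw [h.conj h1 (s.S_le_NF (l (s.a_E i))), h2]
  exact ((((t.rep.nth 16).mul (h.rep (l (s.a_E i)) (s.rep_a i))).mul (t.rep.nth 16).inv).eq_iff
    (h.rep (l (s.a_E _)) (s.rep_a _))).1 ((by decide +kernel : ∀ i : Fin 7,
      P.mul (P.mul (nth P.one cX 16) (ca7 i)) (P.inv (nth P.one cX 16)) = ca7 (g4 i)) i)

/-- Multiplying the reflections by `α`. -/
theorem HasW.twist (h : s.HasW) : ∃ s' : Crt G, s'.HasW ∧ s'.α = s.α ∧ IsConj s'.X (s.X * s.α) ∧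
    IsConj (s'.X * s'.α) s.X := by
  obtain ⟨Q, _, t, π, h⟩ := h
  obtain ⟨t', e1, e2⟩ := t.exists_twist
  obtain ⟨s', e, h'⟩ := s.relift t' π h.mul h.surj h.ker (t'.cen.symm.trans (e1 ▸ t.cen.trans h.top))
  have hN : s'.S ≤ s.NF := by simpa only [NF, e] using s'.S_le_NF
  obtain ⟨-, -, -, -, b4, -, -, -, -, -, -, -, -, b13⟩ := h.lett'
  obtain ⟨-, -, -, -, c4, -, -, -, -, -, -, -, -, c13⟩ := h'.lett'
  have x := s.eE.2.2.2.2.1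
  have x' := s'.eE.2.2.2.2.1
  have l := s.E_le_S.trans s.S_le_NF
  have l' := s'.E_le_S.trans hN
  have k : ∀ {y y'}, y' ∈ s'.E → y ∈ s.E → π y' = π y → IsConj y' y := fun h1 h2 h3 =>
    (h.lift_conj (l' h1) (l h2) (s'.E_sq _ h1) (s.E_sq _ h2) (y := 1) (by simpa using h3)).elim fun n k =>
      isConj_iff.2 ⟨n, k.2.2⟩
  refine ⟨s', ⟨Q, _, t', π, h'⟩, h.inj (s.pS.to_le s.F_le_S) (s.F_le_S.trans s.S_le_NF) (e ▸ s'.α_F) s.α_F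
    (by rw [c13, b13, e1]), k x' (mul_mem x s.α_E) ?_, k (mul_mem x' s'.α_E) x ?_⟩
  · rw [h.mul _ (l x) _ (l s.α_E), c4, e2, b4, b13]
  · rw [h.mul _ (l' x') _ (l' s'.α_E), c4, c13, e2, e1, b4, mul_assoc, t.α_sq, mul_one]

end Crt

end Cfsg.Agent.O7
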