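import Mathlib
import Cfsg.Agent.O7.Rel

/-! The two fusion patterns. -/

set_option autoImplicit false
set_option synthInstance.maxSize 100000
set_option synthInstance.maxHeartbeats 1000000
set_option linter.unusedSectionVars false

namespace Cfsg.Agent.O7

open Cfsg.Agent.Spor Cfsg.Agent.Rec Cfsg.Agent.Inv.Fz Cfsg.Agent.Yam Subgroup
open Cfsg.Agent.Rec.X32.I (conj_conj conj_symm conj_mul')

universe u

variable {G : Type u} [Group G] [Finite G]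

namespace Crt

variable {s : Crt G}

theorem HasW.conj (h : s.HasW) {x : G} : (x ∈ s.cd → IsConj s.d3 x) ∧ (x ∈ s.cdd → IsConj s.z x) ∧
    (x ∈ s.ca → IsConj s.X x) ∧ (x ∈ s.cdda → IsConj (s.X * s.α) x) ∧ (x ∈ s.cda → IsConj (s.A * s.d3) x) ∧
    (x ∈ s.caa → IsConj (s.A * s.C) x) ∧ (x ∈ s.cdaa → IsConj (s.A * s.C * s.d3) x) ∧
    (x ∈ s.cp → IsConj (s.A * s.C * s.X) x) ∧ (x ∈ s.cm → IsConj (s.A * s.C * s.X') x) := by
  obtain ⟨a1, a2, a3, a4, a5, a6, a7, a8, a9⟩ := h.cls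
  have k : ∀ {r}, (∃ n ∈ s.NF, n * r * n⁻¹ = x) → IsConj r x := fun ⟨n, _, e⟩ => isConj_iff.2 ⟨n, e⟩
  exact ⟨fun m => k (a1 x m), fun m => k (a2 x m), fun m => k (a3 x m), fun m => k (a4 x m), fun m => k (a5 x m),
    fun m => k (a6 x m), fun m => k (a7 x m), fun m => k (a8 x m), fun m => k (a9 x m)⟩

theorem HasW.not_d (h : s.HasW) {x : G} (hx : x ∈ s.cd) : ¬ IsConj s.α x := fun e =>
  s.α_not_d3 (e.trans (h.conj.1 hx).symm)

theorem HasW.not_dd (h : s.HasW) {x : G} (hx : x ∈ s.cdd) : ¬ IsConj s.α x := fun e =>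
  s.α_not_z (e.trans (h.conj.2.1 hx).symm)

theorem HasW.not_aa (h : s.HasW) {x : G} (hx : x ∈ s.caa) : ¬ IsConj s.α x := fun e =>
  s.α_not_AC (e.trans (h.conj.2.2.2.2.2.1 hx).symm)

theorem HasW.not_da (hw : s.HasW) {x : G} (hx : x ∈ s.cda) : ¬ IsConj s.α x := fun h => by
  have h0 : IsConj s.α (s.A * s.d3) := h.trans (hw.conj.2.2.2.2.1 hx).symm
  obtain ⟨n0, hn0, e0⟩ := s.ctrl s.α_E (mul_mem s.eE.1 s.eE.2.2.2.2.2.2.2.2.1) h0
  obtain ⟨a1, a2, a3, a4, a5, a6, a7⟩ : s.f * s.h * s.d3 ∈ s.S ∧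
      s.f * s.h * s.d3 * (s.A * s.d3) = s.A * s.d3 * (s.f * s.h * s.d3) ∧ s.f * s.h * s.d3 * (s.f * s.h * s.d3) = 1 ∧
      (∀ v ∈ s.E, Let (v * (s.f * s.h * s.d3) * v⁻¹ * (s.f * s.h * s.d3)⁻¹) fun c =>
        c = 1 ∨ c ∈ s.cd ∨ s.A * s.d3 * c ∈ s.cda) ∧
      s.C * s.X * (s.f * s.h * s.d3) * (s.C * s.X)⁻¹ * (s.f * s.h * s.d3)⁻¹ = s.d2 * s.d3 ∧
      s.A * s.d3 * (s.d2 * s.d3) ∈ s.cda ∧ s.d2 * s.d3 ≠ 1 := s.hL.decide s.rep (by decide +kernel)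
  generalize s.f * s.h * s.d3 = y0 at a1 a2 a3 a4 a5
  have hS : IsSylIn 2 s.S (centralizer {s.α} ⊓ s.NE) := s.syl' (le_inf s.sylα.1 s.S_le_NE)
  obtain ⟨k, hk, h2⟩ := exists_conj_mem_syl hS (x := n0⁻¹ * y0 * n0⁻¹⁻¹) (mem_inf.2 ⟨mem_cen.2 (by
    rw [← conj_symm e0]; exact comm_of_conj a2), mul_mem (mul_mem (inv_mem hn0) (s.S_le_NE a1)) (inv_mem (inv_mem hn0))⟩)
    (k := 1) (by rw [pow_one, pow_two]; exact conj_sq a3)
  rw [← conj_conj rfl] at h2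
  have hn : k * n0⁻¹ ∈ s.NE := mul_mem (mem_inf.1 hk).2 (inv_mem hn0)
  have e : k * n0⁻¹ * (s.A * s.d3) * (k * n0⁻¹)⁻¹ = s.α := (conj_conj (conj_symm e0)).trans (mem_cen'.1 hk.1)
  generalize k * n0⁻¹ = m at h2 hn e
  have hda : ∀ c, s.A * s.d3 * c ∈ s.cda → IsConj s.α (s.α * (m * c * m⁻¹)) := fun c hc => by
    rw [show s.α * (m * c * m⁻¹) = m * (s.A * s.d3 * c) * m⁻¹ by rw [conj_mul' m _ c, e]]
    exact (h0.trans (hw.conj.2.2.2.2.1 hc)).trans (isConj_iff.2 ⟨m, rfl⟩)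
  obtain ⟨v, hv, h3, h4⟩ := (show ∀ y ∈ s.S, y * y = 1 → (∃ v ∈ s.E, Let (v * y * v⁻¹ * y⁻¹) fun c =>
      s.α * c ∉ s.cd ∧ s.α * c ∉ s.cdd ∧ s.α * c ∉ s.caa ∧ c ≠ 1) → ∃ v ∈ s.E, Let (v * y * v⁻¹ * y⁻¹) fun c =>
        c ∈ s.cdd ∧ s.α * c ∈ s.cd from s.hL.decide s.rep (by decide +kernel)) _ h2 (conj_sq a3)
    ⟨m * (s.C * s.X) * m⁻¹, conj_mem_of_mem_norm hn (mul_mem s.eE.2.2.1 s.eE.2.2.2.2.1), by
      rw [let_iff, X32.I.conj_commutator, a5]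
      have h5 := hda _ a6
      exact ⟨fun h => hw.not_d h h5, fun h => hw.not_dd h h5, fun h => hw.not_aa h h5, fun h => a7 (conj_eq_one.1 h)⟩⟩
  obtain ⟨u, rfl⟩ : ∃ u, v = m * u * m⁻¹ := ⟨m⁻¹ * v * m, by group⟩
  rw [X32.I.conj_commutator] at h3 h4
  rcases a4 u (by simpa [mul_assoc] using conj_mem_of_mem_norm (inv_mem hn) hv) with h5 | h5 | h5
  · rw [h5, mul_one, mul_inv_cancel] at h3
    exact (show (1 : G) ∉ s.cdd from s.hL.decide s.rep (by decide +kernel)) h3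
  · exact s.d_not_z (((hw.conj.1 h5).trans (isConj_iff.2 ⟨m, rfl⟩)).trans (hw.conj.2.1 h3).symm)
  · exact hw.not_d h4 (hda _ h5)

theorem HasW.not_cls (h : s.HasW) : ∀ x, x ∈ s.cd ∨ x ∈ s.cdd ∨ x ∈ s.caa ∨ x ∈ s.cda → ¬ IsConj s.α x := by
  rintro x (e | e | e | e)
  exacts [h.not_d e, h.not_dd e, h.not_aa e, h.not_da e]

/-- The indices of the elements of `E` fused to `α`. -/
noncomputable def zu (b0 b1 b2 b3 b4 : Bool) (i : ℕ) : Bool :=
  bor (Nat.beq i 63) (bor (band b0 (ca_t.dom.has (nth P.one cV i))) (bor (band b1 (cdda_t.dom.has (nth P.one cV i)))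
    (bor (band b2 (cdaa_t.dom.has (nth P.one cV i)))
      (bor (band b3 (cp_t.dom.has (nth P.one cV i))) (band b4 (cm_t.dom.has (nth P.one cV i)))))))

theorem ε63 : s.εE 63 = s.α := ((s.repE.nth 63).eq_iff (s.rep.nth 13)).1 (by decide +kernel)

open Classical in
theorem HasW.zu_iff (h : s.HasW) {i : ℕ} (hi : i < 64) : zu (decide (IsConj s.α s.X)) (decide (IsConj s.α (s.X * s.α)))
    (decide (IsConj s.α (s.A * s.C * s.d3))) (decide (IsConj s.α (s.A * s.C * s.X)))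
    (decide (IsConj s.α (s.A * s.C * s.X'))) i = true ↔ IsConj s.α (s.εE i) := by
  have hr : s.cod.Rep (nth P.one cV i) (s.εE i) := s.repE.nth i
  have h2 : i = 63 ↔ s.εE i = s.α := ⟨fun e => e ▸ ε63, fun e => s.epsE.inj hi (by norm_num) (e.trans ε63.symm)⟩
  have hv := s.epsE.mem' hi
  have h3 : ∀ D : Dom, D.has (nth P.one cV i) = true ↔ s.εE i ∈ flt s.cod s.S D := fun D =>
    ⟨fun e => ⟨s.E_le_S hv, _, hr, e⟩, fun ⟨_, a, ha, e⟩ => (ha.eq_iff hr).2 rfl ▸ e⟩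
  simp only [zu, bor_iff, band_iff, nbeq_iff, decide_eq_true_eq, h3, h2]
  generalize s.εE i = x at hv
  obtain ⟨-, -, a3, a4, -, -, a7, a8, a9⟩ := h.conj (x := x)
  constructor
  · rintro (e | ⟨e, k⟩ | ⟨e, k⟩ | ⟨e, k⟩ | ⟨e, k⟩ | ⟨e, k⟩)
    exacts [e ▸ IsConj.refl _, e.trans (a3 k), e.trans (a4 k), e.trans (a7 k), e.trans (a8 k), e.trans (a9 k)]
  · intro e
    rcases s.inv_S x (s.E_le_S hv) (s.E_sq x hv) with k | k | k | k | k | k | k | k | k | k | k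
    exacts [absurd (isConj_one_left.1 (k ▸ e)) s.α_ne, .inl k, absurd e (h.not_d k), absurd e (h.not_dd k),
      .inr (.inl ⟨e.trans (a3 k).symm, k⟩), .inr (.inr (.inl ⟨e.trans (a4 k).symm, k⟩)), absurd e (h.not_da k),
      absurd e (h.not_aa k), .inr (.inr (.inr (.inl ⟨e.trans (a7 k).symm, k⟩))),
      .inr (.inr (.inr (.inr (.inl ⟨e.trans (a8 k).symm, k⟩)))), .inr (.inr (.inr (.inr (.inr ⟨e.trans (a9 k).symm, k⟩))))]

theorem zu_fold : ∀ b1 b2 b3 b4 : Bool,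
    (Finset.univ.filter fun i : Fin 64 => zu b1 b1 b2 b3 b4 i = true).fold (fun a b : ℕ => a ^^^ b) 0 Fin.val = 63 := by
  decide +kernel

theorem HasW.norm_fix (hw : s.HasW) (h : IsConj s.α s.X ↔ IsConj s.α (s.X * s.α)) {n : G} (hn : n ∈ s.NE) :
    n * s.α * n⁻¹ = s.α := by
  classical
  obtain ⟨σ, hσ⟩ := s.epsE.exists_ct hn
  have h1 := fun i : Fin 64 => hw.zu_iff i.2
  rw [show decide (IsConj s.α s.X) = decide (IsConj s.α (s.X * s.α)) from decide_eq_decide.2 h] at h1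
  have h3 := zu_fold (decide (IsConj s.α (s.X * s.α))) (decide (IsConj s.α (s.A * s.C * s.d3)))
      (decide (IsConj s.α (s.A * s.C * s.X))) (decide (IsConj s.α (s.A * s.C * s.X')))
  simp only [h1] at h3
  have h4 := (St.fold_ct s.epsE (by norm_num) hσ (Finset.univ.filter fun i : Fin 64 => IsConj s.α (s.εE i))).2.2
  have h5 : (Finset.univ.filter fun i : Fin 64 => IsConj s.α (s.εE i)).map σ.toEmbedding =
      Finset.univ.filter fun i : Fin 64 => IsConj s.α (s.εE i) := by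
    ext i
    obtain ⟨j, rfl⟩ := σ.surjective i
    rw [Finset.mem_map_equiv, Equiv.symm_apply_apply, Finset.mem_filter, Finset.mem_filter, ← hσ j]
    exact and_congr (by simp) ⟨fun e => e.trans (isConj_iff.2 ⟨n, rfl⟩), fun e => e.trans (isConj_iff.2 ⟨n, rfl⟩).symm⟩
  have h6 := Finset.fold_map (op := fun a b : ℕ => a ^^^ b) (b := 0) (f := (Fin.val : Fin 64 → ℕ)) (g := σ.toEmbedding)
    (s := Finset.univ.filter fun i : Fin 64 => IsConj s.α (s.εE i))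
  rw [h5, h3] at h6
  rw [h3, ε63] at h4
  exact h4.trans ((congrArg s.εE h6.symm).trans ε63)

/-- Every involution of `S` is conjugate into `E` by the normaliser of `F`. -/
theorem HasW.exists_conj_E (h : s.HasW) {x : G} (hx : x ∈ s.S) (h2 : x * x = 1) : ∃ k ∈ s.NF, k * x * k⁻¹ ∈ s.E := by
  obtain ⟨a1, a2, a3, a4, a5, a6, a7, a8, a9, a10, a11⟩ := s.eE
  obtain ⟨b1, b2, b3, b4, b5, b6, b7, b8, b9⟩ := h.cls
  have k : ∀ {a : G}, (∃ n ∈ s.NF, n * a * n⁻¹ = x) → a ∈ s.E → ∃ k ∈ s.NF, k * x * k⁻¹ ∈ s.E := fun ⟨g, hg, e⟩ ha =>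
    ⟨g⁻¹, inv_mem hg, by rwa [conj_symm e]⟩
  have c := mul_mem a1 a3
  rcases s.inv_S x hx h2 with h | h | h | h | h | h | h | h | h | h | h
  exacts [⟨1, one_mem _, by simp [h]⟩, ⟨1, one_mem _, by simpa [h]⟩, k (b1 x h) a9, k (b2 x h) a10, k (b3 x h) a5,
    k (b4 x h) (mul_mem a5 a11), k (b5 x h) (mul_mem a1 a9), k (b6 x h) c, k (b7 x h) (mul_mem c a9),
    k (b8 x h) (mul_mem c a5), k (b9 x h) (mul_mem c a6)]

theorem HasW.exists_nrm [IsSimpleGroup G] (h : s.HasW) : ∃ t : Crt G, t.HasW ∧ t.Nrm := by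
  by_cases e : IsConj s.α s.X ↔ IsConj s.α (s.X * s.α)
  · exfalso
    have hO : oddCore G = ⊥ := (IsSimpleGroup.eq_bot_or_eq_top_of_normal _ inferInstance).resolve_right fun k => by
      have h1 : Odd (Nat.card (oddCore G)) := GT.odd_card_oddCore
      rw [k, card_top] at h1
      exact absurd (h1.of_dvd_nat (s.ord_α ▸ orderOf_dvd_natCard s.α)) (by decide)
    rcases exists_conj_or_sup s.syl s.ord_α s.α_S with h1 | ⟨g, h1, h2⟩
    · rw [hO, sup_bot_eq] at h1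
      have h2 : s.α ∈ center G := mem_center_iff.2 fun g => mem_cen.1 (h1 ▸ mem_top g)
      rcases IsSimpleGroup.eq_bot_or_eq_top_of_normal (center G) inferInstance with k | k
      · exact s.α_ne (mem_bot.1 (k ▸ h2))
      · exact (show s.f * s.A ≠ s.A * s.f from Cod.listsL_nil.decide s.rep (by decide +kernel))
          (mem_center_iff.1 (k ▸ mem_top s.A) s.f)
    · obtain ⟨k, hk, h3⟩ := h.exists_conj_E h1 (conj_sq s.α_sq)
      obtain ⟨n, hn, h4⟩ := s.ctrl s.α_E h3 (isConj_iff.2 ⟨k * g, conj_conj rfl⟩)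
      rw [h.norm_fix e hn] at h4
      exact h2 ((conj_symm h4.symm).symm.trans (h.fix _ (inv_mem hk)))
  · by_cases e' : IsConj s.α s.X
    · obtain ⟨t, h1, h2, h3, h4⟩ := h.twist
      exact ⟨t, h1, by rw [h2] at h4 ⊢; exact e'.trans h4.symm, fun k => e (iff_of_true e' ((h2 ▸ k :).trans h3))⟩
    · exact ⟨s, h, by_contra fun k => e (iff_of_false e' k), e'⟩

/-- The number of solutions of `x y y' ∈ O`, where `O` is given by the binary digits of `m`. -/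
def cnt3 (m x : ℕ) : ℕ := (Finset.univ.filter fun p : Fin 64 × Fin 64 =>
  m.testBit p.1 = true ∧ m.testBit p.2 = true ∧ m.testBit (x ^^^ p.1 ^^^ p.2) = true).card

/-- The mask of `zu`. -/
def zm (b2 b3 b4 : Bool) : ℕ := 16753531353454084096 + cond b2 459482062710112256 0 + cond b3 2473970368512 0 +
  cond b4 4535523213312 0

theorem zm_ok : ∀ b2 b3 b4 : Bool, ∀ i : Fin 64, (zm b2 b3 b4).testBit i = zu false true b2 b3 b4 i := by
  decide +kernel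

theorem zm_cnt : ∀ b2 b3 b4 : Bool, cnt3 (zm b2 b3 b4) 63 = cnt3 (zm b2 b3 b4) 47 →
    (b2 = true ∧ b3 = true ∧ b4 = true) ∨ (b2 = false ∧ b3 = false ∧ b4 = false) := by
  decide +kernel

theorem HasW.cases (h : s.HasW) (hn : s.Nrm) : s.One ∨ s.Two := by
  classical
  have h47 : s.εE 47 = s.X * s.α :=
    ((s.repE.nth 47).eq_iff ((s.rep.nth 4).mul (s.rep.nth 13))).1 (by decide +kernel)
  obtain ⟨n, hn', e⟩ := s.ctrl s.α_E (mul_mem s.eE.2.2.2.2.1 s.α_E) hn.1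
  obtain ⟨σ, hσ⟩ := s.epsE.exists_ct hn'
  have h1 : ∀ i < 64, (zm (decide (IsConj s.α (s.A * s.C * s.d3))) (decide (IsConj s.α (s.A * s.C * s.X)))
      (decide (IsConj s.α (s.A * s.C * s.X')))).testBit i = true ↔ IsConj s.α (s.εE i) := fun i hi => by
    rw [← h.zu_iff hi, decide_eq_false hn.2, decide_eq_true hn.1]
    exact Bool.eq_iff_iff.1 (zm_ok _ _ _ ⟨i, hi⟩)
  have h2 : ∀ {x}, IsConj s.α (n * x * n⁻¹) ↔ IsConj s.α x :=
    ⟨fun e => e.trans (isConj_iff.2 ⟨n, rfl⟩).symm, fun e => e.trans (isConj_iff.2 ⟨n, rfl⟩)⟩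
  have h3 : ∀ x : ℕ, x < 64 → ∀ i j : Fin 64, x ^^^ i.1 ^^^ j.1 < 64 ∧
      s.εE (x ^^^ i.1 ^^^ j.1) = s.εE x * s.εE i * s.εE j :=
    fun x hx i j => ⟨s.epsE.lt _ (s.epsE.lt _ hx _ i.2) _ j.2, by
      rw [s.epsE.mul _ hx _ i.2, s.epsE.mul _ (s.epsE.lt _ hx _ i.2) _ j.2]⟩
  rcases zm_cnt _ _ _ (Finset.card_equiv (σ.prodCongr σ) fun p => by
    simp only [Finset.mem_filter, Finset.mem_univ, true_and, Equiv.prodCongr_apply, Prod.map_fst, Prod.map_snd]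
    rw [h1 _ p.1.2, h1 _ p.2.2, h1 _ (σ p.1).2, h1 _ (σ p.2).2, h1 _ (h3 63 (by norm_num) _ _).1,
      h1 _ (h3 47 (by norm_num) _ _).1, (h3 63 (by norm_num) _ _).2, (h3 47 (by norm_num) _ _).2, ← hσ p.1, ← hσ p.2, h47,
      ε63, ← e, ← conj_mul', ← conj_mul', h2, h2, h2]) with ⟨a, b, c⟩ | ⟨a, b, c⟩
  · exact .inl ⟨h, hn, of_decide_eq_true a, of_decide_eq_true b, of_decide_eq_true c⟩
  · refine .inr ⟨h, hn, fun x hx k => ?_⟩
    obtain ⟨g, rfl⟩ := isConj_iff.1 k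
    obtain ⟨-, -, a3, -, -, -, a7, a8, a9⟩ := h.conj (x := g * s.α * g⁻¹)
    rcases s.inv_S _ hx (conj_sq s.α_sq) with m | m | m | m | m | m | m | m | m | m | m
    exacts [absurd (conj_eq_one.1 m) s.α_ne, .inl m, absurd k (h.not_d m), absurd k (h.not_dd m),
      absurd (k.trans (a3 m).symm) hn.2, .inr m, absurd k (h.not_da m), absurd k (h.not_aa m),
      absurd (k.trans (a7 m).symm) (of_decide_eq_false a), absurd (k.trans (a8 m).symm) (of_decide_eq_false b),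
      absurd (k.trans (a9 m).symm) (of_decide_eq_false c)]

end Crt

end Cfsg.Agent.O7
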