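import Mathlib
import Cfsg.Agent.O7.LDefs
import Cfsg.Agent.P4.Bal
import Cfsg.Agent.Rec.Loc
import Cfsg.Agent.GT.CoprimeGen
import Cfsg.Agent.GT.CoprimeFixed

/-! Calculus of the labels -/

set_option autoImplicit false
set_option linter.unusedSectionVars false

namespace Cfsg.Agent.O7

open Subgroup Equiv Cfsg.Agent.Inv.Fz Cfsg.Agent.GW Cfsg.Agent.P4
open scoped commutatorElement

universe u

variable {G : Type u} [Group G] {a : Fin 7 → G} {S : Subgroup G} {g : G} {σ : Perm (Fin 7)} {I J T : Finset (Fin 7)}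


theorem pr_empty : pr a ∅ = 1 := by
  simp [pr]

theorem pr_single (i : Fin 7) : pr a {i} = a i := by
  rw [pr, show List.finRange 7 = [0, 1, 2, 3, 4, 5, 6] by decide]
  fin_cases i <;> simp

theorem pr_mem (J : Finset (Fin 7)) : pr a J ∈ EE a := by
  refine (EE a).list_prod_mem fun x hx => ?_
  obtain ⟨i, -, rfl⟩ := List.mem_map.1 hx
  split_ifs
  exacts [mem_EE a i, one_mem _]

theorem pr_map {H : Type*} [Group H] (f : G →* H) (J : Finset (Fin 7)) : f (pr a J) = pr (f ∘ a) J := by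
  rw [pr, pr, map_list_prod, List.map_map]
  refine congrArg List.prod (List.map_congr_left fun i _ => ?_)
  simp only [Function.comp]
  split_ifs
  exacts [rfl, map_one f]

theorem Acts.one : Acts a 1 1 := fun i => by simp

theorem Acts.mul {g' : G} {τ : Perm (Fin 7)} (h : Acts a g σ) (h' : Acts a g' τ) : Acts a (g * g') (σ * τ) := fun i => by
  rw [Perm.mul_apply, ← h, ← h']; group

theorem Acts.inv (h : Acts a g σ) : Acts a g⁻¹ σ⁻¹ := fun i => by
  have := h (σ⁻¹ i)
  rw [Perm.coe_inv, apply_symm_apply] at this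
  rw [← this, Perm.coe_inv]; group

theorem Acts.pow (h : Acts a g σ) (n : ℕ) : Acts a (g ^ n) (σ ^ n) := by
  induction n with
  | zero => simpa using Acts.one
  | succ n ih => rw [pow_succ, pow_succ]; exact ih.mul h

theorem Acts.conj_mem (h : Acts a g σ) {x : G} (hx : x ∈ EE a) : g * x * g⁻¹ ∈ EE a := by
  have : EE a ≤ (EE a).comap (MulAut.conj g).toMonoidHom := (closure_le _).2 (by
    rintro _ ⟨i, rfl⟩
    change g * a i * g⁻¹ ∈ EE a
    rw [h i]
    exact mem_EE a _)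
  exact this hx

theorem Acts.comm_iff (h : Acts a g σ) {x : G} (i : Fin 7) : Commute (g * x * g⁻¹) (a (σ i)) ↔ Commute x (a i) := by
  rw [← h i]
  exact ⟨fun e => by simpa [mul_assoc] using e.map (MulAut.conj g⁻¹), fun e => e.map (MulAut.conj g)⟩

theorem Acts.comm_iff2 (h : Acts a g σ) {x : G} (i j : Fin 7) :
    Commute (g * x * g⁻¹) (a (σ i) * a (σ j)) ↔ Commute x (a i * a j) := by
  rw [← h i, ← h j, conj_mul]
  exact ⟨fun e => by simpa [mul_assoc] using e.map (MulAut.conj g⁻¹), fun e => e.map (MulAut.conj g)⟩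

theorem mem_map_perm {σ : Perm (Fin 7)} {i : Fin 7} : σ i ∈ J.map σ.toEmbedding ↔ i ∈ J := Finset.mem_map' _

theorem Acts.mem_norm (h : Acts a g σ) : g ∈ normalizer (EE a : Set G) :=
  mem_normalizer_iff.2 fun x => ⟨h.conj_mem, fun hx => by simpa [mul_assoc] using h.inv.conj_mem hx⟩

theorem Acts.mem_CJ (h : Acts a g σ) {x : G} : g * x * g⁻¹ ∈ CJ a (J.map σ.toEmbedding) ↔ x ∈ CJ a J := by
  rw [O7.mem_CJ, O7.mem_CJ]
  refine and_congr (σ.surjective.forall.trans (forall_congr' fun i => by rw [mem_map_perm, h.comm_iff]))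
    (σ.surjective.forall.trans (forall_congr' fun i => ?_))
  rw [mem_map_perm]
  exact imp_congr_right fun _ => σ.surjective.forall.trans
    (forall_congr' fun j => by rw [mem_map_perm, h.comm_iff2])

theorem Acts.mem_CT (h : Acts a g σ) {x : G} : g * x * g⁻¹ ∈ CT a (T.map σ.toEmbedding) ↔ x ∈ CT a T := by
  rw [O7.mem_CT, O7.mem_CT, σ.surjective.forall]
  exact forall_congr' fun i => by rw [mem_map_perm, h.comm_iff]

theorem Acts.mem_Th [Finite G] (h : Acts a g σ) {x : G} : g * x * g⁻¹ ∈ Th a (J.map σ.toEmbedding) ↔ x ∈ Th a J := by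
  rw [O7.mem_Th, O7.mem_Th, h.mem_CJ, σ.surjective.forall]
  exact and_congr_right fun _ => forall_congr' fun i => by rw [mem_map_perm, ← h i, BalAux.mem_UU_conj]

/-- The elements permuting the labels. -/
def actG (a : Fin 7 → G) : Subgroup G where
  carrier := {g | ∃ σ, Acts a g σ}
  one_mem' := ⟨1, Acts.one⟩
  mul_mem' := fun ⟨_, h⟩ ⟨_, h'⟩ => ⟨_, h.mul h'⟩
  inv_mem' := fun ⟨_, h⟩ => ⟨_, h.inv⟩

/-- The permutations of the labels induced by `M`. -/
def actP (a : Fin 7 → G) (M : Subgroup G) : Subgroup (Perm (Fin 7)) where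
  carrier := {σ | ∃ g ∈ M, Acts a g σ}
  one_mem' := ⟨1, one_mem _, Acts.one⟩
  mul_mem' := fun ⟨_, m, h⟩ ⟨_, m', h'⟩ => ⟨_, mul_mem m m', h.mul h'⟩
  inv_mem' := fun ⟨_, m, h⟩ => ⟨_, inv_mem m, h.inv⟩

theorem CJ_le_CT (h : J ⊆ T) : CJ a J ≤ CT a T := fun _ hx =>
  mem_CT.2 fun i hi => (mem_CJ.1 hx).1 i fun e => hi (h e)

theorem CJ_empty_le : CJ a ∅ ≤ CJ a J := fun _ hx =>
  have k := fun i => (mem_CJ.1 hx).1 i (Finset.notMem_empty i)
  mem_CJ.2 ⟨fun i _ => k i, fun i _ j _ => (k i).mul_right (k j)⟩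

theorem prod_mul_prod {ι : Type*} (l : List ι) {f f' : ι → G} (c : ∀ i j, Commute (f i) (f' j)) :
    (l.map f).prod * (l.map f').prod = (l.map fun i => f i * f' i).prod := by
  induction l with
  | nil => simp
  | cons i l ih =>
    simp only [List.map_cons, List.prod_cons]
    have : Commute (l.map f).prod (f' i) := Commute.list_prod_left _ _ fun x hx => by
      obtain ⟨j, -, rfl⟩ := List.mem_map.1 hx
      exact c j i
    rw [← ih, this.mul_mul_mul_comm]

theorem comm_pr_of {x : G} (k : ∀ i ∈ I, Commute x (a i)) : Commute x (pr a I) :=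
  Commute.list_prod_right _ _ fun y hy => by
    obtain ⟨j, -, rfl⟩ := List.mem_map.1 hy
    split_ifs with e
    exacts [k j e, Commute.one_right x]

namespace Lab

variable (h : Lab a)
include h

theorem pr_mul (I J : Finset (Fin 7)) : pr a I * pr a J = pr a (symmDiff I J) := by
  rw [pr, pr, pr, prod_mul_prod _ fun i j => by
    split_ifs
    exacts [h.comm i j, Commute.one_right _, Commute.one_left _, Commute.one_left _]]
  refine congrArg List.prod (List.map_congr_left fun i _ => ?_)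
  by_cases h1 : i ∈ I <;> by_cases h2 : i ∈ J <;> simp [h1, h2, Finset.mem_symmDiff, h.sq]

theorem pr_insert {i : Fin 7} (hi : i ∉ J) : pr a (insert i J) = a i * pr a J := by
  rw [← pr_single (a := a) i, h.pr_mul]
  congr 1
  ext k
  by_cases e : k = i <;> simp [Finset.mem_symmDiff, e, hi]

theorem pr_pair {i j : Fin 7} (hij : i ≠ j) : pr a {i, j} = a i * a j := by
  rw [h.pr_insert (by simpa using hij), pr_single]

theorem pr_compl (J : Finset (Fin 7)) : pr a Jᶜ = pr a J := by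
  rw [← mul_one (pr a J), ← (h.one Finset.univ).2 (Or.inr rfl), h.pr_mul]
  congr 1
  ext k
  simp [Finset.mem_symmDiff]

theorem pr_sq (J : Finset (Fin 7)) : pr a J * pr a J = 1 := by
  rw [h.pr_mul, symmDiff_self]
  exact pr_empty

theorem pr_eq_iff : pr a I = pr a J ↔ I = J ∨ I = Jᶜ := by
  refine ⟨fun e => ?_, by rintro (rfl | rfl); exacts [rfl, h.pr_compl J]⟩
  have h1 : pr a (symmDiff I J) = 1 := by rw [← h.pr_mul, e, h.pr_sq]
  refine ((h.one _).1 h1).imp (fun k => symmDiff_eq_bot.1 k) fun k => ?_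
  ext i
  have := k.ge (Finset.mem_univ i)
  rw [Finset.mem_symmDiff] at this
  rw [Finset.mem_compl]
  tauto

theorem mem_EE_iff {x : G} : x ∈ EE a ↔ ∃ J : Finset (Fin 7), Even J.card ∧ x = pr a J := by
  refine ⟨fun hx => ?_, by rintro ⟨J, -, rfl⟩; exact pr_mem J⟩
  obtain ⟨J, rfl⟩ : ∃ J, x = pr a J := by
    refine closure_induction (p := fun x _ => ∃ J, x = pr a J) ?_ ⟨∅, pr_empty.symm⟩ ?_ ?_ hx
    · rintro _ ⟨i, rfl⟩
      exact ⟨_, (pr_single i).symm⟩
    · rintro _ _ - - ⟨I, rfl⟩ ⟨J, rfl⟩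
      exact ⟨_, h.pr_mul I J⟩
    · rintro _ - ⟨I, rfl⟩
      exact ⟨I, inv_eq_of_mul_eq_one_right (h.pr_sq I)⟩
  by_cases e : Even J.card
  · exact ⟨J, e, rfl⟩
  · refine ⟨Jᶜ, ?_, (h.pr_compl J).symm⟩
    rw [Finset.card_compl, Fintype.card_fin]
    have := J.card_le_univ
    rw [Fintype.card_fin] at this
    rw [Nat.even_iff] at e ⊢
    omega

theorem pr_inj (hI : Even I.card) (hJ : Even J.card) (e : pr a I = pr a J) : I = J :=
  (h.pr_eq_iff.1 e).resolve_right fun k => by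
    rw [k, Finset.card_compl, Fintype.card_fin] at hI
    have := J.card_le_univ
    rw [Fintype.card_fin] at this
    rw [Nat.even_iff] at hI hJ
    omega

theorem card_EE : Nat.card (EE a) = 64 := by
  have e : Function.Bijective fun J : {J : Finset (Fin 7) // Even J.card} => (⟨pr a J, pr_mem _⟩ : EE a) :=
    ⟨fun I J e => Subtype.ext (h.pr_inj I.2 J.2 (congrArg Subtype.val e)), fun x => by
      obtain ⟨J, hJ, e⟩ := h.mem_EE_iff.1 x.2
      exact ⟨⟨J, hJ⟩, Subtype.ext e.symm⟩⟩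
  rw [← Nat.card_eq_of_bijective _ e, Nat.card_eq_fintype_card]
  decide +kernel

theorem isPGroup : IsPGroup 2 (EE a) :=
  IsPGroup.of_card (n := 6) h.card_EE

theorem EE_comm : ∀ x ∈ EE a, ∀ y ∈ EE a, Commute x y := fun x hx y hy => by
  obtain ⟨I, -, rfl⟩ := h.mem_EE_iff.1 hx
  obtain ⟨J, -, rfl⟩ := h.mem_EE_iff.1 hy
  change _ * _ = _ * _
  rw [h.pr_mul, h.pr_mul, symmDiff_comm]

theorem EE_sq : ∀ x ∈ EE a, x * x = 1 := fun x hx => by
  obtain ⟨I, -, rfl⟩ := h.mem_EE_iff.1 hx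
  exact h.pr_sq I

theorem inj : Function.Injective a := fun i j e => by
  rw [← pr_single (a := a) i, ← pr_single (a := a) j, h.pr_eq_iff] at e
  revert i j
  decide

theorem ne_one (i : Fin 7) : a i ≠ 1 := fun e => by
  rw [← pr_single (a := a) i, h.one] at e
  revert i
  decide

theorem acts_pr (k : Acts a g σ) (J : Finset (Fin 7)) : g * pr a J * g⁻¹ = pr a (J.map σ.toEmbedding) := by
  induction J using Finset.induction_on with
  | empty => simp [pr_empty]
  | insert i J hi ih =>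
    rw [Finset.map_insert, h.pr_insert hi, h.pr_insert (i := σ.toEmbedding i) (fun e => hi (mem_map_perm.1 e)), ← conj_mul, ih, k i]
    rfl

theorem acts_unique {τ : Perm (Fin 7)} (k : Acts a g σ) (k' : Acts a g τ) : σ = τ :=
  Equiv.ext fun i => h.inj ((k i).symm.trans (k' i))

theorem acts_of (k : ∀ i, ∃ j, g * a i * g⁻¹ = a j) : ∃ σ, Acts a g σ := by
  choose f hf using k
  have hi : Function.Injective f := fun i j e => h.inj (by
    have := (hf i).trans ((congrArg a e).trans (hf j).symm)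
    simpa using this)
  exact ⟨Equiv.ofBijective f (Finite.injective_iff_bijective.1 hi), hf⟩

theorem comm_pr (k : g ∈ CJ a J) (e : Even (I ∩ J).card) : Commute g (pr a I) := by
  have k' := mem_CJ.1 k
  have key : ∀ n, ∀ K : Finset (Fin 7), K.card = 2 * n → K ⊆ J → Commute g (pr a K) := by
    intro n
    induction n with
    | zero =>
      intro K hK _
      rw [Finset.card_eq_zero.1 hK, pr_empty]
      exact Commute.one_right g
    | succ n ih =>
      intro K hK hJ
      obtain ⟨i, hi⟩ := Finset.card_pos.1 (show 0 < K.card by omega)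
      have c1 := Finset.card_erase_of_mem hi
      obtain ⟨j, hj⟩ := Finset.card_pos.1 (show 0 < (K.erase i).card by omega)
      have c2 := Finset.card_erase_of_mem hj
      rw [← Finset.insert_erase hi, h.pr_insert (Finset.notMem_erase i K), ← Finset.insert_erase hj,
        h.pr_insert (Finset.notMem_erase j _), ← mul_assoc]
      exact (k'.2 i (hJ hi) j (hJ (Finset.mem_of_mem_erase hj))).mul_right (ih _ (by omega)
        (((Finset.erase_subset _ _).trans (Finset.erase_subset _ _)).trans hJ))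
  obtain ⟨n, hn⟩ := e
  have e2 : I = symmDiff (I \ J) (I ∩ J) := by
    ext i
    simp only [Finset.mem_symmDiff, Finset.mem_sdiff, Finset.mem_inter]
    tauto
  rw [e2, ← h.pr_mul]
  exact (comm_pr_of fun i hi => k'.1 i (Finset.mem_sdiff.1 hi).2).mul_right
    (key n _ (by omega) Finset.inter_subset_right)

theorem comm_pr' (k : g ∈ CT a T) (e : Disjoint I T) : Commute g (pr a I) :=
  comm_pr_of fun i hi => mem_CT.1 k i (Finset.disjoint_left.1 e hi)

theorem mem_CJ_empty (k : g ∈ CJ a J) (e : Odd (I ∩ J).card) (c : Commute g (pr a I)) : g ∈ CJ a ∅ := by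
  obtain ⟨j, hj⟩ := Finset.card_pos.1 e.pos
  obtain ⟨hI, hJ⟩ := Finset.mem_inter.1 hj
  have c1 : Commute g (pr a (I.erase j)) := h.comm_pr k (by
    rw [Finset.erase_inter, Finset.card_erase_of_mem hj]
    exact Nat.Odd.sub_odd e odd_one)
  have c2 : Commute g (a j) := by
    rw [← Finset.insert_erase hI, h.pr_insert (Finset.notMem_erase j I)] at c
    simpa using c.mul_right c1.inv_right
  refine mem_CJ.2 ⟨fun i _ => ?_, fun i hi => absurd hi (Finset.notMem_empty i)⟩
  by_cases hi : i ∈ J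
  · simpa using ((mem_CJ.1 k).2 i hi j hJ).mul_right c2.inv_right
  · exact (mem_CJ.1 k).1 i hi

theorem EE_le_CJ : EE a ≤ CJ a J := fun x hx =>
  mem_CJ.2 ⟨fun i _ => h.EE_comm x hx _ (mem_EE a i), fun i _ j _ =>
    h.EE_comm x hx _ (mul_mem (mem_EE a i) (mem_EE a j))⟩

theorem quo [Finite G] {Y : Type*} [Group Y] {π : G → Y} (q : Quo (a 6) π) :
    Lab (π ∘ a) ∧ (∀ J, π (pr a J) = pr (π ∘ a) J) ∧ q.im (EE a) = EE (π ∘ a) := by
  have c : ∀ x ∈ EE a, Commute x (a 6) := fun x hx => h.EE_comm x hx _ (mem_EE a 6)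
  let b : Fin 7 → Cen (a 6) := fun i => ⟨a i, mem_Cen.2 (h.comm 6 i)⟩
  have e : ∀ J, π (pr a J) = pr (π ∘ a) J := fun J => by
    have h1 : ((pr b J : Cen (a 6)) : G) = pr a J := pr_map (Cen (a 6)).subtype J
    rw [← h1]
    exact pr_map q.hom J
  refine ⟨⟨fun i => q.sq (h.comm i 6) (h.sq i), fun i j => q.comm (h.comm i 6) (h.comm j 6) (h.comm i j),
    fun J => ?_⟩, e, le_antisymm (fun y hy => ?_) ((closure_le _).2 ?_)⟩
  · rw [← e, ← h.one, ← q.one]
    exact ⟨q.inj_two h.isPGroup (fun x hx => mem_Cen.2 (c x hx).symm) (pr_mem J) (one_mem _), fun k => k ▸ rfl⟩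
  · obtain ⟨x, hx, -, rfl⟩ := q.mem_im.1 hy
    obtain ⟨J, -, rfl⟩ := h.mem_EE_iff.1 hx
    exact e J ▸ pr_mem J
  · rintro _ ⟨i, rfl⟩
    exact q.mem_im.2 ⟨a i, mem_EE a i, h.comm i 6, rfl⟩

/-- The permutations induced on the labels are even. -/
theorem even_of [Finite G] (syl : IsSylIn 2 S ⊤) (act : ∀ s ∈ S, ∃ σ ∈ d8, Acts a s σ) (k : Acts a g σ) :
    Perm.sign σ = 1 := by
  have : Fact (Nat.Prime 2) := ⟨Nat.prime_two⟩
  obtain ⟨n, m, hm, e⟩ := Nat.exists_eq_two_pow_mul_odd (orderOf_pos g).ne'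
  obtain ⟨r, ⟨τ, hτ⟩, hr⟩ := Rec.exists_conj_mem_syl (syl.mono (K := actG a) (fun s hs =>
    let ⟨ρ, _, e⟩ := act s hs
    ⟨ρ, e⟩) le_top) (x := g ^ m) ⟨_, k.pow m⟩ (k := n) (by rw [← pow_mul, mul_comm, ← e, pow_orderOf_eq_one])
  obtain ⟨ρ, hρ, e2⟩ := act _ hr
  have e3 := h.acts_unique e2 ((hτ.mul (k.pow m)).mul hτ.inv)
  have e4 : Perm.sign ρ = 1 := by
    have : d8.all (fun ρ => Perm.sign ρ = 1) = true := by decide +kernel
    simpa using List.all_eq_true.1 this ρ hρ
  rw [e3, map_mul, map_mul, map_inv, mul_inv_cancel_comm, map_pow] at e4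
  rcases Int.units_eq_one_or (Perm.sign σ) with e5 | e5
  · exact e5
  · rw [e5, hm.neg_one_pow] at e4
    exact absurd e4 (by decide)

/-- Coprime action: generation by the centralisers of the hyperplanes. -/
theorem gen1 [Finite G] {Y : Subgroup G} (hY : Odd (Nat.card Y)) (hE : EE a ≤ normalizer (Y : Set G)) :
    Y ≤ ⨆ (J : Finset (Fin 7)) (_ : Even J.card ∧ J.Nonempty), Y ⊓ CJ a J := by
  have : Fact (Nat.Prime 2) := ⟨Nat.prime_two⟩
  refine GT.CopAct.le_of_hyperplane_centralizer_le (p := 2) (A := EE a)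
    ⟨⟨⟨fun x y => Subtype.ext (h.EE_comm _ x.2 _ y.2)⟩⟩, fun x hx => by rw [pow_two, h.EE_sq x hx]⟩
    (fun e => h.ne_one 0 (mem_bot.1 (e ▸ mem_EE a 0))) hE (Nat.two_dvd_ne_zero.2 (Nat.odd_iff.1 hY))
    fun B hB hi => ?_
  classical
  have m : ∀ x ∈ EE a, ∀ y ∈ EE a, (x * y ∈ B ↔ (x ∈ B ↔ y ∈ B)) := fun x hx y hy =>
    mul_mem_iff_of_index_two (H := B.subgroupOf (EE a)) hi (a := ⟨x, hx⟩) (b := ⟨y, hy⟩)
  let J : Finset (Fin 7) := Finset.univ.filter fun i => a i ∉ B
  have hJ : ∀ i, i ∈ J ↔ a i ∉ B := fun i => by simp [J]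
  have key : ∀ K : Finset (Fin 7), pr a K ∈ B ↔ Even (K ∩ J).card := fun K => by
    induction K using Finset.induction_on with
    | empty => simp [pr_empty]
    | insert i K hi ih =>
      rw [h.pr_insert hi, m _ (mem_EE a i) _ (pr_mem K), ih]
      by_cases e : i ∈ J
      · rw [Finset.insert_inter_of_mem e, Finset.card_insert_of_notMem fun k => hi (Finset.mem_inter.1 k).1,
          Nat.even_add_one]
        have := (hJ i).1 e
        tauto
      · rw [Finset.insert_inter_of_notMem e]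
        have := (hJ i).not.1 e
        tauto
  have h1 : Even J.card := by
    have := (key Finset.univ).1 (((h.one _).2 (Or.inr rfl)).symm ▸ one_mem B)
    rwa [Finset.univ_inter] at this
  have h2 : J.Nonempty := Finset.nonempty_iff_ne_empty.2 fun e => by
    have : EE a ≤ B := (closure_le _).2 (by
      rintro _ ⟨i, rfl⟩
      by_contra k
      exact Finset.notMem_empty i (e ▸ (hJ i).2 k))
    rw [relIndex_eq_one.2 this] at hi
    omega
  refine le_iSup₂_of_le J ⟨h1, h2⟩ (inf_le_inf_left _ fun x hx => mem_CJ.2 ⟨fun i hi => ?_, fun i hi j hj => ?_⟩)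
  · exact (hx _ (not_not.1 ((hJ i).not.1 hi))).symm
  · exact (hx _ ((m _ (mem_EE a i) _ (mem_EE a j)).2 (iff_of_false ((hJ i).1 hi) ((hJ j).1 hj)))).symm

/-- Coprime action: `Y = C_Y(E) [Y, E]`. -/
theorem gen2 [Finite G] {Y M : Subgroup G} (hY : Odd (Nat.card Y)) (hE : EE a ≤ normalizer (Y : Set G))
    (h0 : Y ⊓ CJ a ∅ ≤ M) (h1 : ∀ y ∈ Y, ∀ j, ⁅y, a j⁆ ∈ M) : Y ≤ M := by
  have : Fact (Nat.Prime 2) := ⟨Nat.prime_two⟩
  have := h.isPGroup.isNilpotent
  rw [← GT.CopAct.commutator_sup_centralizer hE (by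
    rw [h.card_EE]
    exact Nat.Coprime.pow_left 6 (Nat.coprime_two_left.2 hY)) (Or.inl inferInstance)]
  refine sup_le (commutator_le.2 fun y hy e he => ?_) (le_trans (inf_le_inf_left _ fun x hx =>
    mem_CJ.2 ⟨fun i _ => (hx _ (mem_EE a i)).symm, fun i hi => absurd hi (Finset.notMem_empty i)⟩) h0)
  obtain ⟨J, -, rfl⟩ := h.mem_EE_iff.1 he
  induction J using Finset.induction_on generalizing y with
  | empty => simp [pr_empty]
  | insert i K hi ih =>
    have e : ⁅y, a i * pr a K⁆ = ⁅y, a i⁆ * ⁅a i * y * (a i)⁻¹, pr a K⁆ := by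
      have c := (h.EE_comm _ (mem_EE a i) _ (pr_mem K)).eq
      rw [c]
      simp only [commutatorElement_def]
      group
    rw [h.pr_insert hi, e]
    exact mul_mem (h1 y hy i) (ih _ ((mem_normalizer_iff.1 (hE (mem_EE a i)) y).1 hy) (pr_mem K))

end Lab

end Cfsg.Agent.O7
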