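import Mathlib
import Cfsg.Agent.O7.LDefs

/-! Permutation groups of degree six and seven -/

set_option autoImplicit false
set_option linter.unusedSectionVars false
set_option maxRecDepth 100000
set_option synthInstance.maxSize 100000
set_option synthInstance.maxHeartbeats 400000

namespace Cfsg.Agent.O7

open Subgroup Equiv Cfsg.Agent.Inv.Fz Cfsg.Agent.GW Cfsg.Agent.P4
open scoped commutatorElement

universe u

/-- The group generated by `g1, …, g4`. -/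
def w24 : List (Perm (Fin 7)) := [1, g1, g2, g3, g4, g1 * g2, g1 * g3, g1 * g4, g2 * g3, g2 * g4, g3 * g2, g3 * g4,
  g4 * g1, g4 * g3, g1 * g3 * g4, g1 * g4 * g3, g2 * g3 * g4, g2 * g4 * g3, g3 * g2 * g4, g3 * g4 * g3, g4 * g1 * g3,
  g1 * g3 * g4 * g3, g2 * g3 * g4 * g3, g3 * g2 * g4 * g3]

theorem w24_mem {H : Subgroup (Perm (Fin 7))} (h1 : g1 ∈ H) (h2 : g2 ∈ H) (h3 : g3 ∈ H) (h4 : g4 ∈ H) :
    ∀ w ∈ w24, w ∈ H := by
  simp only [w24, List.forall_mem_cons]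
  refine ⟨one_mem _, ?_, ?_, ?_, ?_, ?_, ?_, ?_, ?_, ?_, ?_, ?_, ?_, ?_, ?_, ?_, ?_, ?_, ?_, ?_, ?_, ?_, ?_, ?_, by simp⟩
  all_goals repeat' first | with_reducible assumption | with_reducible apply mul_mem

theorem w24_tr : ∀ j : Fin 7, j ≠ 6 → ∃ w ∈ w24, w 6 = 6 ∧ w j = 0 := by decide +kernel

theorem tr2_of {H : Subgroup (Perm (Fin 7))} (h1 : g1 ∈ H) (h2 : g2 ∈ H) (h3 : g3 ∈ H) (h4 : g4 ∈ H)
    (h5 : ∃ σ ∈ H, σ 6 = 4) : ∀ i j k l : Fin 7, i ≠ j → k ≠ l → ∃ σ ∈ H, σ i = k ∧ σ j = l := by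
  have m := w24_mem h1 h2 h3 h4
  obtain ⟨σ, hσ, e⟩ := h5
  have k1 : ∀ i, ∃ τ ∈ H, τ i = 6 := fun i => by
    by_cases hi : i = 6
    · exact ⟨1, one_mem _, hi⟩
    obtain ⟨w, hw, -, e1⟩ := w24_tr i hi
    obtain ⟨w', hw', -, e2⟩ := w24_tr 4 (by decide)
    refine ⟨σ⁻¹ * w'⁻¹ * w, mul_mem (mul_mem (inv_mem hσ) (inv_mem (m _ hw'))) (m _ hw), ?_⟩
    rw [Perm.mul_apply, Perm.mul_apply, e1, ← e2, Perm.inv_eq_iff_eq, e, Perm.inv_eq_iff_eq]
  have k2 : ∀ i j, i ≠ j → ∃ ρ ∈ H, ρ i = 6 ∧ ρ j = 0 := fun i j h => by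
    obtain ⟨τ, hτ, e1⟩ := k1 i
    obtain ⟨w, hw, e2, e3⟩ := w24_tr (τ j) fun e => h (τ.injective (e1.trans e.symm))
    exact ⟨w * τ, mul_mem (m _ hw) hτ, by rw [Perm.mul_apply, e1, e2], e3⟩
  intro i j k l h h'
  obtain ⟨ρ, hρ, a1, a2⟩ := k2 i j h
  obtain ⟨ρ', hρ', b1, b2⟩ := k2 k l h'
  exact ⟨ρ'⁻¹ * ρ, mul_mem (inv_mem hρ') hρ, by rw [Perm.mul_apply, a1, Perm.inv_eq_iff_eq, b1],
    by rw [Perm.mul_apply, a2, Perm.inv_eq_iff_eq, b2]⟩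

/-- The type of a triple. -/
def tcl (i j k : Fin 7) : Fin 4 :=
  if i = 6 ∨ j = 6 ∨ k = 6 then (if i.val / 2 = j.val / 2 ∨ j.val / 2 = k.val / 2 ∨ i.val / 2 = k.val / 2 then 0 else 1)
  else (if i.val / 2 = j.val / 2 ∨ j.val / 2 = k.val / 2 ∨ i.val / 2 = k.val / 2 then 2 else 3)

/-- Representatives. -/
def trp : Fin 4 → Fin 7 × Fin 7 × Fin 7 := ![(4, 5, 6), (0, 2, 6), (0, 1, 2), (1, 3, 5)]

/-- The triples. -/
def trl : List (Fin 7 × Fin 7 × Fin 7) :=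
  (List.finRange 7).flatMap fun i => (List.finRange 7).flatMap fun j => (List.finRange 7).flatMap fun k =>
    if i < j ∧ j < k then [(i, j, k)] else []

theorem trl_ne : ∀ t ∈ trl, t.1 ≠ t.2.1 ∧ t.2.1 ≠ t.2.2 ∧ t.1 ≠ t.2.2 := by decide +kernel

theorem tcl_orb : ∀ i j k : Fin 7, i ≠ j → j ≠ k → i ≠ k → ∃ w ∈ w24,
    ({w i, w j, w k} : Finset (Fin 7)) = {(trp (tcl i j k)).1, (trp (tcl i j k)).2.1, (trp (tcl i j k)).2.2} ∨
      (tcl i j k = 3 ∧ ({w i, w j, w k} : Finset (Fin 7)) = {1, 3, 4}) := by decide +kernel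

/-- The types in the orbit. -/
def tin (b c : Bool) (n : Fin 4) : Bool := ![true, b, c, false] n

theorem tcl_mv : ∀ b c : Bool, ∀ s0 : Fin 7, s0 ≠ 4 → ∀ s1 : Fin 7, s1 ≠ 4 → s1 ≠ s0 → ∀ s2 : Fin 7, s2 ≠ 4 → s2 ≠ s0 →
    s2 ≠ s1 → ∀ s3 : Fin 7, s3 ≠ 4 → s3 ≠ s0 → s3 ≠ s1 → s3 ≠ s2 → ∀ s4 : Fin 7, s4 ≠ 4 → s4 ≠ s0 → s4 ≠ s1 →
    s4 ≠ s2 → s4 ≠ s3 → ∀ s5 : Fin 7, s5 ≠ 4 → s5 ≠ s0 → s5 ≠ s1 → s5 ≠ s2 → s5 ≠ s3 → s5 ≠ s4 →
    ∃ t ∈ trl, tin b c (tcl t.1 t.2.1 t.2.2) = true ∧ tin b c (tcl (![s0, s1, s2, s3, s4, s5, 4] t.1)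
      (![s0, s1, s2, s3, s4, s5, 4] t.2.1) (![s0, s1, s2, s3, s4, s5, 4] t.2.2)) = false := by decide +kernel

theorem sx_of {H : Subgroup (Perm (Fin 7))} (h1 : g1 ∈ H) (h2 : g2 ∈ H) (h3 : g3 ∈ H) (h4 : g4 ∈ H)
    (h5 : ∃ σ ∈ H, σ 6 = 4) : ∃ σ ∈ H, ({0, 1, 2, 3} : Finset (Fin 7)).map σ.toEmbedding = {0, 2, 4, 6} ∨
      ({0, 1, 2, 3} : Finset (Fin 7)).map σ.toEmbedding = {0, 2, 5, 6} := by
  classical
  have m := w24_mem h1 h2 h3 h4
  by_contra hn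
  let P : Finset (Fin 7) → Prop := fun T => ∃ τ ∈ H, ({τ 4, τ 5, τ 6} : Finset (Fin 7)) = T
  have c1 : ∀ τ ∈ H, ∀ i j k, P {i, j, k} → P {τ i, τ j, τ k} := by
    rintro τ hτ i j k ⟨ρ, hρ, e⟩
    exact ⟨τ * ρ, mul_mem hτ hρ, by simpa using congrArg (Finset.image τ) e⟩
  have c2 : ∀ τ ∈ H, ∀ i j k, P {τ i, τ j, τ k} ↔ P {i, j, k} := fun τ hτ i j k =>
    ⟨fun h => by simpa using c1 _ (inv_mem hτ) _ _ _ h, c1 τ hτ i j k⟩
  have c3 : ∀ τ : Perm (Fin 7), ({0, 1, 2, 3} : Finset (Fin 7)).map τ.toEmbedding = {τ 4, τ 5, τ 6}ᶜ := fun τ => by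
    ext x
    obtain ⟨y, rfl⟩ := τ.surjective x
    simp only [Finset.mem_map_equiv, symm_apply_apply, Finset.mem_compl, Finset.mem_insert, Finset.mem_singleton,
      EmbeddingLike.apply_eq_iff_eq]
    revert y; decide
  have n1 : ¬ P {1, 3, 5} := fun ⟨τ, hτ, e⟩ => hn ⟨τ, hτ, .inl (by rw [c3, e]; decide)⟩
  have n2 : ¬ P {1, 3, 4} := fun ⟨τ, hτ, e⟩ => hn ⟨τ, hτ, .inr (by rw [c3, e]; decide)⟩
  have p0 : P {4, 5, 6} := ⟨1, one_mem _, rfl⟩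
  have key : ∀ i j k : Fin 7, i ≠ j → j ≠ k → i ≠ k →
      (P {i, j, k} ↔ tin (decide (P {0, 2, 6})) (decide (P {0, 1, 2})) (tcl i j k) = true) := fun i j k a b c => by
    obtain ⟨w, hw, e | ⟨e1, e⟩⟩ := tcl_orb i j k a b c
    · rw [← c2 w (m w hw), e]
      generalize tcl i j k = n
      fin_cases n
      · exact iff_of_true p0 rfl
      · exact decide_eq_true_iff.symm
      · exact decide_eq_true_iff.symm
      · exact iff_of_false n1 Bool.false_ne_true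
    · rw [← c2 w (m w hw), e, e1]
      exact iff_of_false n2 Bool.false_ne_true
  obtain ⟨σ, hσ, e⟩ := h5
  have d : ∀ {i j : Fin 7}, i ≠ j → σ i ≠ σ j := fun h => σ.injective.ne h
  have d4 : ∀ {i : Fin 7}, i ≠ 6 → σ i ≠ 4 := fun h => e ▸ d h
  obtain ⟨t, ht, a, b⟩ := tcl_mv (decide (P {0, 2, 6})) (decide (P {0, 1, 2})) (σ 0) (d4 (by decide)) (σ 1)
    (d4 (by decide)) (d (by decide)) (σ 2) (d4 (by decide)) (d (by decide)) (d (by decide)) (σ 3) (d4 (by decide))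
    (d (by decide)) (d (by decide)) (d (by decide)) (σ 4) (d4 (by decide)) (d (by decide)) (d (by decide))
    (d (by decide)) (d (by decide)) (σ 5) (d4 (by decide)) (d (by decide)) (d (by decide)) (d (by decide))
    (d (by decide)) (d (by decide))
  have es : ![σ 0, σ 1, σ 2, σ 3, σ 4, σ 5, 4] = σ := funext fun i => by fin_cases i <;> first | rfl | exact e.symm
  obtain ⟨t1, t2, t3⟩ := trl_ne t ht
  rw [es, ← Bool.not_eq_true, ← key _ _ _ (d t1) (d t2) (d t3)] at b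
  exact b (c1 σ hσ _ _ _ ((key _ _ _ t1 t2 t3).2 a))

theorem a6_word : ∀ a b : Fin 7, a ≠ b → a ≠ 0 ∧ a ≠ 4 ∧ a ≠ 6 → b ≠ 0 ∧ b ≠ 4 ∧ b ≠ 6 → a ≠ 5 → b ≠ 5 →
    ∀ x ∈ [swap a b * swap 0 4], swap 0 1 * swap 1 2 = x * g3 * x * g1 * x ∨
      swap 0 1 * swap 1 2 = g3 * x * g1 * x * g1 * g3 * x ∨ swap 0 1 * swap 1 2 = x * g1 * g3 * x * g3 * x * g1 := by
  decide +kernel

theorem a6_of {H : Subgroup (Perm (Fin 7))} (h1 : g1 ∈ H) (h2 : g2 ∈ H) (h3 : g3 ∈ H)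
    (h5 : ∃ σ ∈ H, Perm.sign σ = 1 ∧ σ 6 = 6 ∧ ({4, 5} : Finset (Fin 7)).map σ.toEmbedding = {0, 4}) :
    swap 0 1 * swap 1 2 ∈ H := by
  obtain ⟨σ, hσ, -, e6, e⟩ := h5
  have k : ∀ i, i = 4 ∨ i = 5 ↔ σ i = 0 ∨ σ i = 4 := fun i => by
    have := Finset.ext_iff.1 e (σ i)
    simpa only [Finset.mem_map_equiv, symm_apply_apply, Finset.mem_insert, Finset.mem_singleton] using this
  have k1 : ∀ i : Fin 7, ¬ (i = 4 ∨ i = 5) → i ≠ 6 → σ i ≠ 0 ∧ σ i ≠ 4 ∧ σ i ≠ 6 := fun i a b =>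
    ⟨fun h => a ((k i).2 (.inl h)), fun h => a ((k i).2 (.inr h)), e6 ▸ σ.injective.ne b⟩
  have k2 : swap (σ 4) (σ 5) = swap 0 4 := by
    have := σ.injective.ne (show (4 : Fin 7) ≠ 5 by decide)
    rcases (k 4).1 (.inl rfl) with a | a <;> rcases (k 5).1 (.inr rfl) with b | b <;> rw [a, b] at this ⊢
    exacts [absurd rfl this, swap_comm _ _, absurd rfl this]
  have k3 : ∀ i j : Fin 7, swap i j * swap 4 5 ∈ H → swap (σ i) (σ j) * swap 0 4 ∈ H := fun i j h => by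
    rw [← k2, swap_apply_apply, swap_apply_apply]
    simpa [mul_assoc] using mul_mem (mul_mem hσ h) (inv_mem hσ)
  have k4 : ∀ i j : Fin 7, i ≠ j → ¬ (i = 4 ∨ i = 5) → i ≠ 6 → ¬ (j = 4 ∨ j = 5) → j ≠ 6 → σ i ≠ 5 → σ j ≠ 5 →
      swap i j * swap 4 5 ∈ H → swap 0 1 * swap 1 2 ∈ H := fun i j a b c d e f g h => by
    have hx := k3 i j h
    rcases a6_word _ _ (σ.injective.ne a) (k1 i b c) (k1 j d e) f g _ (List.mem_singleton_self _) with e | e | e <;>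
      rw [e] <;> generalize swap (σ i) (σ j) * swap 0 4 = x at hx ⊢ <;>
      repeat' first | with_reducible assumption | with_reducible apply mul_mem
  by_cases h : σ 0 = 5 ∨ σ 1 = 5
  · refine k4 2 3 (by decide) (by decide) (by decide) (by decide) (by decide) (fun a => ?_) (fun a => ?_) ?_
    · rcases h with h | h <;> exact absurd (σ.injective (a.trans h.symm)) (by decide)
    · rcases h with h | h <;> exact absurd (σ.injective (a.trans h.symm)) (by decide)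
    · rw [show swap (2 : Fin 7) 3 * swap 4 5 = g1 * g2 by decide +kernel]; exact mul_mem h1 h2
  · exact k4 0 1 (by decide) (by decide) (by decide) (by decide) (by decide) (fun a => h (.inl a))
      (fun a => h (.inr a)) h2

theorem s6_of {H : Subgroup (Perm (Fin 6))} (h1 : swap 0 1 ∈ H) (h2 : swap 2 3 ∈ H) (h3 : swap 4 5 ∈ H)
    (h4 : swap 0 2 * swap 1 3 ∈ H) (h5 : ∃ π ∈ H, (π 4).val < 4)
    (h6 : ∃ π ∈ H, ∃ i j : Fin 6, i.val / 2 ≠ j.val / 2 ∧ (π i).val / 2 = (π j).val / 2) : H = ⊤ := by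
  have cj : ∀ π ∈ H, ∀ i j, swap i j ∈ H → swap (π i) (π j) ∈ H := fun π hπ i j h => by
    rw [swap_apply_apply]; exact mul_mem (mul_mem hπ h) (inv_mem hπ)
  have rf : ∀ i, swap i i ∈ H := fun i => by rw [swap_self]; exact one_mem H
  have sy : ∀ {i j}, swap i j ∈ H → swap j i ∈ H := fun {i j} h => by rwa [swap_comm]
  have tr : ∀ {i j k}, swap i j ∈ H → swap j k ∈ H → swap i k ∈ H := fun {i j k} a b => by
    by_cases e1 : i = j
    · exact e1 ▸ b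
    by_cases e2 : i = k
    · exact e2 ▸ rf i
    simpa [swap_apply_of_ne_of_ne e1 e2] using cj _ b _ _ a
  have bl : ∀ i j : Fin 6, i.val / 2 = j.val / 2 → swap i j ∈ H := fun i j h => by
    fin_cases i <;> fin_cases j <;>
      first | exact rf _ | exact h1 | exact h2 | exact h3 | exact sy h1 | exact sy h2 | exact sy h3 |
        exact absurd h (by decide)
  have w1 : swap 0 4 ∈ H → swap 2 4 ∈ H := cj _ h4 0 4
  have w2 : swap 2 4 ∈ H → swap 0 4 ∈ H := cj _ h4 2 4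
  have r02 : swap 0 2 ∈ H := by
    obtain ⟨π, hπ, i, j, a, b⟩ := h6
    have k : swap i j ∈ H := by simpa using cj _ (inv_mem hπ) _ _ (bl _ _ b)
    have d : ∀ i j : Fin 6, i.val / 2 ≠ j.val / 2 → ∃ p ∈ [((0 : Fin 6), (2 : Fin 6)), (0, 4), (2, 4)],
        (p.1.val / 2 = i.val / 2 ∧ j.val / 2 = p.2.val / 2) ∨ (p.1.val / 2 = j.val / 2 ∧ i.val / 2 = p.2.val / 2) := by
      decide
    obtain ⟨p, hp, e⟩ := d i j a
    have k2 : swap p.1 p.2 ∈ H := e.elim (fun e => tr (tr (bl _ _ e.1) k) (bl _ _ e.2))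
      fun e => tr (tr (bl _ _ e.1) (sy k)) (bl _ _ e.2)
    simp only [List.mem_cons, List.not_mem_nil, or_false] at hp
    rcases hp with rfl | rfl | rfl
    exacts [k2, tr k2 (sy (w1 k2)), tr (w2 k2) (sy k2)]
  have lo : ∀ i : Fin 6, i.val < 4 → swap 0 i ∈ H := fun i hi => by
    by_cases h : i.val < 2
    · exact bl _ _ (by simp; omega)
    · exact tr r02 (bl _ _ (by simp; omega))
  have cr : ∀ i j : Fin 6, i.val < 4 → ¬ j.val < 4 → swap i j ∈ H → swap 0 4 ∈ H := fun i j a b h =>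
    tr (tr (lo i a) h) (bl _ _ (by have := j.2; simp; omega))
  have r04 : swap 0 4 ∈ H := by
    obtain ⟨π, hπ, a⟩ := h5
    by_cases b : (π 5).val < 4
    swap
    · exact cr _ _ a b (cj _ hπ _ _ h3)
    obtain ⟨k, hk⟩ := π.surjective 4
    have k4 : k.val < 4 := by
      by_contra hn
      have : k = 4 ∨ k = 5 := by clear hk; revert k; decide
      rcases this with rfl | rfl
      · rw [hk] at a; exact absurd a (by decide)
      · rw [hk] at b; exact absurd b (by decide)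
    have : ∃ l : Fin 6, l.val < 4 ∧ (π l).val < 4 := by
      by_contra hn
      push Not at hn
      have a0 := hn 0 (by decide)
      have a1 := hn 1 (by decide)
      have a2 := hn 2 (by decide)
      have b0 := Fin.val_ne_of_ne (π.injective.ne (show (0 : Fin 6) ≠ 1 by decide))
      have b1 := Fin.val_ne_of_ne (π.injective.ne (show (0 : Fin 6) ≠ 2 by decide))
      have b2 := Fin.val_ne_of_ne (π.injective.ne (show (1 : Fin 6) ≠ 2 by decide))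
      omega
    obtain ⟨l, l1, l2⟩ := this
    exact cr _ _ l2 (by rw [hk]; decide) (cj _ hπ _ _ (tr (sy (lo l l1)) (lo k k4)))
  have all : ∀ i : Fin 6, swap 0 i ∈ H := fun i => by
    by_cases h : i.val < 4
    · exact lo i h
    · exact tr r04 (bl _ _ (by have := i.2; simp; omega))
  rw [eq_top_iff, ← Perm.closure_isSwap, closure_le]
  rintro _ ⟨i, j, -, rfl⟩
  exact tr (sy (all i)) (all j)

/-- Two duads meet. -/
abbrev Mt (p q : Fin 6 × Fin 6) : Prop := p ≠ q ∧ (p.1 = q.1 ∨ p.1 = q.2 ∨ p.2 = q.1 ∨ p.2 = q.2)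

/-- The duads. -/
def dul : List (Fin 6 × Fin 6) :=
  (List.finRange 6).flatMap fun i => (List.finRange 6).flatMap fun j => if i < j then [(i, j)] else []

theorem mem_dul : ∀ i j : Fin 6, i < j → (i, j) ∈ dul := by decide +kernel

theorem star_fin : ∀ p0 ∈ dul, ∀ p1 ∈ dul, Mt p0 p1 → ∀ p2 ∈ dul, Mt p0 p2 → Mt p1 p2 → ∀ p3 ∈ dul, Mt p0 p3 →
    Mt p1 p3 → Mt p2 p3 → ∀ p4 ∈ dul, Mt p0 p4 → Mt p1 p4 → Mt p2 p4 → Mt p3 p4 →
    ∃ c : Fin 6, ∀ p ∈ [p0, p1, p2, p3, p4], p.1 = c ∨ p.2 = c := by decide +kernel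

/-- Maps of duads come from permutations: `p k` is the image of the duad `{0, k+1}`. -/
theorem star6 (p : Fin 5 → Fin 6 × Fin 6) (h1 : ∀ k, (p k).1 < (p k).2) (h2 : Function.Injective p)
    (h3 : ∀ k l, (p k).1 = (p l).1 ∨ (p k).1 = (p l).2 ∨ (p k).2 = (p l).1 ∨ (p k).2 = (p l).2) :
    ∃ π : Perm (Fin 6), ∀ k : Fin 5, p k = (π 0, π k.succ) ∨ p k = (π k.succ, π 0) := by
  have m : ∀ k, p k ∈ dul := fun k => mem_dul _ _ (h1 k)
  have t : ∀ {k l}, k ≠ l → Mt (p k) (p l) := fun h => ⟨h2.ne h, h3 _ _⟩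
  obtain ⟨c, hc⟩ := star_fin _ (m 0) _ (m 1) (t (by decide)) _ (m 2) (t (by decide)) (t (by decide)) _ (m 3)
    (t (by decide)) (t (by decide)) (t (by decide)) _ (m 4) (t (by decide)) (t (by decide)) (t (by decide))
    (t (by decide))
  have hk : ∀ k, ∃ x, x ≠ c ∧ (p k = (c, x) ∨ p k = (x, c)) := fun k => by
    rcases hc (p k) (by fin_cases k <;> simp) with e | e
    exacts [⟨(p k).2, e ▸ (h1 k).ne', .inl (e ▸ rfl)⟩, ⟨(p k).1, e ▸ (h1 k).ne, .inr (e ▸ rfl)⟩]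
  choose x hx using hk
  have inj : Function.Injective (Fin.cons c x : Fin 6 → Fin 6) := by
    refine Fin.cons_injective_iff.2 ⟨fun ⟨k, e⟩ => (hx k).1 e, fun k l e => h2 ?_⟩
    have a := h1 k
    have b := h1 l
    rcases (hx k).2 with u | u <;> rcases (hx l).2 with v | v <;> rw [u] at a ⊢ <;> rw [v, ← e] at b ⊢
    exacts [absurd a b.not_gt, absurd a b.not_gt]
  exact ⟨ofBijective _ (Finite.injective_iff_bijective.1 inj), fun k => (hx k).2⟩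

end Cfsg.Agent.O7
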