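import Mathlib
import Cfsg.Agent.O7.Lab
import Cfsg.Agent.O7.Perm
import Cfsg.Agent.Rec.SylTools

/-! Fusion of the labels -/

set_option autoImplicit false
set_option linter.unusedSectionVars false

namespace Cfsg.Agent.O7

open Subgroup Equiv Cfsg.Agent.Inv.Fz Cfsg.Agent.GW Cfsg.Agent.P4
open scoped commutatorElement

universe u

variable {G : Type u} [Group G] [Finite G] {a : Fin 7 → G} {S : Subgroup G} {I J : Finset (Fin 7)}


namespace Gl0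

variable (h : Gl0 a S)
include h

theorem conj_acts {g : G} {σ : Perm (Fin 7)} (k : Acts a g σ) {i j : Fin 7} (e : σ i = j) (c : IsConj (a 6) (a i)) :
    IsConj (a 6) (a j) := c.trans (isConj_iff.2 ⟨g, e ▸ k i⟩)

theorem conj (i : Fin 7) : IsConj (a 6) (a i) := by
  obtain ⟨s2, -, k2⟩ := h.e2
  obtain ⟨s3, -, k3⟩ := h.e3
  obtain ⟨s4, k4⟩ := h.e4
  have c5 : IsConj (a 6) (a 5) := h.conj_acts k2 (by decide) h.mv
  have c0 : IsConj (a 6) (a 0) := h.conj_acts k4 (by decide) h.mv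
  have c1 : IsConj (a 6) (a 1) := h.conj_acts k4 (by decide) c5
  fin_cases i
  exacts [c0, c1, h.conj_acts k3 (by decide) c0, h.conj_acts k3 (by decide) c1, h.mv, c5, IsConj.refl _]

theorem acts_of {g : G} (hg : ∀ i, g * a i * g⁻¹ ∈ S) : ∃ σ, Acts a g σ :=
  h.lab.acts_of fun i => by
    obtain ⟨k, hk⟩ := isConj_iff.1 (h.conj i)
    have e : g * a i * g⁻¹ = g * k * a 6 * (g * k)⁻¹ := by rw [← hk]; group
    exact e ▸ h.iso _ (e ▸ hg i)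

theorem acts_norm {g : G} (hg : g ∈ normalizer (EE a : Set G)) : ∃ σ, Acts a g σ :=
  h.acts_of fun i => (closure_le _).2 (by rintro _ ⟨j, rfl⟩; exact h.le j) ((mem_normalizer_iff.1 hg _).1 (mem_EE a i))

theorem EE_le : EE a ≤ S :=
  (closure_le _).2 (by rintro _ ⟨j, rfl⟩; exact h.le j)

theorem le_norm : S ≤ normalizer (EE a : Set G) := fun s hs =>
  let ⟨_, _, k⟩ := h.act s hs
  k.mem_norm

theorem ctrl' {L : Subgroup G} (hL : S ≤ L) {x g : G} (hg : g ∈ L) (hx : x ∈ EE a) (hy : g * x * g⁻¹ ∈ EE a) :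
    ∃ n ∈ L, ∃ σ, Acts a n σ ∧ n * x * n⁻¹ = g * x * g⁻¹ := by
  have : Fact (Nat.Prime 2) := ⟨Nat.prime_two⟩
  obtain ⟨n, hn, h1, h2⟩ := Rec.exists_norm_conj (h.syl.mono hL le_top) h.EE_le (fun k _ hk => by
    obtain ⟨σ, e⟩ := h.acts_of (g := k) fun i => cj_le_iff.1 hk _ (mem_EE a i)
    exact cj_eq_iff.2 e.mem_norm) hg (fun e he => h.lab.EE_comm e he x hx) fun e he => h.lab.EE_comm e he _ hy
  obtain ⟨σ, e⟩ := h.acts_norm h1
  exact ⟨n, hn, σ, e, h2⟩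

theorem wt (hI : Even I.card) (hJ : Even J.card) (e : IsConj (pr a I) (pr a J)) : I.card = J.card := by
  obtain ⟨g, hg⟩ := isConj_iff.1 e
  obtain ⟨n, -, σ, k, e⟩ := h.ctrl' le_top (mem_top g) (pr_mem I) (hg ▸ pr_mem J)
  rw [h.lab.acts_pr k, hg] at e
  rw [← h.lab.pr_inj (by rwa [Finset.card_map]) hJ e, Finset.card_map]

theorem gens : g1 ∈ actP a ⊤ ∧ g2 ∈ actP a ⊤ ∧ g3 ∈ actP a ⊤ ∧ g4 ∈ actP a ⊤ ∧ ∃ σ ∈ actP a ⊤, σ 6 = 4 := by
  obtain ⟨s1, -, k1⟩ := h.e1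
  obtain ⟨s2, -, k2⟩ := h.e2
  obtain ⟨s3, -, k3⟩ := h.e3
  obtain ⟨s4, k4⟩ := h.e4
  obtain ⟨g, hg⟩ := isConj_iff.1 h.mv
  obtain ⟨n, -, σ, k, e⟩ := h.ctrl' le_top (mem_top g) (mem_EE a 6) (hg ▸ mem_EE a 4)
  exact ⟨⟨_, mem_top _, k1⟩, ⟨_, mem_top _, k2⟩, ⟨_, mem_top _, k3⟩, ⟨_, mem_top _, k4⟩, σ, ⟨_, mem_top _, k⟩,
    h.lab.inj ((k 6).symm.trans (e.trans hg))⟩

theorem tr2 (i j k l : Fin 7) (hij : i ≠ j) (hkl : k ≠ l) : ∃ g σ, Acts a g σ ∧ σ i = k ∧ σ j = l := by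
  obtain ⟨h1, h2, h3, h4, h5⟩ := h.gens
  obtain ⟨σ, ⟨g, -, e⟩, e'⟩ := tr2_of h1 h2 h3 h4 h5 i j k l hij hkl
  exact ⟨g, σ, e, e'⟩

theorem even {g : G} {σ : Perm (Fin 7)} (k : Acts a g σ) : Perm.sign σ = 1 :=
  h.lab.even_of h.syl h.act k

theorem sx_aux {X : Finset (Fin 7)} {σ : Perm (Fin 7)} (hσ : σ ∈ actP a ⊤)
    (hX : ({0, 1, 2, 3} : Finset (Fin 7)).map σ.toEmbedding = X) {𝓑 : Finset (Finset (Fin 7))} (h0 : ∅ ∈ 𝓑)
    (hc : 𝓑.card = 8) (he : ∀ I ∈ 𝓑, Even I.card) (hm : ∀ I ∈ 𝓑, ∀ J ∈ 𝓑, symmDiff I J ∈ 𝓑)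
    (hf : ∀ I ∈ 𝓑, I = ∅ ∨ (∃ τ ∈ [1, g4, g3 * g4], I = ({0, 1, 2, 3} : Finset (Fin 7)).map τ.toEmbedding) ∨
      ∃ τ ∈ [1, g1, g2, g1 * g2], I = X.map τ.toEmbedding) : ∃ B : Subgroup G, B ≤ EE a ∧ Nat.card B = 8 ∧
    ∀ b ∈ B, b ≠ 1 → ∃ g σ, Acts a g σ ∧ b = pr a (({0, 1, 2, 3} : Finset (Fin 7)).map σ.toEmbedding) := by
  obtain ⟨h1, h2, h3, h4, -⟩ := h.gens
  let B : Subgroup G :=
    { carrier := {x | ∃ I ∈ 𝓑, x = pr a I}
      one_mem' := ⟨∅, h0, pr_empty.symm⟩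
      mul_mem' := by
        rintro _ _ ⟨I, hI, rfl⟩ ⟨J, hJ, rfl⟩
        exact ⟨_, hm I hI J hJ, h.lab.pr_mul I J⟩
      inv_mem' := by
        rintro _ ⟨I, hI, rfl⟩
        exact ⟨I, hI, inv_eq_of_mul_eq_one_right (h.lab.pr_sq I)⟩ }
  refine ⟨B, by rintro _ ⟨I, -, rfl⟩; exact pr_mem I, ?_, ?_⟩
  · have e : Function.Bijective fun I : 𝓑 => (⟨pr a I, I, I.2, rfl⟩ : B) :=
      ⟨fun I J e => Subtype.ext (h.lab.pr_inj (he _ I.2) (he _ J.2) (congrArg Subtype.val e)), by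
        rintro ⟨_, I, hI, rfl⟩
        exact ⟨⟨I, hI⟩, rfl⟩⟩
    rw [← Nat.card_eq_of_bijective _ e, Nat.card_eq_fintype_card, Fintype.card_coe, hc]
  · rintro _ ⟨I, hI, rfl⟩ hb
    rcases hf I hI with rfl | ⟨τ, hτ, rfl⟩ | ⟨τ, hτ, rfl⟩
    · exact absurd pr_empty hb
    · obtain ⟨g, -, k⟩ : τ ∈ actP a ⊤ := by
        simp only [List.mem_cons, List.not_mem_nil, or_false] at hτ
        rcases hτ with rfl | rfl | rfl
        exacts [one_mem _, h4, mul_mem h3 h4]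
      exact ⟨g, τ, k, rfl⟩
    · obtain ⟨g, -, k⟩ : τ * σ ∈ actP a ⊤ := by
        refine mul_mem ?_ hσ
        simp only [List.mem_cons, List.not_mem_nil, or_false] at hτ
        rcases hτ with rfl | rfl | rfl | rfl
        exacts [one_mem _, h1, h2, mul_mem h1 h2]
      exact ⟨g, _, k, by rw [← hX, Finset.map_map]; rfl⟩

/-- A subgroup of order eight all of whose involutions are fused to `{0,1,2,3}`. -/
theorem sx : ∃ B : Subgroup G, B ≤ EE a ∧ Nat.card B = 8 ∧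
    ∀ b ∈ B, b ≠ 1 → ∃ g σ, Acts a g σ ∧ b = pr a (({0, 1, 2, 3} : Finset (Fin 7)).map σ.toEmbedding) := by
  obtain ⟨h1, h2, h3, h4, h5⟩ := h.gens
  obtain ⟨σ, hσ, e | e⟩ := sx_of h1 h2 h3 h4 h5
  · refine h.sx_aux hσ e (𝓑 := {∅, {0, 1, 2, 3}, {0, 1, 4, 5}, {2, 3, 4, 5}, {0, 2, 4, 6}, {1, 3, 4, 6}, {1, 2, 5, 6},
      {0, 3, 5, 6}}) (by decide) (by decide +kernel) (by decide +kernel) (by decide +kernel) ?_
    simp only [List.mem_cons, List.not_mem_nil, or_false, exists_eq_or_imp, exists_eq_left]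
    decide +kernel
  · refine h.sx_aux hσ e (𝓑 := {∅, {0, 1, 2, 3}, {0, 1, 4, 5}, {2, 3, 4, 5}, {0, 2, 5, 6}, {1, 3, 5, 6}, {1, 2, 4, 6},
      {0, 3, 4, 6}}) (by decide) (by decide +kernel) (by decide +kernel) (by decide +kernel) ?_
    simp only [List.mem_cons, List.not_mem_nil, or_false, exists_eq_or_imp, exists_eq_left]
    decide +kernel

theorem cen_pr (k : d8.all (fun σ => J.map σ.toEmbedding = J) = true) : S ≤ Cen (pr a J) := fun s hs => by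
  obtain ⟨σ, hσ, e⟩ := h.act s hs
  have e2 := h.lab.acts_pr e J
  rw [of_decide_eq_true (List.all_eq_true.1 k σ hσ), mul_inv_eq_iff_eq_mul] at e2
  exact mem_Cen.2 e2.symm

theorem cen6 : S ≤ Cen (a 6) :=
  pr_single (a := a) 6 ▸ h.cen_pr (by decide +kernel)

theorem cen45 : S ≤ Cen (a 4 * a 5) :=
  h.lab.pr_pair (i := 4) (j := 5) (by decide) ▸ h.cen_pr (by decide +kernel)

theorem cenz : S ≤ Cen (pr a {0, 1, 2, 3}) :=
  h.cen_pr (by decide +kernel)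

theorem locG {Y : Type*} [Group Y] {π : G → Y} (q : Quo (a 6) π) (l : Loc (π ∘ a)) : LocG a := by
  have c : ∀ x ∈ EE a, Commute x (a 6) := fun x hx => h.lab.EE_comm x hx _ (mem_EE a 6)
  have c' : EE a ≤ Cen (a 6) := fun x hx => mem_Cen.2 (c x hx).symm
  have cl := fun i => h.lab.comm i 6
  have mv : ∀ i, ∃ g σ, Acts a g σ ∧ σ i = 6 := fun i => by
    obtain ⟨j, hj⟩ := exists_ne i
    obtain ⟨g, σ, k, e, -⟩ := h.tr2 i j 6 0 hj.symm (by decide)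
    exact ⟨g, σ, k, e⟩
  have lift : ∀ T : Finset (Fin 7), ∀ y ∈ CT (π ∘ a) T, ∃ x ∈ CT a T, Commute x (a 6) ∧ π x = y := fun T y hy => by
    have le : closure {x | ∃ i ∉ T, x = a i} ≤ EE a := (closure_le _).2 (by rintro _ ⟨i, -, rfl⟩; exact mem_EE a i)
    obtain ⟨x, h1, h2, h3, -⟩ := q.lift_cen (x := y) (h.lab.isPGroup.to_le le) (le.trans c') fun p hp => by
      refine closure_induction (p := fun p _ => Commute y (π p)) ?_ (q.one ▸ Commute.one_right y) ?_ ?_ hp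
      · rintro _ ⟨i, hi, rfl⟩
        exact mem_CT.1 hy i hi
      · intro u v hu hv h1 h2
        rw [q.mul _ _ (c _ (le hu)) (c _ (le hv))]
        exact h1.mul_right h2
      · intro u hu h1
        rw [q.inv (c _ (le hu))]
        exact h1.inv_right
    exact ⟨x, mem_CT.2 fun i hi => h2 _ (subset_closure ⟨i, hi, rfl⟩), h1, h3⟩
  have p1 : ∀ J : Finset (Fin 7), Even J.card → 4 ≤ J.card → 6 ∉ J → ∀ x ∈ CJ a J, Odd (orderOf x) →
      ∀ j, ⁅x, a j⁆ ∈ UU (a 6) := fun J h1 h2 h3 x hx ho j => by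
    have k := mem_CJ.1 hx
    have cx := k.1 6 h3
    have k2 := l.p1 J h3 h1 h2 (π x) (mem_CJ.2 ⟨fun i hi => q.comm cx (cl i) (k.1 i hi), fun i hi j hj => by
      have := q.comm cx ((cl i).mul_left (cl j)) (k.2 i hi j hj)
      rwa [q.mul _ _ (cl i) (cl j)] at this⟩) (q.odd_of_odd cx ho) j
    have c1 := (cx.mul_left (cl j)).mul_left cx.inv_left
    rw [commutatorElement_def, ← q.ker _ (c1.mul_left (cl j).inv_left), q.mul _ _ c1 (cl j).inv_left,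
      q.conj cx (cl j), q.inv (cl j)]
    exact commutatorElement_eq_one_iff_commute.2 k2
  have p2 : ∀ T : Finset (Fin 7), T.card = 3 → 6 ∉ T → ∀ O : Subgroup G, Odd (Nat.card O) → O ≤ CT a T →
      CT a T ≤ normalizer (O : Set G) → O ≤ UU (a 6) := fun T h1 h2 O ho h3 h4 x hx => by
    have := q.finite
    have k := l.p2 T h2 h1 (q.im O) (ho.of_dvd_nat ((card_map_dvd _ _).trans
      (card_comap_dvd_of_injective _ _ (Cen (a 6)).subtype_injective))) (fun y hy => by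
        obtain ⟨x, hx, cx, rfl⟩ := q.mem_im.1 hy
        exact mem_CT.2 fun i hi => q.comm cx (cl i) (mem_CT.1 (h3 hx) i hi)) fun y hy => by
      obtain ⟨g, hg, cg, rfl⟩ := lift T y hy
      refine Loc.Mss.mem_norm_of_cj_le (Loc.Mss.cj_le_iff.2 fun z hz => ?_)
      obtain ⟨x, hx, cx, rfl⟩ := q.mem_im.1 hz
      exact q.mem_im.2 ⟨_, (mem_normalizer_iff.1 (h4 hg) x).1 hx, (cg.mul_left cx).mul_left cg.inv_left,
        q.conj cg cx⟩
    have cx := mem_CT.1 (h3 hx) 6 h2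
    exact (q.ker x cx).1 (mem_bot.1 (k ▸ q.mem_im.2 ⟨x, hx, cx, rfl⟩))
  refine ⟨fun J h1 h2 i hi x hx ho j => ?_, fun T h1 i hi O ho h3 h4 x hx => ?_, fun M h1 h2 h3 x hx => ?_⟩
  · obtain ⟨g, σ, k, e⟩ := mv i
    have := p1 (J.map σ.toEmbedding) (by rwa [Finset.card_map]) (by rwa [Finset.card_map])
      (e ▸ fun e => hi (mem_map_perm.1 e)) _ (k.mem_CJ.2 hx) (by
        rwa [show orderOf (g * x * g⁻¹) = orderOf x from (MulAut.conj g).orderOf_eq x]) (σ j)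
    rwa [← e, ← k i, ← k j, ← conjugate_commutatorElement, BalAux.mem_UU_conj] at this
  · obtain ⟨g, σ, k, e⟩ := mv i
    have := p2 (T.map σ.toEmbedding) (by rwa [Finset.card_map]) (e ▸ fun e => hi (mem_map_perm.1 e)) (cj g O)
      (by rwa [card_cj]) (cj_le_iff.2 fun y hy => k.mem_CT.2 (h3 hy)) (fun y hy => by
        have e1 : y = g * (g⁻¹ * y * g) * g⁻¹ := by group
        rw [e1, k.mem_CT] at hy
        refine Loc.Mss.mem_norm_of_cj_le (Loc.Mss.cj_le_iff.2 ?_)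
        rintro _ ⟨z, hz, rfl⟩
        refine ⟨_, (mem_normalizer_iff.1 (h4 hy) z).1 hz, ?_⟩
        simp only [MulEquiv.toMonoidHom_eq_coe, MonoidHom.coe_coe, MulAut.conj_apply]
        group) ⟨x, hx, rfl⟩
    rw [← e, ← k i] at this
    exact (BalAux.mem_UU_conj g).1 this
  · have cx := (mem_Cen.1 hx).symm
    refine q.mem_of_im h1 cx (l.p3 (q.im M) (fun y hy => ?_) (fun y hy => ?_) (mem_Cen.2 (q.central _).symm))
    · obtain ⟨g, c1, c2, rfl⟩ := q.lift_norm (x := y) h.lab.isPGroup c' fun p hp => by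
        have := (mem_normalizer_iff.1 hy.1 (π p)).1 ((h.lab.quo q).2.2 ▸ q.mem_im.2 ⟨p, hp, c p hp, rfl⟩)
        rw [← (h.lab.quo q).2.2] at this
        obtain ⟨p', h4, -, e⟩ := q.mem_im.1 this
        exact ⟨p', h4, e.symm⟩
      exact q.mem_im.2 ⟨g, h2 ⟨c2, mem_Cen.2 c1.symm⟩, c1, rfl⟩
    · obtain ⟨g, c1, c2, rfl⟩ := lift {0, 1, 2, 3} y (mem_CT.2 fun i hi => by
        have : i = 4 ∨ i = 5 ∨ i = 6 := by revert i; decide
        rcases this with rfl | rfl | rfl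
        exacts [(mem_Cen.1 hy.1.1).symm, (mem_Cen.1 hy.1.2).symm, (mem_Cen.1 hy.2).symm])
      exact q.mem_im.2 ⟨g, h3 ⟨⟨mem_Cen.2 (mem_CT.1 c1 4 (by decide)).symm, mem_Cen.2 (mem_CT.1 c1 5 (by decide)).symm⟩,
        mem_Cen.2 c2.symm⟩, c2, rfl⟩

end Gl0

end Cfsg.Agent.O7
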