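import Mathlib
import Cfsg.Agent.O7.Lab

/-! The subgroups `Th a J`. -/

set_option autoImplicit false
set_option linter.unusedSectionVars false

namespace Cfsg.Agent.O7

open Subgroup Equiv Cfsg.Agent.Inv.Fz Cfsg.Agent.GW Cfsg.Agent.P4
open scoped commutatorElement

universe u

variable {G : Type u} [Group G] [Finite G] {a : Fin 7 → G} {S : Subgroup G} {I J : Finset (Fin 7)}


/-- The join of the subgroups `Th a J`. -/
def WT (a : Fin 7 → G) : Subgroup G := ⨆ (J : Finset (Fin 7)) (_ : Even J.card), Th a J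

theorem Th_le_WT (hJ : Even J.card) : Th a J ≤ WT a := le_iSup₂_of_le J hJ le_rfl

namespace ThA

theorem odd_le {b : G} {X : Subgroup G} (h : X ≤ UU b) : Odd (Nat.card X) :=
  (Nat.coprime_two_right.1 (GT.coprime_card_pPrimeCoreOf 2 (Cen b))).of_dvd_nat (card_dvd_of_le h)

theorem norm_inf {b : G} {K X : Subgroup G} (h : X ≤ Cen b) (h' : X ≤ K) :
    X ≤ normalizer ((UU b ⊓ K : Subgroup G) : Set G) :=
  (le_inf (h.trans (GT.le_normalizer_pPrimeCoreOf _)) (h'.trans le_normalizer)).trans inf_normalizer_le_normalizer_inf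

theorem comm_of {b x : G} (h : x ∈ UU b) : Commute x b := (mem_Cen.1 (GT.pPrimeCoreOf_le _ h)).symm

theorem exists_not_mem (hJ : Even J.card) : ∃ k, k ∉ J := by
  by_contra h
  rw [Finset.eq_univ_iff_forall.2 fun k => not_not.1 fun e => h ⟨k, e⟩] at hJ
  exact absurd hJ (by decide)

theorem le_cen (h : Lab a) {b : G} (hb : b ∈ EE a) : EE a ≤ Cen b := fun x hx => mem_Cen.2 (h.EE_comm b hb x hx)

theorem viaK (l : LocG a) (h : Lab a) {K : Finset (Fin 7)} (hK : K ⊆ I ∨ K ⊆ Iᶜ) (hJ : J ⊆ K) (h1 : J.card ≤ 3)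
    (h3 : 3 ≤ K.card) {k : Fin 7} (hk : k ∉ K) : UU (pr a I) ⊓ CJ a J ≤ UU (a k) := by
  obtain ⟨T, t1, t2, t3⟩ := Finset.exists_subsuperset_card_eq hJ h1 h3
  have c : CT a T ≤ Cen (pr a I) := fun g hg => mem_Cen.2 <| Commute.symm <| by
    rcases hK with hK | hK
    · rw [← h.pr_compl]
      exact h.comm_pr' hg (Finset.disjoint_left.2 fun x hx hx' => Finset.mem_compl.1 hx (hK (t2 hx')))
    · exact h.comm_pr' hg (Finset.disjoint_left.2 fun x hx hx' => Finset.mem_compl.1 (hK (t2 hx')) hx)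
  exact (inf_le_inf_left _ (CJ_le_CT t1)).trans
    (l.p2 T t3 k (fun e => hk (t2 e)) _ (odd_le inf_le_left) inf_le_right (norm_inf c le_rfl))

theorem viaJ (l : LocG a) (h : Lab a) {b : G} (hb : b ∈ EE a) (h0 : UU b ⊓ CJ a ∅ ≤ Th a ∅) (hJ : Even J.card)
    (h4 : 4 ≤ J.card) {k : Fin 7} (hk : k ∉ J) : UU b ⊓ CJ a J ≤ UU (a k) :=
  h.gen2 (odd_le inf_le_left) (norm_inf (le_cen h hb) h.EE_le_CJ)
    (fun _ hx => (mem_Th.1 (h0 ⟨hx.1.1, hx.2⟩)).2 k (Finset.notMem_empty k)) fun y hy j =>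
      l.p1 J hJ h4 k hk y hy.2 ((odd_le le_rfl).of_dvd_nat ((UU b).orderOf_dvd_natCard hy.1)) j

end ThA

open ThA

theorem odd_Th (hJ : Even J.card) : Odd (Nat.card (Th a J)) := by
  obtain ⟨k, hk⟩ := exists_not_mem hJ
  exact odd_le fun _ hx => (mem_Th.1 hx).2 k hk

theorem Lab.norm_Th (h : Lab a) : EE a ≤ normalizer (Th a J : Set G) := fun e he => by
  refine mem_normalizer_fintype fun x hx => ?_
  obtain ⟨h1, h2⟩ := mem_Th.1 hx
  exact mem_Th.2 ⟨mul_mem (mul_mem (h.EE_le_CJ he) h1) (inv_mem (h.EE_le_CJ he)), fun i hi =>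
    (mem_normalizer_iff.1 (GT.le_normalizer_pPrimeCoreOf _ (le_cen h (mem_EE a i) he)) x).1 (h2 i hi)⟩

theorem Acts.norm_WT {g : G} {σ : Perm (Fin 7)} (h : Acts a g σ) : g ∈ normalizer (WT a : Set G) := by
  have : WT a ≤ (WT a).comap (MulAut.conj g).toMonoidHom := iSup₂_le fun J hJ x hx =>
    Th_le_WT (J := J.map σ.toEmbedding) (by rwa [Finset.card_map]) (h.mem_Th.2 hx)
  exact mem_normalizer_fintype fun x hx => this hx

namespace LocG

variable (l : LocG a) (h : Lab a)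
include l h

set_option linter.unusedVariables false in
theorem th0 {b : G} (hb : b ∈ EE a) (b1 : b ≠ 1) : UU b ⊓ CJ a ∅ ≤ Th a ∅ := fun x hx => by
  obtain ⟨I, -, rfl⟩ := h.mem_EE_iff.1 hb
  refine mem_Th.2 ⟨hx.2, fun i _ => ?_⟩
  have h1 := Finset.card_add_card_compl I
  rw [Fintype.card_fin] at h1
  by_cases h4 : 4 ≤ I.card
  · exact viaK l h (.inl (I.erase_subset i)) (Finset.empty_subset _) (by simp)
      (by have := Finset.pred_card_le_card_erase (s := I) (a := i); omega) (Finset.notMem_erase i _) hx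
  · exact viaK l h (.inr (Iᶜ.erase_subset i)) (Finset.empty_subset _) (by simp)
      (by have := Finset.pred_card_le_card_erase (s := Iᶜ) (a := i); omega) (Finset.notMem_erase i _) hx

theorem th1 (hJ : Even J.card) {i : Fin 7} (hi : i ∉ J) : UU (a i) ⊓ CJ a J ≤ Th a J := fun x hx => by
  refine mem_Th.2 ⟨hx.2, fun k hk => ?_⟩
  by_cases h4 : 4 ≤ J.card
  · exact viaJ l h (mem_EE a i) (l.th0 h (mem_EE a i) (h.ne_one i)) hJ h4 hk hx
  · rw [← pr_single (a := a) i] at hx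
    refine viaK l h (.inr (({i}ᶜ : Finset (Fin 7)).erase_subset k)) (fun j hj => ?_) (by omega) ?_
      (Finset.notMem_erase k _) hx
    · simpa using ⟨fun e => hk (e ▸ hj), fun e => hi (e ▸ hj)⟩
    · have := Finset.pred_card_le_card_erase (s := ({i}ᶜ : Finset (Fin 7))) (a := k)
      rw [Finset.card_compl, Finset.card_singleton, Fintype.card_fin] at this
      omega

theorem th2 (i : Fin 7) : UU (a i) ≤ WT a := by
  refine (h.gen1 (odd_le le_rfl) ((le_cen h (mem_EE a i)).trans (GT.le_normalizer_pPrimeCoreOf _))).trans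
    (iSup₂_le fun J hJ x hx => ?_)
  by_cases hi : i ∈ J
  · refine Th_le_WT (J := ∅) (by simp) (l.th1 h (by simp) (Finset.notMem_empty i)
      ⟨hx.1, h.mem_CJ_empty (I := {i}) hx.2 (by simp [hi]) ?_⟩)
    rw [pr_single]
    exact comm_of hx.1
  · exact Th_le_WT hJ.1 (l.th1 h hJ.1 hi hx)

theorem th3 (hI : I.card = 4) (hJ : Even J.card) (e : Even (I ∩ J).card) : UU (pr a I) ⊓ CJ a J ≤ Th a J := by
  intro x hx
  by_cases h4 : 4 ≤ J.card
  · refine mem_Th.2 ⟨hx.2, fun k hk => viaJ l h (pr_mem I) (l.th0 h (pr_mem I) fun e' => ?_) hJ h4 hk hx⟩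
    rcases (h.one I).1 e' with rfl | rfl <;> simp at hI
  have h1 := Finset.card_le_card (Finset.inter_subset_right (s₁ := I) (s₂ := J))
  by_cases h0 : (I ∩ J).card = 0
  · obtain ⟨k, hk⟩ := Finset.card_pos.1 (show 0 < I.card by omega)
    have d := Finset.disjoint_left.1 (Finset.disjoint_iff_inter_eq_empty.2 (Finset.card_eq_zero.1 h0))
    exact l.th1 h hJ (d hk) ⟨viaK l h (.inr subset_rfl) (fun j hj => Finset.mem_compl.2 fun e' => d e' hj) (by omega)
      (by rw [Finset.card_compl, hI]; simp) (by simpa using hk) hx, hx.2⟩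
  · have h2 : I ∩ J = J := Finset.eq_of_subset_of_card_le Finset.inter_subset_right (by
      obtain ⟨m, hm⟩ := hJ
      obtain ⟨n, hn⟩ := e
      omega)
    obtain ⟨k, hk, hk'⟩ := Finset.exists_mem_notMem_of_card_lt_card (show J.card < I.card by omega)
    exact l.th1 h hJ hk' ⟨viaK l h (.inl (I.erase_subset k))
      (fun j hj => Finset.mem_erase.2 ⟨fun e' => hk' (e' ▸ hj), Finset.inter_eq_right.1 h2 hj⟩) (by omega)
      (by rw [Finset.card_erase_of_mem hk, hI]) (Finset.notMem_erase k _) hx, hx.2⟩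

theorem th4 : UU (a 4 * a 5) ⊓ Cen (a 5 * a 6) ≤ WT a := by
  have m : ∀ i j, a i * a j ∈ EE a := fun i j => mul_mem (mem_EE a i) (mem_EE a j)
  have e45 : pr a {4, 5} = a 4 * a 5 := h.pr_pair (by decide)
  have e56 : pr a {5, 6} = a 5 * a 6 := h.pr_pair (by decide)
  have h0 := l.th0 h (m 4 5) fun e => absurd ((h.one _).1 (e45.trans e)) (by decide)
  refine (h.gen1 (odd_le inf_le_left) (norm_inf (le_cen h (m 4 5)) (le_cen h (m 5 6)))).trans
    (iSup₂_le fun J hJ x hx => ?_)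
  rcases Nat.even_or_odd (({4, 5} : Finset (Fin 7)) ∩ J).card with h1 | h1
  swap
  · exact Th_le_WT (J := ∅) (by simp) (h0 ⟨hx.1.1, h.mem_CJ_empty hx.2 h1 (e45 ▸ comm_of hx.1.1)⟩)
  rcases Nat.even_or_odd (({5, 6} : Finset (Fin 7)) ∩ J).card with h2 | h2
  swap
  · exact Th_le_WT (J := ∅) (by simp) (h0 ⟨hx.1.1, h.mem_CJ_empty hx.2 h2 (e56 ▸ (mem_Cen.1 hx.1.2).symm)⟩)
  by_cases h4 : 4 ≤ J.card
  · obtain ⟨k, hk⟩ := exists_not_mem hJ.1
    exact l.th2 h k (viaJ l h (m 4 5) h0 hJ.1 h4 hk ⟨hx.1.1, hx.2⟩)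
  · have : ∀ J : Finset (Fin 7), Even (({4, 5} : Finset (Fin 7)) ∩ J).card →
        Even (({5, 6} : Finset (Fin 7)) ∩ J).card → Even J.card → ¬ 4 ≤ J.card → J ⊆ {0, 1, 2, 3} := by
      decide +kernel
    exact l.th2 h 6 (viaK l h (I := {4, 5}) (.inr (by decide)) (this J h1 h2 hJ.1 h4) (by omega) (by decide)
      (by decide) ⟨e45 ▸ hx.1.1, hx.2⟩)

end LocG

end Cfsg.Agent.O7
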