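import Mathlib
import Cfsg.Agent.O7.OB
import Cfsg.Agent.O7.Lab
import Cfsg.Agent.S0205
import Cfsg.Agent.GT.HallTools

/-! The local facts in the orthogonal case -/

set_option autoImplicit false
set_option linter.unusedSectionVars false

namespace Cfsg.Agent.O7

open Subgroup Cfsg.Agent.Cl QuadraticMap Cfsg.Agent.GW
open scoped commutatorElement

universe u

variable {F : Type} [Field F] [Fintype F] {n : ℕ}

variable {Y : Type u} [Group Y] [Finite Y] {a : Fin 7 → Y}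


variable {ψ : OG (Qn 7 F) → Y}

namespace LocO

theorem fin : Finite (OG (Qn n F)) := Finite.of_injective (fun g => (g.1 : (Fin n → F) → Fin n → F))
  fun _ _ e => OG.ext (congrFun e)

section lin

variable (h2 : (2 : F) ≠ 0) {g : OG (Qn n F)} {i j k l : Fin n}
include h2

theorem comm_of_supp (h : ∀ l, l ≠ i → g.1 (ee i) l = 0) : Commute g (tt (ee i)) := by
  have e : g.1 (ee i) = g.1 (ee i) i • ee i := by
    ext l
    by_cases hl : l = i
    · simp [hl]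
    · simp [hl, h l hl]
  have h1 := (OG.map_app g (ee i)).trans (Qn_ee i)
  rw [e, o_qsmul, Qn_ee, mul_one, sq_eq_one_iff] at h1
  refine (comm_tt_iff h2 (Qn_ee i)).2 (h1.imp (fun a => ?_) fun a => ?_) <;> rw [e, a] <;> simp

theorem coord_zero (h : Commute g (tt (ee l))) (hl : l ≠ i) : g.1 (ee i) l = 0 := by
  have h1 := OG.polar_app g (ee i) (ee l)
  rw [OA.polar_ee (ee i), show (ee i : Fin n → F) l = 0 from Pi.single_eq_of_ne hl _, mul_zero] at h1
  rcases (comm_tt_iff h2 (Qn_ee l)).1 h with e | e <;> rw [e] at h1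
  · rw [OA.polar_ee] at h1
    exact (mul_eq_zero.1 h1).resolve_left h2
  · rw [polar_neg_right, OA.polar_ee, neg_eq_zero] at h1
    exact (mul_eq_zero.1 h1).resolve_left h2

theorem comm_last (h : ∀ l, l ≠ i → Commute g (tt (ee l))) : Commute g (tt (ee i)) :=
  comm_of_supp h2 fun l hl => coord_zero h2 (h l hl) hl

theorem sq_app (h : Commute g (tt (ee l))) : (g * g).1 (ee l) = ee l := by
  rcases (comm_tt_iff h2 (Qn_ee l)).1 h with e | e
  · rw [OG.mul_app, e, e]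
  · rw [OG.mul_app, e, map_neg, e, neg_neg]

theorem sq_one (h : ∀ l, Commute g (tt (ee l))) : g * g = 1 :=
  Subtype.ext (LinearEquiv.toLinearMap_injective ((Pi.basisFun F _).ext fun l => by
    simpa using sq_app h2 (h l)))

theorem fix_of_odd (ho : Odd (orderOf g)) (h : Commute g (tt (ee l))) : g.1 (ee l) = ee l := by
  obtain ⟨m, hm⟩ := ho
  have h1 : ∀ m : ℕ, ((g * g) ^ m).1 (ee l) = ee l := fun m => by
    induction m with
    | zero => rfl
    | succ m ih => rw [pow_succ, OG.mul_app, sq_app h2 h, ih]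
  have := h1 (m + 1)
  rwa [← pow_two, ← pow_mul, show 2 * (m + 1) = 2 * m + 1 + 1 by ring, pow_succ, ← hm, pow_orderOf_eq_one,
    one_mul] at this

theorem zero_of_comm (hij : i ≠ j) (h : Commute g (tt (ee i) * tt (ee j))) (hi : l ≠ i) (hj : l ≠ j) :
    g.1 (ee i) l = 0 := by
  have e : (tt (ee i) * tt (ee j) : OG (Qn n F)).1 (ee i) = -ee i := by
    ext m
    rw [OG.mul_app, tt_ee_app h2, tt_ee_app h2]
    by_cases a : m = i
    · simp [a, hij]
    · simp [a]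
  have h1 := congrArg (fun x : OG (Qn n F) => x.1 (ee i) l) h.eq
  simp only [OG.mul_app g, e, OG.mul_app _ g] at h1
  rw [map_neg, OG.mul_app, tt_ee_app h2, tt_ee_app h2, if_neg hi, if_neg hj, neg_neg, Pi.neg_apply] at h1
  have : 2 * g.1 (ee i) l = 0 := by linear_combination -h1
  exact (mul_eq_zero.1 this).resolve_left h2

theorem comm3 (hij : i ≠ j) (hik : i ≠ k) (hjk : j ≠ k) (h : Commute g (tt (ee i) * tt (ee j)))
    (h' : Commute g (tt (ee i) * tt (ee k))) : Commute g (tt (ee i)) :=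
  comm_of_supp h2 fun l hl => by
    by_cases a : l = j
    · exact zero_of_comm h2 hik h' hl (a ▸ hjk)
    · exact zero_of_comm h2 hij h hl a

theorem eq_one_of_odd (ho : Odd (orderOf g)) (h : ∀ l, l ≠ i → Commute g (tt (ee l))) : g = 1 :=
  have : Finite (OG (Qn n F)) := fin
  P4.eq_one_of_two_odd (k := 1) (by
    rw [pow_one, pow_two]
    exact sq_one h2 fun l => if e : l = i then e ▸ comm_last h2 h else h l e) ho

theorem tt_mem_Hs {T : Finset (Fin 7)} {u : Fin 7 → F} (hu : Qn 7 F u = 1) (h : ∀ i ∈ T, u i = 0) : tt u ∈ Hs F T :=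
  mem_Hs.2 ⟨tt_mem h2 hu, fun i hi => (tt_comm_iff h2 hu (Qn_ee i)).2 (Or.inr (Or.inr (by
    rw [OA.polar_ee, h i hi, mul_zero])))⟩

theorem pm_mem_Hs {T : Finset (Fin n)} {π : Equiv.Perm (Fin n)} (hs : Equiv.Perm.sign π = 1) (h : ∀ i ∈ T, π i = i) :
    pm F π ∈ Hs F T :=
  Fx_le_Hs T ⟨pm_mem h2 hs, fun i hi => by rw [pm_ee, h i hi]⟩

/-- The core of the stabiliser of four lines is trivial. -/
theorem core {T : Finset (Fin 7)} (hT : T.card = 3) {O : Subgroup (OG (Qn 7 F))} (hO : Odd (Nat.card O))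
    (h1 : O ≤ Hs F Tᶜ) (hn : Hs F Tᶜ ≤ normalizer (O : Set _)) : O = ⊥ := by
  have : Finite (OG (Qn 7 F)) := fin
  by_contra hne
  obtain ⟨-, -, A, hA, hn', h0, hc, -⟩ := GT.HT.exists_comm_pGroup_le_of_solvable O _ hn (S0205.result hO) hne
  have odd : ∀ x ∈ A, Odd (orderOf x) := fun x hx => hO.of_dvd_nat (orderOf_dvd_natCard _ (hA hx))
  have cm : ∀ x ∈ A, ∀ y ∈ A, x * y = y * x := fun x hx y hy =>
    congrArg Subtype.val (hc.is_comm.comm (⟨x, hx⟩ : A) ⟨y, hy⟩)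
  have out : ∀ x ∈ A, ∀ l ∉ T, Commute x (tt (ee l)) := fun x hx l hl =>
    (mem_Hs.1 (h1 (hA hx))).2 l (Finset.mem_compl.2 hl)
  have key : ∀ i j k : Fin 7, i ≠ j → i ≠ k → j ≠ k → T = {i, j, k} → ∀ x ∈ A, Commute x (tt (ee k)) → x = 1 := by
    intro i j k hij hik hjk e x hx ck
    have hl : ∀ l, l ≠ i → l ≠ j → l ≠ k → l ∉ T := fun l a b c => by simp [e, a, b, c]
    have c : ∀ l, l ≠ i → l ≠ j → Commute x (tt (ee l)) := fun l a b =>
      if d : l = k then d ▸ ck else out x hx l (hl l a b d)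
    by_cases t : x.1 (ee i) j = 0
    · have ci : Commute x (tt (ee i)) := comm_of_supp h2 fun l a =>
        if b : l = j then b ▸ t else coord_zero h2 (c l a b) a
      exact eq_one_of_odd h2 (i := j) (odd x hx) fun l b => if a : l = i then a ▸ ci else c l a b
    have hp : pm F (Equiv.swap i j * Equiv.swap j k) ∈ Hs F Tᶜ := pm_mem_Hs h2 (by simp [hij, hjk]) fun l m => by
      have : l ≠ i ∧ l ≠ j ∧ l ≠ k := by simpa [e] using m
      rw [Equiv.Perm.mul_apply, Equiv.swap_apply_of_ne_of_ne this.2.1 this.2.2,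
        Equiv.swap_apply_of_ne_of_ne this.1 this.2.1]
    have hy := (mem_normalizer_iff.1 (hn' hp) x).1 hx
    have ci := ck.map (MulAut.conj (pm F (Equiv.swap i j * Equiv.swap j k)))
    rw [MulAut.conj_apply, MulAut.conj_apply, pm_conj_tt, Equiv.Perm.mul_apply, Equiv.swap_apply_right,
      Equiv.swap_apply_right] at ci
    refine conj_eq_one_iff.1 (?_ : pm F (Equiv.swap i j * Equiv.swap j k) * x * _ = 1)
    generalize pm F (Equiv.swap i j * Equiv.swap j k) * x * (pm F (Equiv.swap i j * Equiv.swap j k))⁻¹ = y at hy ci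
    have fi := fix_of_odd h2 (odd y hy) ci
    have e1 : x.1 (ee i) = x.1 (ee i) i • ee i + x.1 (ee i) j • ee j := by
      ext l
      by_cases a : l = i
      · simp [a, hij]
      by_cases b : l = j
      · simp [b, hij.symm]
      · simp [a, b, coord_zero h2 (c l a b) a]
    have e2 : y.1 (x.1 (ee i)) = x.1 (ee i) := by rw [← OG.mul_app, ← cm x hx y hy, OG.mul_app, fi]
    rw [e1, map_add, map_smul, map_smul, fi, add_right_inj] at e2
    have cj : Commute y (tt (ee j)) := (comm_tt_iff h2 (Qn_ee j)).2 (Or.inl (smul_right_injective _ t e2))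
    exact eq_one_of_odd h2 (i := k) (odd y hy) fun l d =>
      if a : l = i then a ▸ ci else if b : l = j then b ▸ cj else out y hy l (hl l a b d)
  obtain ⟨i, j, k, hij, hik, hjk, e⟩ := Finset.card_eq_three.1 hT
  obtain ⟨⟨x, hx⟩, x1⟩ := ne_bot_iff_exists_ne_one.1 h0
  have inv : ∀ k, (∀ x ∈ A, Commute x (tt (ee k)) → x = 1) → ∀ x ∈ A, tt (ee k) * x * (tt (ee k))⁻¹ = x⁻¹ := by
    intro k hk x hx
    have m := (mem_normalizer_iff.1 (hn' (tt_ee_mem_Hs h2 k _)) x).1 hx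
    refine eq_inv_of_mul_eq_one_right (hk _ (mul_mem hx m) ?_)
    have e := cm x hx _ m
    have s := tt_sq (ee k : Fin 7 → F)
    have s' := inv_eq_of_mul_eq_one_right s
    change _ * _ = _ * _
    nth_rw 2 [e]
    rw [s']
    calc _ = x * tt (ee k) * x * (tt (ee k) * tt (ee k)) := by group
      _ = (tt (ee k) * tt (ee k)) * x * tt (ee k) * x := by rw [s]; group
      _ = _ := by group
  have ik := inv k (key i j k hij hik hjk e)
  have ij := inv j (key i k j hik hij hjk.symm (by rw [e, Finset.pair_comm]))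
  have ki := key j k i hjk hij.symm hik.symm (by rw [e]; ext; simp; tauto)
  have ii := inv i ki
  have c : ∀ j, (∀ x ∈ A, tt (ee j) * x * (tt (ee j))⁻¹ = x⁻¹) → Commute x (tt (ee i) * tt (ee j)) := fun j hj => by
    refine (mul_inv_eq_iff_eq_mul.1 ?_ : _ * x = x * _).symm
    calc _ = tt (ee i) * (tt (ee j) * x * (tt (ee j))⁻¹) * (tt (ee i))⁻¹ := by group
      _ = _ := by rw [hj x hx, ii _ (inv_mem hx), inv_inv]
  exact x1 (Subtype.ext (ki x hx (comm3 h2 hij hik hjk (c j ij) (c k ik))))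

end lin

variable (h : OC a ψ)
include h

theorem tm (i : Fin 7) : tt (ee i) ∈ H7 F := tt_ee_mem_Hs h.card.two_ne i _

theorem comm_iff {x y : OG (Qn 7 F)} (hx : x ∈ H7 F) (hy : y ∈ H7 F) : Commute (ψ x) (ψ y) ↔ Commute x y := by
  rw [commute_iff_eq, commute_iff_eq, ← h.mul _ hx _ hy, ← h.mul _ hy _ hx, h.eq_iff (mul_mem hx hy) (mul_mem hy hx)]

theorem act_iff {y : Y} {g : OG (Qn 7 F)} (hg : g ∈ H7 F) {σ : F ≃+* F}
    (e : ∀ x ∈ H7 F, y * ψ x * y⁻¹ = ψ (g * fr σ x * g⁻¹)) {x : OG (Qn 7 F)} (hx : x ∈ H7 F) :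
    Commute y (ψ x) ↔ g * fr σ x * g⁻¹ = x := by
  rw [commute_iff_eq, ← mul_inv_eq_iff_eq_mul, e x hx,
    h.eq_iff (mul_mem (mul_mem hg ((fr_mem_Hs σ).2 hx)) (inv_mem hg)) hx]

theorem act_lab {y : Y} {g : OG (Qn 7 F)} (hg : g ∈ H7 F) {σ : F ≃+* F}
    (e : ∀ x ∈ H7 F, y * ψ x * y⁻¹ = ψ (g * fr σ x * g⁻¹)) (i : Fin 7) : Commute y (a i) ↔ Commute g (tt (ee i)) := by
  rw [← h.lab, act_iff h hg e (tm h i), fr_tt, sv_ee, mul_inv_eq_iff_eq_mul, commute_iff_eq]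

theorem comm_lab {T : Finset (Fin 7)} (h6 : 6 ∈ T) {x : OG (Qn 7 F)} (hx : x ∈ Hs F T) {i : Fin 7} (hi : i ∈ T) :
    Commute (ψ x) (a i) := by
  rw [← h.lab, comm_iff h (Hs_anti (Finset.singleton_subset_iff.2 h6) hx) (tm h i)]
  exact (mem_Hs.1 hx).2 i hi

/-- The preimage of a subgroup. -/
def pre (M : Subgroup Y) : Subgroup (OG (Qn 7 F)) := (M.comap h.hom).map (H7 F).subtype

theorem mem_pre {M : Subgroup Y} {x : OG (Qn 7 F)} : x ∈ pre h M ↔ x ∈ H7 F ∧ ψ x ∈ M :=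
  ⟨by rintro ⟨x, hx, rfl⟩; exact ⟨x.2, hx⟩, fun k => ⟨⟨x, k.1⟩, k.2, rfl⟩⟩

end LocO

open LocO

theorem OC.p1 (h : OC a ψ) (J : Finset (Fin 7)) (h6 : 6 ∉ J) (hJ : 3 ≤ J.card) : ∀ x ∈ CJ a J, ∀ i, Commute x (a i) := by
  intro x hx i
  have k := mem_CJ.1 hx
  by_cases hi : i ∈ J
  swap
  · exact k.1 i hi
  obtain ⟨g, hg, σ, e⟩ := h.act x (k.1 6 h6)
  have c : ∀ j ∈ J, Commute g (tt (ee i) * tt (ee j)) := fun j hj => by
    have := k.2 i hi j hj
    rwa [← h.lab, ← h.lab, ← h.mul _ (tm h i) _ (tm h j), act_iff h hg e (mul_mem (tm h i) (tm h j)), map_mul, fr_tt,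
      fr_tt, sv_ee, sv_ee, mul_inv_eq_iff_eq_mul] at this
  obtain ⟨j, hj, l, hl, hjl⟩ := Finset.one_lt_card.1 (show 1 < (J.erase i).card by
    rw [Finset.card_erase_of_mem hi]; omega)
  exact (act_lab h hg e i).2 (comm3 h.card.two_ne (Finset.ne_of_mem_erase hj).symm (Finset.ne_of_mem_erase hl).symm hjl
    (c j (Finset.mem_of_mem_erase hj)) (c l (Finset.mem_of_mem_erase hl)))

theorem OC.p2 (h : OC a ψ) (T : Finset (Fin 7)) (h6 : 6 ∉ T) (hT : T.card = 3) (O : Subgroup Y) (hO : Odd (Nat.card O))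
    (h1 : O ≤ CT a T) (h2 : CT a T ≤ normalizer (O : Set Y)) : O = ⊥ := by
  have t2 := h.card.two_ne
  have h6' : 6 ∈ Tᶜ := Finset.mem_compl.2 h6
  have le : Hs F Tᶜ ≤ H7 F := Hs_anti (Finset.singleton_subset_iff.2 h6')
  have ct : ∀ x ∈ Hs F Tᶜ, ψ x ∈ CT a T := fun x hx =>
    mem_CT.2 fun i hi => comm_lab h h6' hx (Finset.mem_compl.2 hi)
  have : Finite (OG (Qn 7 F)) := fin
  have k := core t2 hT (O := pre h O ⊓ Hs F Tᶜ) (hO.of_dvd_nat ((card_dvd_of_le inf_le_left).trans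
    ((card_map_dvd _ _).trans (card_comap_dvd_of_injective _ _ h.hom_inj)))) inf_le_right fun g hg =>
      Loc.Mss.mem_norm_of_cj_le (Loc.Mss.cj_le_iff.2 fun x hx => by
        have m : g * x * g⁻¹ ∈ Hs F Tᶜ := mul_mem (mul_mem hg hx.2) (inv_mem hg)
        refine ⟨(mem_pre h).2 ⟨le m, ?_⟩, m⟩
        rw [h.conj (le hg) (le hx.2)]
        exact (mem_normalizer_iff.1 (h2 (ct g hg)) _).1 ((mem_pre h).1 hx.1).2)
  refine eq_bot_iff.2 fun x hx => ?_
  have c := mem_CT.1 (h1 hx)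
  obtain ⟨g, hg, σ, e⟩ := h.act x (c 6 h6)
  have hg' : g ∈ Hs F Tᶜ := mem_Hs.2 ⟨hg.1, fun i hi => (act_lab h hg e i).1 (c i (Finset.mem_compl.1 hi))⟩
  have k2 : ∀ y ∈ Hs F Tᶜ, g * fr σ y * g⁻¹ = y := fun y hy => by
    have m := mul_mem (mul_mem hg' ((fr_mem_Hs σ).2 hy)) (inv_mem hg')
    have m' := mul_mem m (inv_mem hy)
    refine mul_inv_eq_one.1 (mem_bot.1 (k.le ⟨(mem_pre h).2 ⟨le m', ?_⟩, m'⟩))
    rw [h.mul _ (le m) _ (le (inv_mem hy)), h.inv (le hy), ← e y (le hy), mul_assoc, mul_assoc, ← mul_assoc (ψ y)]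
    exact mul_mem hx ((mem_normalizer_iff.1 (h2 (ct y hy)) _).1 (inv_mem hx))
  obtain ⟨i, j, l, hij, hil, hjl, e'⟩ := Finset.card_eq_three.1 hT
  obtain rfl := fr_triv t2 hij hjl hil (g := g) (σ := σ) fun u hu hq => k2 _ (tt_mem_Hs t2 hq fun m hm => by
    have : m ≠ i ∧ m ≠ j ∧ m ≠ l := by simpa [e'] using hm
    exact hu m this.1 this.2.1 this.2.2)
  have gg := sq_one t2 (g := g) fun m => by
    have := k2 _ (tt_ee_mem_Hs t2 m _)
    rwa [fr_refl, mul_inv_eq_iff_eq_mul] at this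
  have k3 := h.cen (x * x) fun y hy => by
    refine mul_inv_eq_iff_eq_mul.1 ?_
    calc _ = x * (x * ψ y * x⁻¹) * x⁻¹ := by group
      _ = ψ (g * (g * y * g⁻¹) * g⁻¹) := by
        rw [e y hy, fr_refl, e _ (mul_mem (mul_mem hg hy) (inv_mem hg)), fr_refl]
      _ = ψ (g * g * y * (g * g)⁻¹) := congrArg ψ (by simp only [mul_inv_rev, mul_assoc])
      _ = _ := by rw [gg]; simp
  refine P4.eq_one_of_two_odd (k := 2) ?_ (hO.of_dvd_nat (orderOf_dvd_natCard _ hx))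
  rw [show x ^ 2 ^ 2 = x * x * (x * x) by simp [pow_succ, mul_assoc]]
  rcases k3 with e3 | e3 <;> rw [e3]
  · exact mul_one 1
  · rw [← h.lab, ← h.mul _ (tm h 6) _ (tm h 6), tt_sq, h.one]

theorem OC.p3 (h : OC a ψ) (M : Subgroup Y) (h1 : normalizer (EE a : Set Y) ⊓ Cen (a 6) ≤ M)
    (h2 : Cen (a 4) ⊓ Cen (a 5) ⊓ Cen (a 6) ≤ M) : Cen (a 6) ≤ M := by
  have t2 := h.card.two_ne
  have a1 : Hs F {4, 5, 6} ≤ pre h M := fun x hx => (mem_pre h).2 ⟨Hs_anti (by decide) hx, h2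
    ⟨⟨mem_Cen.2 (comm_lab h (by decide) hx (by decide)).symm, mem_Cen.2 (comm_lab h (by decide) hx (by decide)).symm⟩,
      mem_Cen.2 (comm_lab h (by decide) hx (by decide)).symm⟩⟩
  have a2 : ∀ (π : Equiv.Perm (Fin 7)) (T : Finset (Fin 7)), Equiv.Perm.sign π = 1 → π 6 = 6 → T = {π 4, π 5, 6} →
      Hs F T ≤ pre h M := by
    rintro π _ s e rfl x hx
    have m : pm F π ∈ H7 F := pm_mem_Hs t2 s (by simpa using e)
    have k : Acts a (ψ (pm F π)) π := fun i => by rw [← h.lab, ← h.lab, ← h.conj m (tm h i), pm_conj_tt]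
    have m' : pm F π ∈ pre h M := (mem_pre h).2 ⟨m, h1 ⟨k.mem_norm,
      mem_Cen.2 (comm_lab h (by decide) m (by decide)).symm⟩⟩
    have : (pm F π)⁻¹ * x * pm F π ∈ Hs F {4, 5, 6} := mem_Hs.2 ⟨mul_mem (mul_mem (inv_mem m.1) hx.1) m.1, fun i hi => by
      have := ((mem_Hs.1 hx).2 (π i) (by
        simp only [Finset.mem_insert, Finset.mem_singleton] at hi ⊢
        rcases hi with rfl | rfl | rfl <;> simp [e])).map (MulAut.conj (pm F π)⁻¹)
      rw [← pm_conj_tt] at this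
      simpa [mul_assoc] using this⟩
    simpa [mul_assoc] using mul_mem (mul_mem m' (a1 this)) (inv_mem m')
  have a3 : H7 F ≤ pre h M := H7_le t2 fun u u6 hu => by
    obtain ⟨g1, m1, e1, e1'⟩ := exists_kill t2 (T := {4, 5, 6}) (l := 0) (by decide) (by decide) u
    obtain ⟨g2, m2, e2, e2'⟩ := exists_kill t2 (T := {0, 2, 6}) (l := 1) (by decide) (by decide) (g1.1 u)
    have k1 := a1 (Fx_le_Hs _ m1)
    have k2 := a2 (Equiv.swap 0 4 * Equiv.swap 2 5) _ (by decide +kernel) (by decide) (by decide +kernel)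
      (Fx_le_Hs _ m2)
    have k3 := a2 (Equiv.swap 0 4 * Equiv.swap 1 5) _ (by decide +kernel) (by decide) (by decide +kernel)
      (tt_mem_Hs t2 (T := {0, 1, 6}) (u := g2.1 (g1.1 u)) (by rw [OG.map_app, OG.map_app, hu]) fun i hi => by
        simp only [Finset.mem_insert, Finset.mem_singleton] at hi
        rcases hi with rfl | rfl | rfl
        exacts [(e2' 0 (by decide)).trans e1, e2, (e2' 6 (by decide)).trans ((e1' 6 (by decide)).trans u6)])
    rw [← conj_tt, ← conj_tt] at k3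
    simpa [mul_assoc] using mul_mem (mul_mem (inv_mem (mul_mem k2 k1)) k3) (mul_mem k2 k1)
  intro y hy
  obtain ⟨g, hg, σ, e⟩ := h.act y (mem_Cen.1 hy).symm
  have c : ∀ i, (ψ g)⁻¹ * y ∈ Cen (a i) := fun i => by
    have := e _ (tm h i)
    rw [fr_tt, sv_ee, h.conj hg (tm h i), h.lab] at this
    refine mem_Cen.2 (?_ : _ * _ = _ * _)
    calc _ = (ψ g)⁻¹ * (ψ g * a i * (ψ g)⁻¹) * y := by group
      _ = _ := by rw [← this]; group
  simpa using mul_mem ((mem_pre h).1 (a3 hg)).2 (h2 ⟨⟨c 4, c 5⟩, c 6⟩)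

theorem OC.loc (h : OC a ψ) : Loc a :=
  ⟨fun J h6 _ hJ x hx _ => h.p1 J h6 (by omega) x hx, h.p2, h.p3⟩

/-- An element centralising `ψ (Hs T)`. -/
theorem OC.cen_Hs (h : OC a ψ) {T : Finset (Fin 7)} (h6 : 6 ∈ T) (hT : T.card ≤ 3) {c : Y}
    (hc : ∀ x ∈ Hs F T, Commute c (ψ x)) : c ∈ closure {y | ∃ i ∈ T, y = a i} := by
  have t2 := h.card.two_ne
  have le : Hs F T ≤ H7 F := Hs_anti (Finset.singleton_subset_iff.2 h6)
  obtain ⟨g, hg, σ, e⟩ := h.act c (h.lab 6 ▸ hc _ (tt_ee_mem_Hs t2 6 T))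
  have k : ∀ x ∈ Hs F T, g * fr σ x * g⁻¹ = x := fun x hx => (act_iff h hg e (le hx)).1 (hc x hx)
  obtain ⟨i, hi, j, hj, l, hl, hij, hil, hjl⟩ := Finset.two_lt_card.1 (show 2 < Tᶜ.card by
    rw [Finset.card_compl, Fintype.card_fin]; omega)
  rw [Finset.mem_compl] at hi hj hl
  obtain rfl := fr_triv t2 hij hjl hil (g := g) (σ := σ) fun u hu hq => k _ (tt_mem_Hs t2 hq fun m hm =>
    hu m (fun a => hi (a ▸ hm)) (fun a => hj (a ▸ hm)) fun a => hl (a ▸ hm))
  have k2 := O7.cen_Hs t2 hT hg.1 fun x hx => by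
    have := k x hx
    rwa [fr_refl, mul_inv_eq_iff_eq_mul] at this
  have k3 : closure {x | ∃ i ∈ T, x = tt (ee i)} ≤ pre h (closure {y | ∃ i ∈ T, y = a i}) := (closure_le _).2 (by
    rintro _ ⟨i, hi, rfl⟩
    exact (mem_pre h).2 ⟨tm h i, subset_closure ⟨i, hi, h.lab i⟩⟩)
  have k4 := h.cen ((ψ g)⁻¹ * c) fun x hx => by
    have := e x hx
    rw [fr_refl, h.conj hg hx] at this
    change _ * _ = _ * _
    calc _ = (ψ g)⁻¹ * (c * ψ x * c⁻¹) * c := by group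
      _ = _ := by rw [this]; group
  rw [← mul_inv_cancel_left (ψ g) c]
  refine mul_mem ((mem_pre h).1 (k3 k2)).2 ?_
  rcases k4 with e4 | e4 <;> rw [e4]
  exacts [one_mem _, subset_closure ⟨6, h6, rfl⟩]

end Cfsg.Agent.O7
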