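import Mathlib
import Cfsg.Agent.O7.Aut5
import Cfsg.Agent.O7.LocO
import Cfsg.Agent.O7.LabG
import Cfsg.Agent.Cl.AutField

/-! The element reversing an edge -/

set_option autoImplicit false
set_option linter.unusedSectionVars false

namespace Cfsg.Agent.O7

open Subgroup Cfsg.Agent.Cl QuadraticMap Cfsg.Agent.GW
open scoped commutatorElement

universe u

variable {F : Type} [Field F] [Fintype F] {n : ℕ}

variable {G : Type u} [Group G] [Finite G] {a : Fin 7 → G} {S : Subgroup G} {ψ : OG (Qn 7 F) → G}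

namespace R3

/-- `y` acts on `ψ B` as `k` times the field automorphism `σ`. -/
def Ac (ψ : OG (Qn 7 F) → G) (B : Subgroup (OG (Qn 7 F))) (y : G) (k : OG (Qn 7 F)) (σ : RingAut F) : Prop :=
  ∀ x ∈ B, y * ψ x * y⁻¹ = ψ (k * fr σ x * k⁻¹)

theorem Ac.mul {B : Subgroup (OG (Qn 7 F))} {y y' : G} {k k' : OG (Qn 7 F)} {σ σ' : RingAut F} (h : Ac ψ B y k σ)
    (h' : Ac ψ B y' k' σ') (hB : ∀ x ∈ B, k' * fr σ' x * k'⁻¹ ∈ B) : Ac ψ B (y * y') (k * fr σ k') (σ * σ') :=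
  fun x hx => by
    rw [show y * y' * ψ x * (y * y')⁻¹ = y * (y' * ψ x * y'⁻¹) * y⁻¹ by group, h' x hx, h _ (hB x hx), map_mul,
      map_mul, map_inv, fr_fr]
    exact congrArg ψ (by simp only [mul_inv_rev, mul_assoc]; rfl)

theorem le7 : Hs F ({5, 6} : Finset (Fin 7)) ≤ H7 F := Hs_anti (by decide)

theorem conj7 {k x : OG (Qn 7 F)} (hk : k ∈ H7 F) (σ : RingAut F) (hx : x ∈ H7 F) : k * fr σ x * k⁻¹ ∈ H7 F :=
  mul_mem (mul_mem hk ((fr_mem_Hs σ).2 hx)) (inv_mem hk)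

theorem br_mem (h2 : (2 : F) ≠ 0) {T : Finset (Fin n)} {x y : OG (Qn n F)} (hx : x ∈ Hs F T) (hy : y ∈ Hs F T) :
    ⁅x, y⁆ ∈ Fx F T := by
  refine ⟨commutator_mem_commutator (mem_top _) (mem_top _), fun i hi => ?_⟩
  have h1 := (comm_tt_iff h2 (Qn_ee i)).1 ((mem_Hs.1 (inv_mem hx)).2 i hi)
  have h3 := (comm_tt_iff h2 (Qn_ee i)).1 ((mem_Hs.1 (inv_mem hy)).2 i hi)
  rw [← inv_inv x, ← inv_inv y]
  generalize x⁻¹ = x at h1
  generalize y⁻¹ = y at h3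
  rw [show ⁅x⁻¹, y⁻¹⁆ = (y * x)⁻¹ * (x * y) by group, OG.mul_app, OG.inv_app_eq_iff, OG.mul_app, OG.mul_app]
  rcases h1 with h1 | h1 <;> rcases h3 with h3 | h3 <;> simp [h1, h3]

theorem sw_conj (h2 : (2 : F) ≠ 0) {x : OG (Qn 7 F)} (hx : x ∈ Fx F ({5, 6} : Finset (Fin 7))) :
    sw F 0 1 * x * sw F 0 1 ∈ Fx F ({5, 6} : Finset (Fin 7)) := by
  have h1 : ∀ i ∈ ({5, 6} : Finset (Fin 7)), (sw F 0 1).1 (ee i) = ee i := fun i hi => by
    rw [sw_eq h2 (by decide), pm_ee, show Equiv.swap 0 1 i = i by revert i; decide]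
  refine ⟨?_, fun i hi => by rw [OG.mul_app, OG.mul_app, h1 i hi, hx.2 i hi, h1 i hi]⟩
  have := Normal.conj_mem (H := Om 7 F) inferInstance _ hx.1 (sw F 0 1)
  rwa [orefl_inv] at this

/-- `Fx {5,6}` extended by the reflection interchanging the first two basis vectors. -/
def NN (h2 : (2 : F) ≠ 0) : Subgroup (OG (Qn 7 F)) where
  carrier := {k | k ∈ Fx F ({5, 6} : Finset (Fin 7)) ∨ sw F 0 1 * k ∈ Fx F ({5, 6} : Finset (Fin 7))}
  one_mem' := .inl (one_mem _)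
  mul_mem' := by
    have s2 : sw F (0 : Fin 7) 1 * sw F 0 1 = 1 := orefl_mul_self _
    rintro x y (hx | hx) (hy | hy)
    · exact .inl (mul_mem hx hy)
    · refine .inr ?_
      have := mul_mem (sw_conj h2 hx) hy
      rwa [mul_assoc, ← mul_assoc _ _ y, s2, one_mul, mul_assoc] at this
    · exact .inr (mul_assoc _ x y ▸ mul_mem hx hy)
    · refine .inl ?_
      have := mul_mem (sw_conj h2 hx) hy
      rwa [mul_assoc, ← mul_assoc _ _ y, s2, one_mul, ← mul_assoc, s2, one_mul] at this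
  inv_mem' := by
    rintro x (hx | hx)
    · exact .inl (inv_mem hx)
    · refine .inr ?_
      have := sw_conj h2 (inv_mem hx)
      rwa [mul_inv_rev, ← mul_assoc, inv_mul_cancel_right] at this

theorem fr_NN (h2 : (2 : F) ≠ 0) (σ : RingAut F) {k : OG (Qn 7 F)} (hk : k ∈ NN h2) : fr σ k ∈ NN h2 :=
  hk.imp (fr_mem_Fx σ).2 fun h => by
    have := (fr_mem_Fx σ).2 h
    rwa [map_mul, sw_eq h2 (by decide), fr_pm, ← sw_eq h2 (by decide)] at this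

theorem conj_NN (h2 : (2 : F) ≠ 0) {k x : OG (Qn 7 F)} (hk : k ∈ NN h2) (hx : x ∈ Fx F ({5, 6} : Finset (Fin 7))) :
    k * x * k⁻¹ ∈ Fx F ({5, 6} : Finset (Fin 7)) := by
  rcases hk with hk | hk
  · exact mul_mem (mul_mem hk hx) (inv_mem hk)
  · have := sw_conj h2 (mul_mem (mul_mem hk hx) (inv_mem hk))
    rwa [mul_inv_rev, ← mul_assoc, ← mul_assoc, ← mul_assoc, ← mul_assoc, inv_mul_cancel_right, orefl_mul_self,
      one_mul] at this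

variable (h : OC a ψ)
include h

theorem comm56 {x : OG (Qn 7 F)} (hx : x ∈ Hs F ({5, 6} : Finset (Fin 7))) {i : Fin 7}
    (hi : i ∈ ({5, 6} : Finset (Fin 7))) : Commute (ψ x) (a i) := by
  have t := tt_ee_mem_Hs h.card.two_ne i {6}
  rw [← h.lab, Commute, SemiconjBy, ← h.mul _ (le7 hx) _ t, ((mem_Hs.1 hx).2 i hi).eq, h.mul _ t _ (le7 hx)]

theorem br_C {c c' : G} (h5 : Commute c (a 5)) (h6 : Commute c (a 6)) (h5' : Commute c' (a 5))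
    (h6' : Commute c' (a 6)) : ∃ k ∈ Hs F ({5, 6} : Finset (Fin 7)), ψ k = ⁅c, c'⁆ := by
  have t := fun i => tt_ee_mem_Hs h.card.two_ne i ({6} : Finset (Fin 7))
  obtain ⟨k, hk, σ, e⟩ := h.act c h6
  obtain ⟨k', hk', σ', e'⟩ := h.act c' h6'
  have e1 := Ac.mul e e' fun x => conj7 hk' σ'
  have e2 := Ac.mul e' e fun x => conj7 hk σ
  have m1 : k * fr σ k' ∈ H7 F := mul_mem hk ((fr_mem_Hs σ).2 hk')
  have m2 : k' * fr σ' k ∈ H7 F := mul_mem hk' ((fr_mem_Hs σ').2 hk)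
  rw [Aut.ringAut_comm] at e1
  generalize k * fr σ k' = k1 at e1 m1
  generalize k' * fr σ' k = k2 at e2 m2
  have m3 := mul_mem m1 (inv_mem m2)
  have e3 := h.cen ((c' * c)⁻¹ * (ψ (k1 * k2⁻¹))⁻¹ * (c * c')) fun x hx => by
    have e4 := h.conj m3 (conj7 m2 (σ' * σ) hx)
    rw [← e2 x hx, show k1 * k2⁻¹ * (k2 * fr (σ' * σ) x * k2⁻¹) * (k1 * k2⁻¹)⁻¹ = k1 * fr (σ' * σ) x * k1⁻¹ by group,
      ← e1 x hx] at e4
    rw [Commute, SemiconjBy, ← mul_inv_eq_iff_eq_mul, show (c' * c)⁻¹ * (ψ (k1 * k2⁻¹))⁻¹ * (c * c') * ψ x *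
      ((c' * c)⁻¹ * (ψ (k1 * k2⁻¹))⁻¹ * (c * c'))⁻¹ = (c' * c)⁻¹ * (ψ (k1 * k2⁻¹))⁻¹ * (c * c' * ψ x * (c * c')⁻¹) *
      ψ (k1 * k2⁻¹) * (c' * c) by group, e4]
    group
  obtain ⟨l, hl, e5⟩ : ∃ l ∈ H7 F, ψ l = ⁅c, c'⁆ := by
    have e6 : ⁅c, c'⁆ = ψ (k1 * k2⁻¹) * (c' * c * ((c' * c)⁻¹ * (ψ (k1 * k2⁻¹))⁻¹ * (c * c')) * (c' * c)⁻¹) := by
      group
    rcases e3 with e3 | e3 <;> rw [e3] at e6
    · exact ⟨_, m3, by rw [e6, mul_one, mul_inv_cancel, mul_one]⟩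
    · exact ⟨_, mul_mem m3 (t 6), by rw [e6, (h6'.mul_left h6).eq, mul_inv_cancel_right, h.mul _ m3 _ (t 6), h.lab]⟩
  refine ⟨l, mem_Hs.2 ⟨hl.1, fun i hi => (h.eq_iff (mul_mem hl (t i)) (mul_mem (t i) hl)).1 ?_⟩, e5⟩
  rw [h.mul _ hl _ (t i), h.mul _ (t i) _ hl, h.lab, e5]
  rcases Finset.mem_insert.1 hi with rfl | hi
  · exact ((h5.mul_left h5').mul_left h5.inv_left).mul_left h5'.inv_left
  · rw [Finset.mem_singleton.1 hi]
    exact ((h6.mul_left h6').mul_left h6.inv_left).mul_left h6'.inv_left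

/-- An element interchanging `a 5` and `a 6` acts on `ψ (Fx {5,6})`. -/
theorem exists_ac {y : G} (h5 : y * a 5 * y⁻¹ = a 6) (h6 : y * a 6 * y⁻¹ = a 5) :
    ∃ k ∈ NN h.card.two_ne, ∃ σ, Ac ψ (Fx F {5, 6}) y k σ := by
  let f : Fx F ({5, 6} : Finset (Fin 7)) →* G := h.hom.comp (inclusion ((Fx_le_Hs _).trans le7))
  have hf : Function.Injective f := h.hom_inj.comp (inclusion_injective _)
  let C : Subgroup G := Cen (a 5) ⊓ Cen (a 6)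
  have a1 : f.range ≤ C := by
    rintro _ ⟨x, rfl⟩
    exact ⟨mem_Cen.2 (comm56 h (Fx_le_Hs _ x.2) (by decide)).symm, mem_Cen.2 (comm56 h (Fx_le_Hs _ x.2) (by decide)).symm⟩
  have a2 : ⁅f.range, f.range⁆ = f.range := by
    rw [MonoidHom.range_eq_map, ← map_commutator, ← commutator_def,
      (Subgroup.isPerfect_iff.2 (perf5 h.card.two_ne)).commutator_eq_top]
  have a3 : ⁅C, C⁆ ≤ (h.hom.comp (inclusion le7)).range := commutator_le.2 fun c hc c' hc' => by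
    obtain ⟨k, hk, e⟩ := br_C h (mem_Cen.1 hc.1).symm (mem_Cen.1 hc.2).symm (mem_Cen.1 hc'.1).symm
      (mem_Cen.1 hc'.2).symm
    exact ⟨⟨k, hk⟩, e⟩
  have a4 : ⁅⁅C, C⁆, ⁅C, C⁆⁆ = f.range := le_antisymm (commutator_le.2 fun c hc c' hc' => by
      obtain ⟨k, rfl⟩ := a3 hc
      obtain ⟨k', rfl⟩ := a3 hc'
      exact ⟨⟨_, br_mem h.card.two_ne k.2 k'.2⟩, map_commutatorElement (h.hom.comp (inclusion le7)) k k'⟩)
    (by rw [← a2, ← a2]; exact commutator_mono (commutator_mono (a2 ▸ a1) (a2 ▸ a1)) (commutator_mono (a2 ▸ a1) (a2 ▸ a1)))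
  have a5 : C.map (MulAut.conj y).toMonoidHom ≤ C := by
    rintro _ ⟨c, hc, rfl⟩
    exact ⟨mem_Cen.2 (h6 ▸ (mem_Cen.1 hc.2).map (MulAut.conj y)), mem_Cen.2 (h5 ▸ (mem_Cen.1 hc.1).map (MulAut.conj y))⟩
  have a6 : y ∈ normalizer (f.range : Set G) := Inv.Fz.mem_normalizer_of_conj_mem fun x hx => by
    have : f.range.map (MulAut.conj y).toMonoidHom ≤ f.range := by
      rw [← a4, map_commutator, map_commutator]
      exact commutator_mono (commutator_mono a5 a5) (commutator_mono a5 a5)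
    exact this ⟨x, hx, rfl⟩
  let e := MonoidHom.ofInjective hf
  obtain ⟨σ, k, hk, e1⟩ := aut5 h.card (e.trans ((f.range.normalizerMonoidHom ⟨y, a6⟩).trans e.symm))
  refine ⟨k, hk, σ, fun x hx => ?_⟩
  rw [← e1 ⟨x, hx⟩]
  exact (congrArg Subtype.val (e.apply_symm_apply (f.range.normalizerMonoidHom ⟨y, a6⟩ (e ⟨x, hx⟩)))).symm

theorem ac_pow {y : G} {k : OG (Qn 7 F)} (hk : k ∈ NN h.card.two_ne) {σ : RingAut F} (e : Ac ψ (Fx F {5, 6}) y k σ)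
    (m : ℕ) : ∃ k ∈ NN h.card.two_ne, Ac ψ (Fx F {5, 6}) (y ^ m) k (σ ^ m) := by
  induction m with
  | zero => exact ⟨1, one_mem _, fun x _ => by rw [pow_zero, pow_zero, RingAut.one_eq_refl, fr_refl]; simp⟩
  | succ m ih =>
    obtain ⟨k', hk', e'⟩ := ih
    rw [pow_succ', pow_succ']
    exact ⟨_, mul_mem hk (fr_NN _ σ hk'), e.mul e' fun x hx => conj_NN _ hk' ((fr_mem_Fx _).2 hx)⟩

end R3

open R3 in
theorem OC.exists_rev (h : OC a ψ) (g : Gl0 a S) :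
    ∃ n : G, n * n = 1 ∧ ∀ x ∈ Hs F {5, 6}, n * ψ x * n⁻¹ = ψ (τ7 F * x * (τ7 F)⁻¹) := by
  have h2 := h.card.two_ne
  have t := fun i T => tt_ee_mem_Hs h2 i T
  have x7 : ∀ {x}, x ∈ Fx F ({5, 6} : Finset (Fin 7)) → x ∈ H7 F := fun hx => le7 (Fx_le_Hs _ hx)
  obtain ⟨y, k, hk, y5, y6, e⟩ : ∃ y, ∃ k ∈ NN h2, y * a 5 * y⁻¹ = a 6 ∧ y * a 6 * y⁻¹ = a 5 ∧
      ∀ x ∈ Fx F ({5, 6} : Finset (Fin 7)), y * ψ x * y⁻¹ = ψ (k * x * k⁻¹) := by
    obtain ⟨y, π, hy, e5, e6⟩ := g.tr2 5 6 6 5 (by decide) (by decide)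
    obtain ⟨k, hk, σ, e⟩ := exists_ac h (e5 ▸ hy 5) (e6 ▸ hy 6)
    obtain ⟨k', hk', e'⟩ := ac_pow h hk e (orderOf σ)
    rw [pow_orderOf_eq_one] at e'
    obtain ⟨r, hr⟩ := h.card.aut_odd σ
    have p : ∀ i j, π i = j → π j = i → (π ^ orderOf σ) i = j := fun i j a b => by
      rw [hr, pow_succ', pow_mul, Equiv.Perm.mul_apply, Equiv.Perm.pow_apply_eq_self_of_apply_eq_self
        (by rw [pow_two, Equiv.Perm.mul_apply, a, b]), a]
    exact ⟨_, k', hk', p 5 6 e5 e6 ▸ hy.pow _ 5, p 6 5 e6 e5 ▸ hy.pow _ 6, fun x hx => by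
      rw [e' x hx, RingAut.one_eq_refl, fr_refl]⟩
  rcases hk with hk | hk
  · exfalso
    have cj : ∀ x, (ψ k)⁻¹ * y * x * ((ψ k)⁻¹ * y)⁻¹ = (ψ k)⁻¹ * (y * x * y⁻¹) * ψ k := fun x => by group
    have c1 : ∀ i j : Fin 7, i ∉ ({5, 6} : Finset (Fin 7)) → j ∉ ({5, 6} : Finset (Fin 7)) →
        (ψ k)⁻¹ * y * (a i * a j) * ((ψ k)⁻¹ * y)⁻¹ = a i * a j := fun i j hi hj => by
      have m : tt (ee i) * tt (ee j) ∈ Fx F ({5, 6} : Finset (Fin 7)) := ⟨mul_mem (t i ∅).1 (t j ∅).1, fun l hl => by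
        have b1 : l ≠ i := fun e => hi (e ▸ hl)
        have b2 : l ≠ j := fun e => hj (e ▸ hl)
        ext r
        rw [OG.mul_app, tt_ee_app h2, tt_ee_app h2]
        by_cases b : r = l
        · simp [b, b1, b2]
        · simp [b]⟩
      rw [cj, ← h.lab, ← h.lab, ← h.mul _ (t _ _) _ (t _ _), e _ m, h.conj (x7 hk) (x7 m)]
      group
    have c5 : (ψ k)⁻¹ * y * a 5 * ((ψ k)⁻¹ * y)⁻¹ = a 6 := by
      rw [cj, y5, (comm56 h (Fx_le_Hs _ hk) (by decide)).inv_left.eq, inv_mul_cancel_right]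
    have c6 : (ψ k)⁻¹ * y * a 6 * ((ψ k)⁻¹ * y)⁻¹ = a 5 := by
      rw [cj, y6, (comm56 h (Fx_le_Hs _ hk) (by decide)).inv_left.eq, inv_mul_cancel_right]
    generalize (ψ k)⁻¹ * y = w at c1 c5 c6
    have e0 : a 0 = a 1 * a 2 * (a 3 * a 4) * (a 5 * a 6) := by
      rw [← g.lab.pr_pair (by decide), ← g.lab.pr_pair (by decide), ← g.lab.pr_pair (by decide), g.lab.pr_mul,
        g.lab.pr_mul, ← pr_single (a := a) 0, g.lab.pr_eq_iff]
      decide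
    have c0 : w * a 0 * w⁻¹ = a 0 := by
      rw [e0, ← conj_mul, ← conj_mul, ← conj_mul (a := a 5), c1 1 2 (by decide) (by decide),
        c1 3 4 (by decide) (by decide), c5, c6, (g.lab.comm 6 5).eq]
    have c2 : ∀ i : Fin 7, i ∉ ({5, 6} : Finset (Fin 7)) → w * a i * w⁻¹ = a i := fun i hi => by
      have := c1 0 i (by decide) hi
      rwa [← conj_mul, c0, mul_right_inj] at this
    have : Acts a w (Equiv.swap 5 6) := fun i => by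
      fin_cases i
      exacts [c2 _ (by decide), c2 _ (by decide), c2 _ (by decide), c2 _ (by decide), c2 _ (by decide), c5, c6]
    exact absurd (g.even this) (by decide)
  have cj : ∀ x, y * (ψ (sw F 0 1 * k))⁻¹ * x * (y * (ψ (sw F 0 1 * k))⁻¹)⁻¹ =
      y * ((ψ (sw F 0 1 * k))⁻¹ * x * ψ (sw F 0 1 * k)) * y⁻¹ := fun x => by group
  have c5 : y * (ψ (sw F 0 1 * k))⁻¹ * a 5 * (y * (ψ (sw F 0 1 * k))⁻¹)⁻¹ = a 6 := by
    rw [cj, (comm56 h (Fx_le_Hs _ hk) (by decide)).inv_left.eq, inv_mul_cancel_right, y5]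
  have c6 : y * (ψ (sw F 0 1 * k))⁻¹ * a 6 * (y * (ψ (sw F 0 1 * k))⁻¹)⁻¹ = a 5 := by
    rw [cj, (comm56 h (Fx_le_Hs _ hk) (by decide)).inv_left.eq, inv_mul_cancel_right, y6]
  have c1 : ∀ x ∈ Fx F ({5, 6} : Finset (Fin 7)), y * (ψ (sw F 0 1 * k))⁻¹ * ψ x * (y * (ψ (sw F 0 1 * k))⁻¹)⁻¹ =
      ψ (τ7 F * x * (τ7 F)⁻¹) := fun x hx => by
    have e1 := h.conj (x7 (inv_mem hk)) (x7 hx)
    rw [h.inv (x7 hk), inv_inv (ψ _)] at e1
    have e2 : x * sw F 5 6 * x⁻¹ = sw F 5 6 := by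
      rw [conj_orefl, map_sub, hx.2 5 (by decide), hx.2 6 (by decide)]
    rw [cj, ← e1, e _ (mul_mem (mul_mem (inv_mem hk) hx) (inv_mem (inv_mem hk))), τ7, map_mul,
      ← sw_eq h2 (by decide), ← sw_eq h2 (by decide), mul_assoc (sw F 0 1), mul_assoc (sw F 0 1),
      ← mul_inv_eq_iff_eq_mul.1 e2]
    congr 1
    rw [show k * ((sw F 0 1 * k)⁻¹ * x * (sw F 0 1 * k)⁻¹⁻¹) * k⁻¹ = (sw F 0 1)⁻¹ * x * (sw F 0 1)⁻¹⁻¹ by group,
      orefl_inv]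
    group
  generalize y * (ψ (sw F 0 1 * k))⁻¹ = w at c1 c5 c6
  have τ2 : τ7 F * τ7 F = 1 := by rw [← map_mul, show _ * _ = (1 : Equiv.Perm (Fin 7)) by decide, map_one]
  have τn : ∀ x ∈ Hs F ({5, 6} : Finset (Fin 7)), τ7 F * x * (τ7 F)⁻¹ ∈ Hs F ({5, 6} : Finset (Fin 7)) :=
    fun x hx => mem_Hs.2 ⟨Normal.conj_mem inferInstance _ hx.1 _, fun i hi => by
      have := ((mem_Hs.1 hx).2 (Equiv.swap 5 6 i) (by revert i; decide)).map (MulAut.conj (τ7 F))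
      rwa [MulAut.conj_apply, MulAut.conj_apply, pm_conj_tt, show (Equiv.swap 0 1 * Equiv.swap 5 6 : Equiv.Perm (Fin 7))
        (Equiv.swap 5 6 i) = i by clear this; revert i; decide] at this⟩
  let M : Subgroup (OG (Qn 7 F)) :=
    { carrier := {x | x ∈ Hs F ({5, 6} : Finset (Fin 7)) ∧ w * ψ x * w⁻¹ = ψ (τ7 F * x * (τ7 F)⁻¹)}
      one_mem' := ⟨one_mem _, by simp [h.one]⟩
      mul_mem' := fun {x x'} b b' => ⟨mul_mem b.1 b'.1, by
        rw [h.mul _ (le7 b.1) _ (le7 b'.1), ← conj_mul, b.2, b'.2, ← h.mul _ (le7 (τn _ b.1)) _ (le7 (τn _ b'.1)),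
          conj_mul]⟩
      inv_mem' := fun {x} b => ⟨inv_mem b.1, by
        rw [h.inv (le7 b.1), ← conj_inv, b.2, ← h.inv (le7 (τn _ b.1)), conj_inv]⟩ }
  have m5 : tt (ee 5) ∈ M := ⟨t _ _, by rw [pm_conj_tt, h.lab, h.lab, c5]; rfl⟩
  have m6 : tt (ee 6) ∈ M := ⟨t _ _, by rw [pm_conj_tt, h.lab, h.lab, c6]; rfl⟩
  have mF : Fx F ({5, 6} : Finset (Fin 7)) ≤ M := fun x hx => ⟨Fx_le_Hs _ hx, c1 x hx⟩
  have c2 : ∀ x ∈ Hs F ({5, 6} : Finset (Fin 7)), w * ψ x * w⁻¹ = ψ (τ7 F * x * (τ7 F)⁻¹) := fun x hx => by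
    rcases mem_H56 h2 hx with b | b | b | b
    exacts [(mF b).2, ((M.mul_mem_cancel_left m5).1 (mF b)).2, ((M.mul_mem_cancel_left m6).1 (mF b)).2,
      ((M.mul_mem_cancel_left (mul_mem m5 m6)).1 (mF b)).2]
  have c3 := h.cen_Hs (T := {5, 6}) (by decide) (by decide) (c := w * w) fun x hx => by
    rw [Commute, SemiconjBy, ← mul_inv_eq_iff_eq_mul, show w * w * ψ x * (w * w)⁻¹ = w * (w * ψ x * w⁻¹) * w⁻¹ by group,
      c2 x hx, c2 _ (τn x hx), show τ7 F * (τ7 F * x * (τ7 F)⁻¹) * (τ7 F)⁻¹ = τ7 F * τ7 F * x * (τ7 F * τ7 F)⁻¹ by group,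
      τ2, one_mul, inv_one, mul_one]
  obtain ⟨J, hJ, eJ⟩ : ∃ J ⊆ ({5, 6} : Finset (Fin 7)), w * w = pr a J := by
    refine closure_induction (p := fun c _ => ∃ J ⊆ ({5, 6} : Finset (Fin 7)), c = pr a J) ?_
      ⟨∅, Finset.empty_subset _, pr_empty.symm⟩ ?_ ?_ c3
    · rintro _ ⟨i, hi, rfl⟩
      exact ⟨{i}, Finset.singleton_subset_iff.2 hi, (pr_single i).symm⟩
    · rintro _ _ - - ⟨I, hI, rfl⟩ ⟨J, hJ, rfl⟩
      exact ⟨_, symmDiff_le_sup.trans (sup_le hI hJ), g.lab.pr_mul I J⟩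
    · rintro _ - ⟨I, hI, rfl⟩
      exact ⟨I, hI, inv_eq_of_mul_eq_one_right (g.lab.pr_sq I)⟩
  have ne : a 5 ≠ a 6 := fun e => absurd (g.lab.inj e) (by decide)
  have ww : w * (w * w) * w⁻¹ = w * w := by group
  obtain rfl | rfl | rfl | rfl : J = ∅ ∨ J = {5} ∨ J = {6} ∨ J = {5, 6} := by clear eJ; revert J; decide
  · exact ⟨w, eJ.trans pr_empty, c2⟩
  · rw [eJ, pr_single, c5] at ww
    exact absurd ww.symm ne
  · rw [eJ, pr_single, c6] at ww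
    exact absurd ww ne
  · refine ⟨w * a 5, ?_, fun x hx => ?_⟩
    · rw [show w * a 5 * (w * a 5) = w * a 5 * w⁻¹ * (w * w) * a 5 by group, c5, eJ, g.lab.pr_pair (by decide),
        (g.lab.comm 5 6).eq, ← mul_assoc, g.lab.sq, one_mul, g.lab.sq]
    · rw [← c2 x hx, mul_assoc w, ← (comm56 h hx (by decide)).eq]
      group

end Cfsg.Agent.O7
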