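import Mathlib
import Cfsg.Agent.O7.LocO
import Cfsg.Agent.O7.LabG

/-! The triangle relation (PLAN: R4) -/

set_option autoImplicit false
set_option linter.unusedSectionVars false

namespace Cfsg.Agent.O7

open Subgroup Cfsg.Agent.Cl QuadraticMap Cfsg.Agent.GW
open scoped commutatorElement

universe u

variable {F : Type} [Field F] [Fintype F] {n : ℕ}

variable {G : Type u} [Group G] [Finite G] {a : Fin 7 → G} {S : Subgroup G} {ψ : OG (Qn 7 F) → G}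

theorem r4_pm_mem (h2 : (2 : F) ≠ 0) {σ : Equiv.Perm (Fin n)} (hs : Equiv.Perm.sign σ = 1) {T : Finset (Fin n)}
    (h : ∀ i ∈ T, σ i = i) : pm F σ ∈ Hs F T :=
  Fx_le_Hs T (mem_Fx.2 ⟨pm_mem h2 hs, fun i hi => by rw [pm_ee, h i hi]⟩)

theorem r4_conj_mem {σ : Equiv.Perm (Fin n)} {T : Finset (Fin n)} (hT : ∀ i ∈ T, σ⁻¹ i ∈ T) {x : OG (Qn n F)}
    (hx : x ∈ Hs F T) : pm F σ * x * (pm F σ)⁻¹ ∈ Hs F T := by
  refine mem_Hs.2 ⟨Normal.conj_mem inferInstance _ (mem_Hs.1 hx).1 _, fun i hi => ?_⟩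
  have e := pm_conj_tt (F := F) σ (σ⁻¹ i)
  rw [show σ (σ⁻¹ i) = i from σ.apply_symm_apply i] at e
  rw [← e]
  exact ((mem_Hs.1 hx).2 _ (hT i hi)).conj _

theorem OC.r4_acts (h : OC a ψ) {σ : Equiv.Perm (Fin 7)} (hs : Equiv.Perm.sign σ = 1) (h6 : σ 6 = 6) :
    Acts a (ψ (pm F σ)) σ := by
  intro i
  have h2 := h.card.two_ne
  rw [← h.lab i, ← h.conj (r4_pm_mem h2 hs (by simpa using h6)) (tt_ee_mem_Hs h2 i _), pm_conj_tt, h.lab]

/-- The first auxiliary unit vector. -/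
def r4u (F : Type) [Field F] : Fin 7 → F := ![2⁻¹, 2⁻¹, 0, 0, 2⁻¹, -2⁻¹, 0]

/-- The second auxiliary unit vector. -/
def r4v (F : Type) [Field F] : Fin 7 → F := ![2⁻¹, 2⁻¹, 0, 0, -2⁻¹, 2⁻¹, 0]

theorem r4_Qu (h2 : (2 : F) ≠ 0) : Qn 7 F (r4u F) = 1 := by
  rw [Qn_apply, Fin.sum_univ_seven]
  simp [r4u]
  field_simp
  ring

theorem r4_Qv (h2 : (2 : F) ≠ 0) : Qn 7 F (r4v F) = 1 := by
  rw [Qn_apply, Fin.sum_univ_seven]
  simp [r4v]
  field_simp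
  ring

theorem r4_uv : polar (Qn 7 F) (r4u F) (r4v F) = 0 := by
  rw [Qn_polar, Fin.sum_univ_seven]
  simp [r4u, r4v]

theorem r4_eta (h2 : (2 : F) ≠ 0) : tt (ee 0) * tt (ee 1) * η7 F = tt (r4u F) * tt (r4v F) := by
  rw [tt_mul_tt, tt_mul_tt]
  refine OG.ext fun v => funext fun j => ?_
  rw [OG.mul_app, OG.mul_app, OG.mul_app, rr_app h2, rr_app h2, orefl_app (r4u F), orefl_app (r4v F),
    r4_Qu h2, r4_Qv h2, Qn_polar, Qn_polar, Fin.sum_univ_seven, Fin.sum_univ_seven]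
  simp only [Pi.sub_apply, Pi.smul_apply, smul_eq_mul]
  fin_cases j <;> simp [r4u, r4v, pm_app, Equiv.Perm.mul_def, Equiv.swap_apply_def] <;> field_simp <;> ring

theorem r4_exists (h2 : (2 : F) ≠ 0) : ∃ k ∈ H7 F, k * (tt (ee 0) * tt (ee 1) * (tt (ee 2) * tt (ee 3)) * η7 F) * k⁻¹ =
    tt (ee 0) * tt (ee 1) * (tt (ee 2) * tt (ee 3)) := by
  obtain ⟨k, hk, e⟩ := exists_map h2 (k := 5) (n := 7) le_rfl ![r4u F, r4v F, ee 2, ee 3, ee 6]
    ![ee 0, ee 1, ee 2, ee 3, ee 6]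
    (fun i => by fin_cases i <;> first | exact r4_Qu h2 | exact r4_Qv h2 | exact Qn_ee _)
    (fun i => by fin_cases i <;> exact Qn_ee _)
    (fun i j hij => by
      fin_cases i <;> fin_cases j <;> first
        | exact absurd rfl hij
        | (simp [Qn_polar, Fin.sum_univ_seven, r4u, r4v]))
    (fun i j hij => by
      fin_cases i <;> fin_cases j <;> first
        | exact absurd rfl hij
        | (simp [Qn_polar, Fin.sum_univ_seven]))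
  have e0 : k.1 (r4u F) = ee 0 := e 0
  have e1 : k.1 (r4v F) = ee 1 := e 1
  have e2 : k.1 (ee 2) = ee 2 := e 2
  have e3 : k.1 (ee 3) = ee 3 := e 3
  have e6 : k.1 (ee 6) = ee 6 := e 4
  refine ⟨k, Fx_le_Hs _ (mem_Fx.2 ⟨hk, fun i hi => by rw [Finset.mem_singleton.1 hi, e6]⟩), ?_⟩
  have c2 := pm_conj_tt (F := F) (Equiv.swap (0 : Fin 7) 1 * Equiv.swap 4 5) 2
  have c3 := pm_conj_tt (F := F) (Equiv.swap (0 : Fin 7) 1 * Equiv.swap 4 5) 3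
  rw [show (Equiv.swap (0 : Fin 7) 1 * Equiv.swap 4 5 : Equiv.Perm (Fin 7)) 2 = 2 by decide] at c2
  rw [show (Equiv.swap (0 : Fin 7) 1 * Equiv.swap 4 5 : Equiv.Perm (Fin 7)) 3 = 3 by decide] at c3
  have c : tt (ee 2) * tt (ee 3) * η7 F = η7 F * (tt (ee 2) * tt (ee 3)) := by
    conv_lhs => rw [← c2, ← c3]
    group
  rw [mul_assoc (tt (ee 0) * tt (ee 1)), c, ← mul_assoc (tt (ee 0) * tt (ee 1)), r4_eta h2]
  conv_rhs => rw [← e0, ← e1, ← e2, ← e3, ← conj_tt, ← conj_tt, ← conj_tt, ← conj_tt]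
  group

theorem OC.r4_nacts (h : OC a ψ) {n : G}
    (hn : ∀ x ∈ Hs F {5, 6}, n * ψ x * n⁻¹ = ψ (τ7 F * x * (τ7 F)⁻¹)) :
    Acts a n (Equiv.swap 0 1 * Equiv.swap 5 6) := by
  intro i
  rw [← h.lab i, hn _ (tt_ee_mem_Hs h.card.two_ne i _), pm_conj_tt, h.lab]

theorem OC.r4_conj (h : OC a ψ) (g : Gl a S) {n : G} (n2 : n * n = 1)
    (hn : ∀ x ∈ Hs F {5, 6}, n * ψ x * n⁻¹ = ψ (τ7 F * x * (τ7 F)⁻¹)) : IsConj (a 4 * a 5) n := by
  have : Fact (Nat.Prime 2) := ⟨Nat.prime_two⟩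
  have h2 := h.card.two_ne
  have hA := h.r4_nacts hn
  obtain ⟨m, hm, hx⟩ := Rec.exists_conj_mem_syl (g.syl.mono g.toGl0.le_norm le_top) hA.mem_norm (k := 1)
    (by rw [pow_one, pow_two, n2])
  obtain ⟨σ, hσ⟩ := g.toGl0.acts_norm hm
  have cm : ∀ i, (Equiv.swap 0 1 * Equiv.swap 5 6 : Equiv.Perm (Fin 7)) i = i → Commute n (a i) := fun i hi => by
    have := hA i
    rw [hi, mul_inv_eq_iff_eq_mul] at this
    exact this
  have hc : Equiv.Perm.sign (Equiv.swap 2 3 * Equiv.swap 3 4 : Equiv.Perm (Fin 7)) = 1 := by decide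
  have hK := h.r4_acts hc (by decide)
  have cK : n * ψ (pm F (Equiv.swap 2 3 * Equiv.swap 3 4)) * n⁻¹ = ψ (pm F (Equiv.swap 2 3 * Equiv.swap 3 4)) := by
    rw [hn _ (r4_pm_mem h2 hc (by decide)), ← map_inv, ← map_mul, ← map_mul]
    congr 2
    decide
  have k2 : _ = a 3 := hK 2
  have k3 : _ = a 4 := hK 3
  have k4 : _ = a 2 := hK 4
  generalize ψ (pm F (Equiv.swap 2 3 * Equiv.swap 3 4)) = κ at cK k2 k3 k4
  have cK' : κ * n * κ⁻¹ = n := by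
    rw [mul_inv_eq_iff_eq_mul] at cK ⊢
    exact cK.symm
  have tr : ∀ i j, IsConj (n * (a i * a j)) (m * n * m⁻¹ * (a (σ i) * a (σ j))) := fun i j =>
    isConj_iff.2 ⟨m, by rw [← hσ i, ← hσ j]; group⟩
  have s1 : IsConj (n * (a 2 * a 3)) (n * (a 3 * a 4)) :=
    isConj_iff.2 ⟨κ, by conv_rhs => rw [← cK', ← k2, ← k3]
                        group⟩
  have s2 : IsConj (n * (a 3 * a 4)) (n * (a 2 * a 4)) :=
    isConj_iff.2 ⟨κ, by conv_rhs => rw [(g.lab.comm 2 4).eq, ← cK', ← k3, ← k4]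
                        group⟩
  have := g.cos _ hx (by
      calc _ = m * (n * n) * m⁻¹ := by group
        _ = 1 := by rw [n2]; group)
    (fun hE => by
      have e1 := hσ.inv.conj_mem hE
      rw [show m⁻¹ * (m * n * m⁻¹) * m⁻¹⁻¹ = n by group] at e1
      have e2 := hA 0
      rw [(g.lab.EE_comm _ e1 _ (mem_EE a 0)).eq, mul_inv_cancel_right] at e2
      exact absurd (g.lab.inj e2) (by decide))
    (σ 2) (σ 3) (σ 4) (σ.injective.ne (by decide)) (σ.injective.ne (by decide)) (σ.injective.ne (by decide))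
    ((hσ.comm_iff 2).2 (cm 2 (by decide))) ((hσ.comm_iff 3).2 (cm 3 (by decide)))
    ((hσ.comm_iff 4).2 (cm 4 (by decide)))
    ((tr 2 3).symm.trans (s1.trans (tr 3 4))) ((tr 3 4).symm.trans (s2.trans (tr 2 4)))
  exact this.trans (isConj_iff.2 ⟨m⁻¹, by group⟩)

theorem Lab.r4_mem (h : Lab a) {T : Finset (Fin 7)} {c : G} (hc : c ∈ closure {y | ∃ i ∈ T, y = a i}) :
    ∃ J ⊆ T, c = pr a J := by
  induction hc using closure_induction with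
  | mem x hx =>
    obtain ⟨i, hi, rfl⟩ := hx
    exact ⟨{i}, by simpa using hi, (pr_single i).symm⟩
  | one => exact ⟨∅, Finset.empty_subset _, pr_empty.symm⟩
  | mul x y _ _ hx hy =>
    obtain ⟨I, hI, rfl⟩ := hx
    obtain ⟨J, hJ, rfl⟩ := hy
    refine ⟨_, fun i hi => ?_, h.pr_mul I J⟩
    rcases Finset.mem_symmDiff.1 hi with e | e
    exacts [hI e.1, hJ e.1]
  | inv x _ hx =>
    obtain ⟨I, hI, rfl⟩ := hx
    exact ⟨I, hI, inv_eq_of_mul_eq_one_right (h.pr_sq I)⟩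

theorem r4_cube {H : Type*} [Group H] (t x : H) : t * (t * (t * x * t⁻¹) * t⁻¹) * t⁻¹ = t ^ 3 * x * (t ^ 3)⁻¹ := by
  simp only [pow_succ, pow_zero, one_mul, mul_inv_rev, mul_assoc]

theorem OC.tri (h : OC a ψ) (g : Gl a S) {n : G} (n2 : n * n = 1)
    (hn : ∀ x ∈ Hs F {5, 6}, n * ψ x * n⁻¹ = ψ (τ7 F * x * (τ7 F)⁻¹)) : (n * ψ (η7 F)) ^ 3 = 1 := by
  have h2 := h.card.two_ne
  have hs : Equiv.Perm.sign (Equiv.swap 0 1 * Equiv.swap 4 5 : Equiv.Perm (Fin 7)) = 1 := by decide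
  have hη : η7 F ∈ H7 F := r4_pm_mem h2 hs (by decide)
  have hAη : Acts a (ψ (η7 F)) _ := h.r4_acts hs (by decide)
  have hA := (h.r4_nacts hn).mul hAη
  have step : ∀ x ∈ Hs F {4, 5, 6}, τ7 F * η7 F * x * (τ7 F * η7 F)⁻¹ ∈ Hs F {4, 5, 6} ∧
      n * ψ (η7 F) * ψ x * (n * ψ (η7 F))⁻¹ = ψ (τ7 F * η7 F * x * (τ7 F * η7 F)⁻¹) := by
    intro x hx
    have m1 : η7 F * x * (η7 F)⁻¹ ∈ Hs F {4, 5, 6} := r4_conj_mem (by decide) hx
    have m2 : τ7 F * (η7 F * x * (η7 F)⁻¹) * (τ7 F)⁻¹ ∈ Hs F {4, 5, 6} := r4_conj_mem (by decide) m1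
    have e : τ7 F * η7 F * x * (τ7 F * η7 F)⁻¹ = τ7 F * (η7 F * x * (η7 F)⁻¹) * (τ7 F)⁻¹ := by group
    rw [e]
    refine ⟨m2, ?_⟩
    rw [← hn _ (Hs_anti (by decide) m1), h.conj hη (Hs_anti (by decide) hx)]
    group
  have h3 : (τ7 F * η7 F) ^ 3 = 1 := by
    rw [← map_mul, ← map_pow, show (Equiv.swap 0 1 * Equiv.swap 5 6 * (Equiv.swap 0 1 * Equiv.swap 4 5) :
      Equiv.Perm (Fin 7)) ^ 3 = 1 by decide, map_one]
  have η2 : ψ (η7 F) * ψ (η7 F) = 1 := by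
    rw [← h.mul _ hη _ hη, ← map_mul, show (Equiv.swap 0 1 * Equiv.swap 4 5 * (Equiv.swap 0 1 * Equiv.swap 4 5) :
      Equiv.Perm (Fin 7)) = 1 by decide, map_one, h.one]
  have cen : ∀ x ∈ Hs F {4, 5, 6}, Commute ((n * ψ (η7 F)) ^ 3) (ψ x) := by
    intro x hx
    obtain ⟨m1, e1⟩ := step x hx
    obtain ⟨m2, e2⟩ := step _ m1
    obtain ⟨-, e3⟩ := step _ m2
    rw [← e2, ← e1] at e3
    rw [r4_cube, r4_cube, h3, one_mul, inv_one, mul_one, mul_inv_eq_iff_eq_mul] at e3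
    exact e3
  obtain ⟨J, hJ, e⟩ := g.lab.r4_mem (h.cen_Hs (by decide) (by decide) cen)
  have f1 := g.lab.acts_pr hA J
  rw [← e, ((Commute.refl _).pow_right 3).eq, mul_inv_cancel_right, e, g.lab.pr_eq_iff] at f1
  have f2 : J = ∅ ∨ J = {4, 5, 6} := by
    have : ∀ J ∈ ({4, 5, 6} : Finset (Fin 7)).powerset,
        (J = J.map (Equiv.swap 0 1 * Equiv.swap 5 6 * (Equiv.swap 0 1 * Equiv.swap 4 5) :
          Equiv.Perm (Fin 7)).toEmbedding ∨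
        J = (J.map (Equiv.swap 0 1 * Equiv.swap 5 6 * (Equiv.swap 0 1 * Equiv.swap 4 5) :
          Equiv.Perm (Fin 7)).toEmbedding)ᶜ) → J = ∅ ∨ J = {4, 5, 6} := by decide +kernel
    exact this J (Finset.mem_powerset.2 hJ) f1
  rcases f2 with rfl | rfl
  · rw [e, pr_empty]
  exfalso
  have z1 : pr a {4, 5, 6} = pr a {0, 1, 2, 3} := g.lab.pr_eq_iff.2 (Or.inr (by decide))
  have z2 : pr a {0, 1, 2, 3} = a 0 * a 1 * (a 2 * a 3) := by
    rw [g.lab.pr_insert (by decide), g.lab.pr_insert (by decide), g.lab.pr_pair (by decide), mul_assoc]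
  have mt := fun i => tt_ee_mem_Hs h2 i ({6} : Finset (Fin 7))
  have mz : tt (ee 0) * tt (ee 1) * (tt (ee 2) * tt (ee 3)) ∈ H7 F :=
    mul_mem (mul_mem (mt 0) (mt 1)) (mul_mem (mt 2) (mt 3))
  have z3 : ψ (tt (ee 0) * tt (ee 1) * (tt (ee 2) * tt (ee 3))) = pr a {0, 1, 2, 3} := by
    rw [h.mul _ (mul_mem (mt 0) (mt 1)) _ (mul_mem (mt 2) (mt 3)), h.mul _ (mt 0) _ (mt 1), h.mul _ (mt 2) _ (mt 3),
      h.lab, h.lab, h.lab, h.lab, z2]
  obtain ⟨k, hk, ek⟩ := r4_exists h2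
  have c1 : IsConj (pr a {0, 1, 2, 3} * ψ (η7 F)) (pr a {0, 1, 2, 3}) :=
    isConj_iff.2 ⟨ψ k, by rw [← z3, ← h.mul _ mz _ hη, ← h.conj hk (mul_mem mz hη), ek]⟩
  have c2 : IsConj n (pr a {0, 1, 2, 3} * ψ (η7 F)) := by
    refine isConj_iff.2 ⟨n * ψ (η7 F), ?_⟩
    rw [← z1, ← e, mul_inv_rev, inv_eq_of_mul_eq_one_right η2, inv_eq_of_mul_eq_one_right n2]
    calc _ = n * ψ (η7 F) * (n * ψ (η7 F)) * (n * (ψ (η7 F) * ψ (η7 F))) := by rw [η2]; group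
      _ = _ := by simp only [pow_succ, pow_zero, one_mul, mul_assoc]
  have c3 := ((h.r4_conj g n2 hn).trans c2).trans c1
  rw [← g.lab.pr_pair (by decide)] at c3
  exact absurd (g.toGl0.wt (by decide) (by decide) c3) (by decide)

end Cfsg.Agent.O7
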