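import Mathlib
import Cfsg.Agent.O7.OA
import Cfsg.Agent.O7.Cov
import Cfsg.Agent.Cl.MaxOBasic

/-! The commuting graph of the labels in `Ω₇` is simply connected. -/

set_option autoImplicit false
set_option linter.unusedSectionVars false

namespace Cfsg.Agent.O7

open Subgroup Cfsg.Agent.Cl QuadraticMap Cfsg.Agent.GW
open scoped commutatorElement

universe u

variable {F : Type} [Field F] [Fintype F] {n : ℕ}

namespace R1

open Cfsg.Agent.Cl.MaxO Module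

section Gen

variable {V : Type*} [AddCommGroup V] [Module F V] [FiniteDimensional F V] {Q : QuadraticForm F V}
  {W : Submodule F V}

theorem cut1 (h2 : (2 : F) ≠ 0) (hW : ND Q W) {a : V} (ha : a ∈ W) (qa : Q a ≠ 0) :
    ∃ W' : Submodule F V, ND Q W' ∧ finrank F W ≤ finrank F W' + 1 ∧ ∀ c, c ∈ W' ↔ c ∈ W ∧ polar Q a c = 0 := by
  have hT := nd_span_one h2 qa
  have hle : Submodule.span F {a} ≤ W := by simpa using ha
  refine ⟨W ⊓ operp Q (Submodule.span F {a}), hW.inf_perp hT hle, ?_, fun c => by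
    rw [Submodule.mem_inf, mem_operp_span]; simp⟩
  rw [hT.finrank_inf_perp hle, finrank_span_singleton (by rintro rfl; simp at qa)]

theorem cut2 (hW : ND Q W) {a b : V} (ha : a ∈ W) (hb : b ∈ W) (qa : Q a = 0) (ab : polar Q a b = 1) :
    ∃ W' : Submodule F V, ND Q W' ∧ finrank F W ≤ finrank F W' + 2 ∧
      ∀ c, c ∈ W' ↔ c ∈ W ∧ polar Q a c = 0 ∧ polar Q b c = 0 := by
  classical
  have hT : ND Q (Submodule.span F {a, b}) := nd_span_pair (by simp [qa, ab])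
  have hle : Submodule.span F {a, b} ≤ W := by
    rw [Submodule.span_le]; rintro _ (rfl | rfl); exacts [ha, hb]
  refine ⟨W ⊓ operp Q (Submodule.span F {a, b}), hW.inf_perp hT hle, ?_, fun c => by
    rw [Submodule.mem_inf, mem_operp_span]; simp⟩
  rw [hT.finrank_inf_perp hle, Nat.add_le_add_iff_left, ← Finset.coe_pair]
  exact (finrank_span_finset_le_card _).trans Finset.card_le_two

theorem cut (h2 : (2 : F) ≠ 0) (hW : ND Q W) {a : V} (ha : a ∈ W) :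
    ∃ W' : Submodule F V, ND Q W' ∧ finrank F W ≤ finrank F W' + 2 ∧ ∀ c ∈ W', c ∈ W ∧ polar Q a c = 0 := by
  by_cases qa : Q a = 0
  · by_cases h0 : a = 0
    · exact ⟨W, hW, by omega, fun c hc => ⟨hc, by simp [h0]⟩⟩
    obtain ⟨b, hb, -, ab⟩ := hW.exists_partner ha h0 qa
    obtain ⟨W', h1, h3, h4⟩ := cut2 hW ha hb qa ab
    exact ⟨W', h1, h3, fun c hc => ⟨((h4 c).1 hc).1, ((h4 c).1 hc).2.1⟩⟩
  · obtain ⟨W', h1, h3, h4⟩ := cut1 h2 hW ha qa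
    exact ⟨W', h1, by omega, fun c => (h4 c).1⟩

/-- A unit vector orthogonal to two orthogonal vectors, the first of them non-singular. -/
theorem unit_of (h2 : (2 : F) ≠ 0) (hW : ND Q W) (h5 : 5 ≤ finrank F W) {x y : V} (hx : x ∈ W) (hy : y ∈ W)
    (qx : Q x ≠ 0) (xy : polar Q x y = 0) : ∃ c ∈ W, Q c = 1 ∧ polar Q x c = 0 ∧ polar Q y c = 0 := by
  obtain ⟨W1, a1, a2, a3⟩ := cut1 h2 hW hx qx
  obtain ⟨W2, b1, b2, b3⟩ := cut h2 a1 ((a3 y).2 ⟨hy, xy⟩)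
  obtain ⟨c, hc, qc⟩ := b1.exists_eq (by omega) 1
  exact ⟨c, ((a3 c).1 (b3 c hc).1).1, qc, ((a3 c).1 (b3 c hc).1).2, (b3 c hc).2⟩

end Gen

theorem gram (h2 : (2 : F) ≠ 0) (b : Fin n → Fin n → F) (h : ∀ i j, i < j → polar (Qn n F) (b i) (b j) = 0) :
    IsSquare (∏ i, Qn n F (b i)) := by
  have e : Matrix.of b * (Matrix.of b).transpose = Matrix.diagonal fun i => Qn n F (b i) := by
    ext i j
    have e1 : (Matrix.of b * (Matrix.of b).transpose) i j = ∑ k, b i k * b j k := by simp [Matrix.mul_apply]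
    rw [e1]
    apply mul_left_cancel₀ h2
    rw [← Qn_polar]
    rcases lt_trichotomy i j with hij | rfl | hij
    · rw [h i j hij, Matrix.diagonal_apply_ne _ hij.ne, mul_zero]
    · rw [quad_polar_self, Matrix.diagonal_apply_eq]
    · rw [polar_comm, h j i hij, Matrix.diagonal_apply_ne _ hij.ne', mul_zero]
  have := congrArg Matrix.det e
  rw [Matrix.det_mul, Matrix.det_transpose, Matrix.det_diagonal] at this
  exact ⟨_, this.symm⟩

theorem last_sq (h2 : (2 : F) ≠ 0) {v w x x' y y' c : Fin 7 → F} (hv : Qn 7 F v = 1) (hw : Qn 7 F w = 1)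
    (qx : Qn 7 F x = 0) (qx' : Qn 7 F x' = 0) (qy : Qn 7 F y = 0) (qy' : Qn 7 F y' = 0)
    (xx : polar (Qn 7 F) x x' = 1) (yy : polar (Qn 7 F) y y' = 1) (vw : polar (Qn 7 F) v w = 0)
    (h1 : ∀ z ∈ [x, x', y, y', c], polar (Qn 7 F) v z = 0 ∧ polar (Qn 7 F) w z = 0)
    (h3 : ∀ z ∈ [y, y', c], polar (Qn 7 F) x z = 0 ∧ polar (Qn 7 F) x' z = 0)
    (h4 : polar (Qn 7 F) y c = 0 ∧ polar (Qn 7 F) y' c = 0) : IsSquare (Qn 7 F c) := by
  simp only [List.mem_cons, List.not_mem_nil, or_false, forall_eq_or_imp, forall_eq] at h1 h3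
  have xx' : polar (Qn 7 F) x' x = 1 := by rwa [polar_comm]
  have yy' : polar (Qn 7 F) y' y = 1 := by rwa [polar_comm]
  have := gram h2 ![v, w, x + x', x - x', y + y', y - y', c] fun i j hij => by
    fin_cases i <;> fin_cases j <;> first
      | exact absurd hij (by decide)
      | simp only [Fin.reduceFinMk, Matrix.cons_val, Fin.zero_eta, Fin.mk_one, Fin.isValue, oexp, h1, h3, h4, vw,
          qx, qx', qy, qy', xx, xx', yy, yy', add_zero, sub_zero, mul_zero, sub_self, zero_add, zero_sub,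
          neg_add_cancel, add_neg_cancel]
  simp only [Fin.prod_univ_seven, Matrix.cons_val, oexp, hv, hw, qx, qx', qy, qy', xx, yy] at this
  simpa using this

end R1

open R1 Cfsg.Agent.Cl.MaxO Module in
theorem exists_perp (h2 : (2 : F) ≠ 0) {v w x y : Fin 7 → F} (hv : Qn 7 F v = 1) (hw : Qn 7 F w = 1)
    (vw : polar (Qn 7 F) v w = 0) (vx : polar (Qn 7 F) v x = 0) (vy : polar (Qn 7 F) v y = 0)
    (wx : polar (Qn 7 F) w x = 0) (wy : polar (Qn 7 F) w y = 0) (xy : polar (Qn 7 F) x y = 0) :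
    ∃ c, Qn 7 F c = 1 ∧ polar (Qn 7 F) c v = 0 ∧ polar (Qn 7 F) c w = 0 ∧ polar (Qn 7 F) c x = 0 ∧
      polar (Qn 7 F) c y = 0 := by
  have h0 : ND (Qn 7 F) ⊤ := fun x _ h => quad_eq_zero_of_polar (Qn_nd h2) fun y => h y trivial
  obtain ⟨W0, a1, a2, a3⟩ := cut1 h2 h0 (a := v) trivial (hv ▸ one_ne_zero)
  obtain ⟨W, b1, b2, b3⟩ := cut1 h2 a1 ((a3 w).2 ⟨trivial, vw⟩) (hw ▸ one_ne_zero)
  have h5 : 5 ≤ finrank F W := by
    rw [finrank_top, finrank_fin_fun] at a2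
    omega
  have hW : ∀ c, c ∈ W ↔ polar (Qn 7 F) v c = 0 ∧ polar (Qn 7 F) w c = 0 := fun c => by simp [b3, a3]
  have hx := (hW x).2 ⟨vx, wx⟩
  have hy := (hW y).2 ⟨vy, wy⟩
  suffices H : ∃ c ∈ W, Qn 7 F c = 1 ∧ polar (Qn 7 F) x c = 0 ∧ polar (Qn 7 F) y c = 0 by
    obtain ⟨c, hc, q, h1, h3⟩ := H
    refine ⟨c, q, ?_, ?_, ?_, ?_⟩ <;> rw [polar_comm]
    exacts [((hW c).1 hc).1, ((hW c).1 hc).2, h1, h3]
  by_cases qx : Qn 7 F x = 0
  swap
  · exact unit_of h2 b1 h5 hx hy qx xy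
  by_cases qy : Qn 7 F y = 0
  swap
  · obtain ⟨c, hc, q, h1, h3⟩ := unit_of h2 b1 h5 hy hx qy (by rwa [polar_comm])
    exact ⟨c, hc, q, h3, h1⟩
  by_cases x0 : x = 0
  · obtain ⟨W2, c1, c2, c3⟩ := cut h2 b1 hy
    obtain ⟨c, hc, qc⟩ := c1.exists_eq (by omega) 1
    exact ⟨c, (c3 c hc).1, qc, by simp [x0], (c3 c hc).2⟩
  obtain ⟨x', hx', qx', xx⟩ := b1.exists_partner hx x0 qx
  obtain ⟨W1, c1, c2, c3⟩ := cut2 b1 hx hx' qx xx
  obtain ⟨y1, s, hy1, q1, rfl⟩ : ∃ y1, ∃ s : F, y1 ∈ W1 ∧ Qn 7 F y1 = 0 ∧ y = y1 + s • x := by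
    refine ⟨y - polar (Qn 7 F) x' y • x, polar (Qn 7 F) x' y,
      (c3 _).2 ⟨sub_mem hy (W.smul_mem _ hx), ?_, ?_⟩, ?_, by simp⟩
    · simp only [oexp, xy, qx]; simp
    · simp only [oexp, polar_comm (Qn 7 F) x' x, xx]; simp
    · simp only [oexp, qy, qx, polar_comm (Qn 7 F) y x, xy]; simp
  suffices H : ∃ c ∈ W1, Qn 7 F c = 1 ∧ polar (Qn 7 F) y1 c = 0 by
    obtain ⟨c, hc, q, h1⟩ := H
    exact ⟨c, ((c3 c).1 hc).1, q, ((c3 c).1 hc).2.1, by simp only [oexp, h1, ((c3 c).1 hc).2.1]; simp⟩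
  by_cases y0 : y1 = 0
  · obtain ⟨c, hc, qc⟩ := c1.exists_eq (by omega) 1
    exact ⟨c, hc, qc, by simp [y0]⟩
  obtain ⟨y', hy', qy', yy⟩ := c1.exists_partner hy1 y0 q1
  obtain ⟨W2, d1, d2, d3⟩ := cut2 c1 hy1 hy' q1 yy
  obtain ⟨c, hc, qc⟩ := d1.exists_nonsingular (fun h => by rw [h, finrank_bot] at d2; omega)
  have hc1 := ((d3 c).1 hc).1
  obtain ⟨r, hr⟩ := last_sq h2 (c := c) hv hw qx qx' q1 qy' xx yy vw
    (by
      simp only [List.mem_cons, List.not_mem_nil, or_false, forall_eq_or_imp, forall_eq, ← hW]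
      exact ⟨hx, hx', ((c3 _).1 hy1).1, ((c3 _).1 hy').1, ((c3 _).1 hc1).1⟩)
    (by
      simp only [List.mem_cons, List.not_mem_nil, or_false, forall_eq_or_imp, forall_eq]
      exact ⟨((c3 _).1 hy1).2, ((c3 _).1 hy').2, ((c3 _).1 hc1).2⟩) ((d3 c).1 hc).2
  have r0 : r ≠ 0 := by rintro rfl; exact qc (by simpa using hr)
  refine ⟨r⁻¹ • c, W1.smul_mem _ hc1, ?_, by rw [polar_smul_right, ((d3 c).1 hc).2.1, smul_zero]⟩
  rw [quad_smul, hr]
  field_simp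

namespace R1

theorem adj_iff (h2 : (2 : F) ≠ 0) {u v : Fin 7 → F} (hu : Qn 7 F u = 1) (hv : Qn 7 F v = 1) :
    adj7 (tt u) (tt v) ↔ polar (Qn 7 F) u v = 0 := by
  constructor
  · rintro ⟨-, -, h1, h3⟩
    rw [Ne, tt_eq_iff h2 hu hv] at h1
    rw [tt_comm_iff h2 hu hv] at h3
    tauto
  · intro h
    refine ⟨⟨u, hu, rfl⟩, ⟨v, hv, rfl⟩, fun e => ?_, (tt_comm_iff h2 hu hv).2 (Or.inr (Or.inr h))⟩
    rcases (tt_eq_iff h2 hu hv).1 e with rfl | rfl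
    · rw [quad_polar_self, hu, mul_one] at h
      exact h2 h
    · rw [polar_neg_left, quad_polar_self, hv, mul_one, neg_eq_zero] at h
      exact h2 h

/-- A unit vector orthogonal to the vertices of a closed path of length four. -/
theorem perp4 (h2 : (2 : F) ≠ 0) {u c v c' : Fin 7 → F} (hu : Qn 7 F u = 1) (hc : Qn 7 F c = 1)
    (uc : polar (Qn 7 F) u c = 0) (cv : polar (Qn 7 F) c v = 0) (uc' : polar (Qn 7 F) u c' = 0)
    (cv' : polar (Qn 7 F) c' v = 0) : ∃ d, Qn 7 F d = 1 ∧ polar (Qn 7 F) d u = 0 ∧ polar (Qn 7 F) d c = 0 ∧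
      polar (Qn 7 F) d v = 0 ∧ polar (Qn 7 F) d c' = 0 := by
  have cu : polar (Qn 7 F) c u = 0 := by rwa [polar_comm]
  have vc : polar (Qn 7 F) v c = 0 := by rwa [polar_comm]
  have vc' : polar (Qn 7 F) v c' = 0 := by rwa [polar_comm]
  obtain ⟨d, q, h1, h3, h4, h5⟩ := exists_perp h2 (x := v - (2⁻¹ * polar (Qn 7 F) u v) • u)
    (y := c' - (2⁻¹ * polar (Qn 7 F) c c') • c) hu hc uc (by simp only [oexp, hu]; field_simp; ring)
    (by simp only [oexp, uc, uc']; simp) (by simp only [oexp, cv, cu]; simp) (by simp only [oexp, hc]; field_simp; ring)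
    (by simp only [oexp, vc, vc', uc, uc']; simp)
  simp only [oexp, h1, h3, mul_zero, sub_zero] at h4 h5
  exact ⟨d, q, h1, h3, h4, h5⟩

/-- A unit vector orthogonal to an edge and a vertex. -/
theorem perp3 (h2 : (2 : F) ≠ 0) {v w : Fin 7 → F} (u : Fin 7 → F) (hv : Qn 7 F v = 1) (hw : Qn 7 F w = 1)
    (vw : polar (Qn 7 F) v w = 0) : ∃ d, Qn 7 F d = 1 ∧ polar (Qn 7 F) d u = 0 ∧ polar (Qn 7 F) d v = 0 ∧
      polar (Qn 7 F) d w = 0 := by
  have wv : polar (Qn 7 F) w v = 0 := by rwa [polar_comm]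
  obtain ⟨d, q, h1, h3, h4, -⟩ := exists_perp h2
    (x := u - (2⁻¹ * polar (Qn 7 F) v u) • v - (2⁻¹ * polar (Qn 7 F) w u) • w) (y := 0) hv hw vw
    (by simp only [oexp, hv, vw]; field_simp; ring) (by simp) (by simp only [oexp, hw, wv]; field_simp; ring)
    (by simp) (by simp)
  simp only [oexp, h1, h3, mul_zero, sub_zero] at h4
  exact ⟨d, q, h4, h1, h3⟩

open Cfsg.Agent.Cl.MaxO Module in
theorem perp2 (h2 : (2 : F) ≠ 0) {u : Fin 7 → F} (v : Fin 7 → F) (hu : Qn 7 F u = 1) :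
    ∃ d, Qn 7 F d = 1 ∧ polar (Qn 7 F) d u = 0 ∧ polar (Qn 7 F) d v = 0 := by
  have h0 : ND (Qn 7 F) ⊤ := fun x _ h => quad_eq_zero_of_polar (Qn_nd h2) fun y => h y trivial
  obtain ⟨w, -, hw, uw, -⟩ := unit_of h2 h0 (by rw [finrank_top, finrank_fin_fun]; norm_num) (x := u) (y := 0)
    trivial trivial (hu ▸ one_ne_zero) (by simp)
  obtain ⟨d, q, h1, h3, -⟩ := perp3 h2 v hu hw uw
  exact ⟨d, q, h3, h1⟩

end R1

open R1

theorem exists_common (h2 : (2 : F) ≠ 0) {x y : OG (Qn 7 F)} (hx : x ∈ S7 F) (hy : y ∈ S7 F) :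
    ∃ c, adj7 x c ∧ adj7 c y := by
  obtain ⟨u, hu, rfl⟩ := hx
  obtain ⟨v, hv, rfl⟩ := hy
  obtain ⟨d, q, h1, h3⟩ := perp2 h2 v hu
  exact ⟨tt d, (adj_iff h2 hu q).2 (by rwa [polar_comm]), (adj_iff h2 q hv).2 h3⟩

theorem sc7 (h2 : (2 : F) ≠ 0) {Y : Type*} {p : Y → OG (Qn 7 F)} {A : Y → Y → Prop} (h : IsCov (S7 F) adj7 p A) :
    Function.Injective p := by
  intro a b0 e0
  choose vec hq hv using h.mem
  have ad : ∀ x y, adj7 (p x) (p y) ↔ polar (Qn 7 F) (vec x) (vec y) = 0 := fun x y => by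
    rw [hv x, hv y, adj_iff h2 (hq x) (hq y)]
  have ad' : ∀ x d, Qn 7 F d = 1 → polar (Qn 7 F) d (vec x) = 0 → adj7 (tt d) (p x) ∧ adj7 (p x) (tt d) :=
    fun x d q h1 => by
      rw [hv x, adj_iff h2 q (hq x), adj_iff h2 (hq x) q, polar_comm _ (vec x)]
      exact ⟨h1, h1⟩
  have one : ∀ b b' c c', A a c → A c b → A a c' → A c' b' → p b = p b' → b = b' := by
    intro b b' c c' h1 h3 h4 h5 e
    obtain ⟨d, q, k1, k2, k3, k4⟩ := perp4 h2 (hq a) (hq c) ((ad _ _).1 (h.map _ _ h1)) ((ad _ _).1 (h.map _ _ h3))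
      ((ad _ _).1 (h.map _ _ h4)) ((ad c' b).1 (e ▸ h.map _ _ h5))
    obtain ⟨d', l1, l2⟩ := h.lift a _ (ad' a d q k1).2
    have m1 := h.tri a c d' h1 l1 (l2 ▸ (ad' c d q k2).2)
    have m2 := h.tri a c' d' h4 l1 (l2 ▸ (ad' c' d q k4).2)
    have m3 := (ad' b d q k3).1
    exact h.uniq d' b b' (h.tri c d' b m1 h3 (l2 ▸ m3)) (h.tri c' d' b' m2 h5 (l2 ▸ e ▸ m3)) e
  have zero : ∃ c, A a c ∧ A c a := by
    obtain ⟨d, q, k1, -⟩ := perp2 h2 0 (hq a)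
    obtain ⟨c, l1, -⟩ := h.lift a _ (ad' a d q k1).2
    exact ⟨c, l1, h.symm _ _ l1⟩
  have all : ∀ b, Relation.ReflTransGen A a b → ∃ c, A a c ∧ A c b := fun b hb => by
    induction hb with
    | refl => exact zero
    | @tail b b' _ hbb ih =>
      obtain ⟨c, h1, h3⟩ := ih
      obtain ⟨d, q, k1, k2, k3⟩ := perp3 h2 (vec a) (hq b) (hq b') ((ad _ _).1 (h.map _ _ hbb))
      obtain ⟨d', l1, l2⟩ := h.lift a _ (ad' a d q k1).2
      obtain ⟨b1, m1, m2⟩ := h.lift d' (p b) (l2 ▸ (ad' b d q k2).1)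
      obtain rfl := one b1 b d' c l1 m1 h1 h3 m2
      exact ⟨d', l1, h.tri b1 d' b' (h.symm _ _ m1) hbb (l2 ▸ (ad' b' d q k3).1)⟩
  obtain ⟨c, h1, h3⟩ := zero
  obtain ⟨c', h4, h5⟩ := all b0 (h.conn a b0)
  exact one a b0 c c' h1 h3 h4 h5 e0

end Cfsg.Agent.O7
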