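import Mathlib
import Cfsg.Agent.O7.R1
import Cfsg.Agent.O7.OB

/-! The amalgam. -/

set_option autoImplicit false
set_option linter.unusedSectionVars false

namespace Cfsg.Agent.O7

open Subgroup Cfsg.Agent.Cl QuadraticMap Cfsg.Agent.GW
open scoped commutatorElement

universe u

variable {F : Type} [Field F] [Fintype F] {n : ℕ}

variable {G : Type u} [Group G] [Finite G] {a : Fin 7 → G} {S : Subgroup G} {ψ : OG (Qn 7 F) → G}

namespace R5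

theorem tau_sq : τ7 F * τ7 F = 1 := by 
  rw [← map_mul, ← map_one (pm F)]
  exact congrArg _ (by decide +kernel)

theorem eta_sq : η7 F * η7 F = 1 := by 
  rw [← map_mul, ← map_one (pm F)]
  exact congrArg _ (by decide +kernel)

theorem tau_eta : (τ7 F * η7 F) ^ 3 = 1 := by 
  rw [← map_mul, ← map_pow, ← map_one (pm F)]
  exact congrArg _ (by decide +kernel)

theorem tau_six : τ7 F * tt (ee 6) * (τ7 F)⁻¹ = tt (ee 5) := pm_conj_tt _ 6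

theorem tau_five : τ7 F * tt (ee 5) * (τ7 F)⁻¹ = tt (ee 6) := pm_conj_tt _ 5

theorem tau_mem (h2 : (2 : F) ≠ 0) : τ7 F ∈ Om 7 F := pm_mem h2 (by decide)

theorem mem7 {x : OG (Qn 7 F)} : x ∈ H7 F ↔ x ∈ Om 7 F ∧ Commute x (tt (ee 6)) := by simp [mem_Hs]

theorem mem56 {x : OG (Qn 7 F)} : x ∈ Hs F {5, 6} ↔ x ∈ H7 F ∧ Commute x (tt (ee 5)) := by
  simp only [mem_Hs, Finset.mem_insert, Finset.mem_singleton, forall_eq_or_imp, forall_eq]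
  tauto

theorem eta_mem (h2 : (2 : F) ≠ 0) : η7 F ∈ H7 F :=
  mem7.2 ⟨pm_mem h2 (by decide), mul_inv_eq_iff_eq_mul.1 (pm_conj_tt _ 6)⟩

theorem tau_conj {x : OG (Qn 7 F)} (hx : x ∈ Hs F {5, 6}) : τ7 F * x * (τ7 F)⁻¹ ∈ H7 F := by
  refine mem7.2 ⟨Normal.conj_mem inferInstance _ (mem_Hs.1 hx).1 _, ?_⟩
  rw [← tau_five]
  exact (mem56.1 hx).2.map (MulAut.conj (τ7 F))

theorem polar_ee {i j : Fin 7} (h : i ≠ j) : polar (Qn 7 F) (ee i) (ee j) = 0 := by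
  rw [OA.polar_ee, ee, Pi.single_eq_of_ne h.symm, mul_zero]

theorem ne_zero_of_unit {u : Fin 7 → F} (hu : Qn 7 F u = 1) : u ≠ 0 := by
  rintro rfl
  simp at hu

theorem zero_of_polar (h2 : (2 : F) ≠ 0) {u : Fin 7 → F} {i : Fin 7} (h : polar (Qn 7 F) (ee i) u = 0) : u i = 0 := by
  rw [polar_comm, OA.polar_ee] at h
  exact (mul_eq_zero.1 h).resolve_left h2

theorem adj_conj (g x y : OG (Qn 7 F)) (h : adj7 x y) : adj7 (g * x * g⁻¹) (g * y * g⁻¹) := by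
  obtain ⟨⟨u, hu, rfl⟩, ⟨v, hv, rfl⟩, h1, h3⟩ := h
  refine ⟨⟨g.1 u, by rwa [OG.map_app], conj_tt g u⟩, ⟨g.1 v, by rwa [OG.map_app], conj_tt g v⟩, fun e => h1 ?_,
    h3.map (MulAut.conj g)⟩
  simpa using e

theorem lift6 (h2 : (2 : F) ≠ 0) {x : OG (Qn 7 F)} (h : adj7 (tt (ee 6)) x) :
    ∃ g ∈ H7 F, g * tt (ee 5) * g⁻¹ = x := by
  obtain ⟨u, hu, rfl⟩ := h.2.1
  have h6 := zero_of_polar h2 ((R1.adj_iff h2 (Qn_ee 6) hu).1 h)
  obtain ⟨g, hg, e⟩ := exists_fix_map h2 (T := {6}) (by simp) (u := ee 5) (v := u) (by simp) (by simpa using h6)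
    (ne_zero_of_unit (Qn_ee 5)) (ne_zero_of_unit hu) (by rw [Qn_ee, hu])
  exact ⟨g, Fx_le_Hs _ hg, by rw [conj_tt, e]⟩

theorem split (h2 : (2 : F) ≠ 0) {x : OG (Qn 7 F)} (hx : x ∈ H7 F) (h : adj7 (tt (ee 5)) (x * tt (ee 5) * x⁻¹)) :
    ∃ k ∈ Hs F {5, 6}, ∃ k' ∈ Hs F {5, 6}, x = k * η7 F * k' := by
  have hu : Qn 7 F (x.1 (ee 5)) = 1 := by rw [OG.map_app, Qn_ee]
  rw [conj_tt] at h
  have h5 := zero_of_polar h2 ((R1.adj_iff h2 (Qn_ee 5) hu).1 h)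
  have h6 : x.1 (ee 5) 6 = 0 := by
    have e : polar (Qn 7 F) (x.1 (ee 6)) (x.1 (ee 5)) = 0 := by rw [OG.polar_app, polar_ee (by decide)]
    refine zero_of_polar h2 ?_
    rcases (comm_tt_iff h2 (Qn_ee 6)).1 (mem7.1 hx).2 with e' | e' <;> rw [e'] at e
    · exact e
    · rwa [polar_neg_left, neg_eq_zero] at e
  obtain ⟨k, hk, e⟩ := exists_fix_map h2 (T := {5, 6}) (by simp) (u := ee 4) (v := x.1 (ee 5)) (by simp)
    (by simp [h5, h6]) (ne_zero_of_unit (Qn_ee 4)) (ne_zero_of_unit hu) (by rw [Qn_ee, hu])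
  have hk' := Fx_le_Hs _ hk
  refine ⟨k, hk', (k * η7 F)⁻¹ * x, mem56.2 ⟨mul_mem (inv_mem (mul_mem (mem56.1 hk').1 (eta_mem h2))) hx,
    (comm_tt_iff h2 (Qn_ee 5)).2 (Or.inl ?_)⟩, by group⟩
  rw [OG.mul_app, OG.inv_app_eq_iff, OG.mul_app, pm_ee, ← e]
  rfl

theorem decomp (h2 : (2 : F) ≠ 0) {g : OG (Qn 7 F)} (hg : g ∈ Om 7 F) :
    ∃ x ∈ H7 F, ∃ y ∈ H7 F, ∃ z ∈ H7 F, g = x * τ7 F * y * τ7 F * z := by
  obtain ⟨c, h1, h3⟩ := exists_common h2 (x := tt (ee 6)) (y := g * tt (ee 6) * g⁻¹) ⟨_, Qn_ee 6, rfl⟩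
    ⟨g.1 (ee 6), by rw [OG.map_app, Qn_ee], conj_tt _ _⟩
  obtain ⟨x, hx, rfl⟩ := lift6 h2 h1
  have h4 := adj_conj (x * τ7 F)⁻¹ _ _ h3
  rw [← tau_six, show (x * τ7 F)⁻¹ * (x * (τ7 F * tt (ee 6) * (τ7 F)⁻¹) * x⁻¹) * (x * τ7 F)⁻¹⁻¹ = tt (ee 6) by group]
    at h4
  obtain ⟨y, hy, e⟩ := lift6 h2 h4
  refine ⟨x, hx, y, hy, (x * τ7 F * y * τ7 F)⁻¹ * g, mem7.2 ⟨mul_mem (inv_mem (mul_mem (mul_mem (mul_mem
    (mem7.1 hx).1 (tau_mem h2)) (mem7.1 hy).1) (tau_mem h2))) hg, ?_⟩, by group⟩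
  rw [← tau_six] at e
  refine mul_inv_eq_iff_eq_mul.1 ?_
  calc _ = (τ7 F)⁻¹ * y⁻¹ * ((x * τ7 F)⁻¹ * (g * tt (ee 6) * g⁻¹) * (x * τ7 F)⁻¹⁻¹) * y * τ7 F := by group
    _ = _ := by rw [← e]; group

end R5

open R5

theorem OC.exists_hom (h : OC a ψ) {n : G} (n2 : n * n = 1)
    (hn : ∀ x ∈ Hs F {5, 6}, n * ψ x * n⁻¹ = ψ (τ7 F * x * (τ7 F)⁻¹)) (h3 : (n * ψ (η7 F)) ^ 3 = 1) :
    ∃ φ : Om 7 F →* G, (∀ x : Om 7 F, x.1 ∈ H7 F → φ x = ψ x) ∧ (∀ x : Om 7 F, x.1 = τ7 F → φ x = n) ∧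
      φ.range = closure (insert n (ψ '' H7 F)) := by
  have h2 := h.card.two_ne
  let H : Subgroup (OG (Qn 7 F) × G) := ((H7 F).subtype.prod h.hom).range
  have mH : ∀ {p : OG (Qn 7 F) × G}, p ∈ H ↔ p.1 ∈ H7 F ∧ p.2 = ψ p.1 := fun {p} =>
    ⟨by rintro ⟨x, rfl⟩; exact ⟨x.2, rfl⟩, fun hp => ⟨⟨p.1, hp.1⟩, Prod.ext rfl hp.2.symm⟩⟩
  have mk : ∀ x ∈ H7 F, (x, ψ x) ∈ H := fun x hx => mH.2 ⟨hx, rfl⟩
  let s : OG (Qn 7 F) × G := (τ7 F, n)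
  let ρ : OG (Qn 7 F) × G →* Equiv.Perm (OG (Qn 7 F)) :=
    ((MulAut.toPerm _).comp MulAut.conj).comp (MonoidHom.fst _ _)
  have hρ : ∀ p x, ρ p x = p.1 * x * p.1⁻¹ := fun _ _ => rfl
  have s2 : s * s = 1 := Prod.ext tau_sq n2
  have si : s⁻¹ = s := inv_eq_of_mul_eq_one_right s2
  have sv : ρ s (tt (ee 6)) = tt (ee 5) := tau_six
  have cs : ∀ x ∈ Hs F {5, 6}, s⁻¹ * (x, ψ x) * s ∈ H := fun x hx => by
    rw [si]
    nth_rewrite 2 [← si]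
    exact mH.2 ⟨tau_conj hx, hn x hx⟩
  have key : ∀ p ∈ closure (insert s (H : Set (OG (Qn 7 F) × G))), p.1 = 1 → p.2 = 1 := fun p hp e => by
    have := mem_of_fix (S := S7 F) (adj := adj7) (ρ := ρ) (H := H) (s := s) (v := tt (ee 6)) (fun c => sc7 h2 c)
      (fun g => ⟨g.1.1 (ee 6), by rw [OG.map_app, Qn_ee], conj_tt _ _⟩) (fun g x y => adj_conj g.1 x y)
      (fun p hp => mul_inv_eq_iff_eq_mul.2 (mem7.1 (mH.1 hp).1).2) (s2 ▸ one_mem _)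
      (by rw [sv]; exact (R1.adj_iff h2 (Qn_ee 6) (Qn_ee 5)).2 (polar_ee (by decide)))
      (fun x hx => by
        obtain ⟨g, hg, e⟩ := lift6 h2 hx
        exact ⟨_, mk g hg, by rw [sv]; exact e⟩)
      (by
        rintro ⟨x, y⟩ hp e
        obtain ⟨hx, rfl⟩ : x ∈ H7 F ∧ y = ψ x := mH.1 hp
        rw [sv] at e
        exact cs x (mem56.2 ⟨hx, mul_inv_eq_iff_eq_mul.1 e⟩))
      (by
        rintro ⟨x, y⟩ hp e
        obtain ⟨hx, rfl⟩ : x ∈ H7 F ∧ y = ψ x := mH.1 hp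
        rw [sv] at e
        obtain ⟨k, hk, k', hk', rfl⟩ := split h2 hx e
        have hη := eta_mem h2
        let t : OG (Qn 7 F) × G := (η7 F, ψ (η7 F))
        have t2 : t * t = 1 := Prod.ext eta_sq (by
          change ψ _ * ψ _ = 1
          rw [← h.mul _ hη _ hη, eta_sq, h.one])
        have st : (s * t) ^ 3 = 1 := Prod.ext tau_eta h3
        have br : s⁻¹ * t * s = t * s * t := by
          calc s⁻¹ * t * s = (s * t) ^ 3 * (t * s * t) * ((t * s * t)⁻¹ * ((s * t) ^ 3)⁻¹ * (s⁻¹ * t * s)) := by group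
            _ = t * s * t := by
              rw [show (t * s * t)⁻¹ * ((s * t) ^ 3)⁻¹ * (s⁻¹ * t * s) = 1 from ?_, st, one_mul, mul_one]
              rw [st, inv_one, mul_one, si, inv_mul_eq_one, ← one_mul (t * s * t), ← st]
              calc (s * t) ^ 3 * (t * s * t) = s * t * s * (t * (s * (t * t) * s) * t) := by
                    simp only [pow_succ, pow_zero, one_mul, mul_assoc]
                _ = s * t * s := by rw [t2, mul_one s, s2, mul_one t, t2, mul_one]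
        refine ⟨_, mul_mem (cs k hk) (mk _ hη), _, mul_mem (mk _ hη) (cs k' hk'), ?_⟩
        have e1 : ((k * η7 F * k', ψ (k * η7 F * k')) : OG (Qn 7 F) × G) = (k, ψ k) * t * (k', ψ k') :=
          Prod.ext rfl (by
            change ψ _ = ψ _ * ψ _ * ψ _
            rw [h.mul _ (mul_mem (mem56.1 hk).1 hη) _ (mem56.1 hk').1, h.mul _ (mem56.1 hk).1 _ hη])
        change s⁻¹ * (k * η7 F * k', ψ (k * η7 F * k')) * s = s⁻¹ * (k, ψ k) * s * t * s * (t * (s⁻¹ * (k', ψ k') * s))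
        rw [e1]
        calc _ = s⁻¹ * (k, ψ k) * s * (s⁻¹ * t * s) * (s⁻¹ * (k', ψ k') * s) := by group
          _ = _ := by rw [br]; group)
      hp (by rw [hρ, e]; simp)
    rw [(mH.1 this).2, e, h.one]
  set L := closure (insert s (H : Set (OG (Qn 7 F) × G))) with hL
  have sL : s ∈ L := subset_closure (Or.inl rfl)
  have HL : H ≤ L := fun p hp => subset_closure (Or.inr hp)
  have LO : ∀ p ∈ L, p.1 ∈ Om 7 F := fun p hp =>
    mem_comap.1 ((closure_le ((Om 7 F).comap (MonoidHom.fst _ G))).2 (by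
      rintro q (rfl | hq)
      exacts [tau_mem h2, (mem7.1 (mH.1 hq).1).1]) hp)
  let f : L →* Om 7 F := ((MonoidHom.fst _ G).comp L.subtype).codRestrict _ fun p => LO p.1 p.2
  have fb : Function.Bijective f := by
    refine ⟨(injective_iff_map_eq_one _).2 fun p e => ?_, fun g => ?_⟩
    · have e' : p.1.1 = 1 := congrArg Subtype.val e
      exact Subtype.ext (Prod.ext e' (key _ p.2 e'))
    · obtain ⟨x, hx, y, hy, z, hz, e⟩ := decomp h2 g.2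
      exact ⟨⟨_, mul_mem (mul_mem (mul_mem (mul_mem (HL (mk x hx)) sL) (HL (mk y hy))) sL) (HL (mk z hz))⟩,
        Subtype.ext e.symm⟩
  let φ : Om 7 F →* G := ((MonoidHom.snd _ G).comp L.subtype).comp (MulEquiv.ofBijective f fb).symm.toMonoidHom
  have hφ : ∀ p ∈ L, ∀ x : Om 7 F, x.1 = p.1 → φ x = p.2 := fun p hp x e => by
    obtain rfl : x = MulEquiv.ofBijective f fb ⟨p, hp⟩ := Subtype.ext e
    exact congrArg (fun q : L => q.1.2) ((MulEquiv.ofBijective f fb).symm_apply_apply ⟨p, hp⟩)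
  refine ⟨φ, fun x hx => hφ _ (HL (mk _ hx)) x rfl, fun x e => hφ s sL x e, le_antisymm ?_ ?_⟩
  · rintro _ ⟨x, rfl⟩
    obtain ⟨p, rfl⟩ := fb.2 x
    rw [hφ p.1 p.2 _ rfl]
    refine (closure_le ((closure (insert n (ψ '' H7 F))).comap (MonoidHom.snd (OG (Qn 7 F)) G))).2 ?_ p.2
    rintro q (rfl | hq)
    · exact subset_closure (Or.inl rfl)
    · exact subset_closure (Or.inr ⟨q.1, (mH.1 hq).1, (mH.1 hq).2.symm⟩)
  · rw [closure_le]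
    rintro _ (rfl | ⟨x, hx, rfl⟩)
    · exact ⟨⟨_, tau_mem h2⟩, hφ s sL _ rfl⟩
    · exact ⟨⟨x, (mem7.1 hx).1⟩, hφ _ (HL (mk x hx)) _ rfl⟩

end Cfsg.Agent.O7
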