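import Mathlib
import Cfsg.Agent.O7.WcF

/-! The transvections `X` and `A` on `F` are conjugate. -/

set_option autoImplicit false
set_option synthInstance.maxSize 100000
set_option synthInstance.maxHeartbeats 1000000
set_option linter.unusedSectionVars false

namespace Cfsg.Agent.O7

open Cfsg.Agent.Spor Cfsg.Agent.Rec Cfsg.Agent.Inv.Fz Cfsg.Agent.Yam Subgroup
open Cfsg.Agent.Rec.X32.I (conj_conj conj_symm conj_mul')

universe u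

variable {G : Type u} [Group G] [Finite G]

namespace Crt

variable (s : Crt G)

/-- `y` and `y'` act alike on `F`. -/
def RhoSame (y y' : G) : Prop := ∀ x ∈ s.F, y * x * y⁻¹ = y' * x * y'⁻¹

/-- The statement to be proved. -/
def RhoGoal : Prop := ∃ g ∈ s.NF, g * s.d3 * g⁻¹ = s.d1 ∧
  ∀ x ∈ s.F, (s.X * x = x * s.X ↔ s.A * (g * x * g⁻¹) = g * x * g⁻¹ * s.A)

theorem rho_fo : (s.X * s.h * s.X⁻¹ = s.h * s.d3 ∧ s.d3 ≠ 1 ∧ s.X * s.d3 * s.X⁻¹ = s.d3) ∧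
    (s.w * s.d2 * s.w⁻¹ = s.d1 ∧ s.w * s.C * s.w⁻¹ = s.A) ∧ (∀ x ∈ s.R, s.X * x = x * s.X) ∧
    (s.A * s.X * (s.A * s.X) = 1 ∧ s.A * s.d3 * s.A⁻¹ = s.d3 ∧ s.d1 ≠ 1 ∧ s.d1 * s.d3 ≠ 1) ∧
    s.C * s.X * (s.C * s.X) = 1 ∧ s.C * s.d3 * s.C⁻¹ = s.d3 ∧ s.d2 ≠ 1 ∧ s.d2 * s.d3 ≠ 1 :=
  s.hL.decide s.rep (by decide +kernel)

variable {s}

theorem rho_mem {n x : G} (hn : n ∈ s.NF) (hx : x ∈ s.F) : n * x * n⁻¹ ∈ s.F := (mem_normalizer_iff.1 hn x).1 hx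

theorem rho_mem' {n x : G} (hn : n ∈ s.NF) (hx : x ∈ s.F) : n⁻¹ * x * n ∈ s.F := by
  simpa using rho_mem (inv_mem hn) hx

theorem RhoSame.cj {y y' n : G} (h : s.RhoSame y y') (hn : n ∈ s.NF) : s.RhoSame (n * y * n⁻¹) (n * y' * n⁻¹) :=
  fun x hx => by
    calc _ = n * (y * (n⁻¹ * x * n) * y⁻¹) * n⁻¹ := by group
      _ = _ := by rw [h _ (rho_mem' hn hx)]; group

theorem rho_same_of {k B : G} (h : k * B ∈ s.F) (hB : B * B = 1) (hn : B ∈ s.NF) : s.RhoSame k B := fun x hx => by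
  have e : k = k * B * B := by rw [mul_assoc, hB, mul_one]
  calc _ = k * B * (B * x * B⁻¹) * (k * B)⁻¹ := by nth_rw 1 2 [e]; group
    _ = _ := by rw [s.F_comm _ h _ (rho_mem hn hx), mul_inv_cancel_right]

/-- The conjugates of `X` are transvections. -/
theorem rho_tv {n x : G} (hn : n ∈ s.NF) (hx : x ∈ s.F) : n * s.X * n⁻¹ * x * (n * s.X * n⁻¹)⁻¹ = x ∨
    n * s.X * n⁻¹ * x * (n * s.X * n⁻¹)⁻¹ = x * (n * s.d3 * n⁻¹) := by
  have e : n * s.X * n⁻¹ * x * (n * s.X * n⁻¹)⁻¹ = n * (s.X * (n⁻¹ * x * n) * s.X⁻¹) * n⁻¹ := by group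
  rcases (s.tv' _ (rho_mem' hn hx)).2.2.1 with h | h <;> rw [e, h]
  · left; group
  · right; group

theorem rho_h (n : G) : n * s.X * n⁻¹ * (n * s.h * n⁻¹) * (n * s.X * n⁻¹)⁻¹ = n * s.h * n⁻¹ * (n * s.d3 * n⁻¹) := by
  rw [conj_mul, conj_inv, conj_mul, s.rho_fo.1.1, conj_mul]

theorem rho_c (n : G) : n * s.X * n⁻¹ * (n * s.d3 * n⁻¹) * (n * s.X * n⁻¹)⁻¹ = n * s.d3 * n⁻¹ := by
  rw [conj_mul, conj_inv, conj_mul, s.rho_fo.1.2.2]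

theorem rho_ne (n : G) : n * s.d3 * n⁻¹ ≠ 1 := fun e => s.rho_fo.1.2.1 (conj_eq_one_iff.1 e)

theorem rho_centre {n m : G} (hn : n ∈ s.NF) (hm : m ∈ s.NF) (h : s.RhoSame (n * s.X * n⁻¹) (m * s.X * m⁻¹)) :
    n * s.d3 * n⁻¹ = m * s.d3 * m⁻¹ := by
  have hx := rho_mem hn s.eF.2.1
  rcases rho_tv hm hx with e | e <;> rw [← h _ hx, rho_h] at e
  · exact absurd (mul_eq_left.1 e) (rho_ne n)
  · exact mul_left_cancel e

theorem rho_A {n : G} (hn : n ∈ s.NF) (h : s.RhoSame s.A (n * s.X * n⁻¹)) (e : n * s.d3 * n⁻¹ = s.d1) : s.RhoGoal :=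
  ⟨n, hn, e, fun x hx => by
    rw [← mul_inv_eq_iff_eq_mul (a := s.A * _), h _ (rho_mem hn hx), conj_mul, conj_inv, conj_mul, mul_left_inj,
      mul_right_inj, mul_inv_eq_iff_eq_mul]⟩

theorem rho_S {k n : G} (hk : k ∈ s.S) (hn : n ∈ s.NF) (h : s.RhoSame k (n * s.X * n⁻¹)) :
    s.RhoGoal ∨ s.RhoSame k s.X := by
  have hx := rho_mem hn s.eF.2.1
  obtain ⟨a1, -, a2, -, a3, -, -, -, a4, -⟩ := s.eS
  obtain ⟨b1, -, b2, -, b3, -⟩ := s.sq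
  rcases s.tv (rho_mem hn s.eF.2.2.2.2.1) hk (fun c => rho_ne n (mul_eq_left.1 (by
    rw [← rho_h, ← h _ hx, s.F_comm _ c _ hx, mul_inv_cancel_right]))) (fun x hx => h x hx ▸ rho_tv hn hx) with
    ⟨c, e⟩ | ⟨c, e⟩ | ⟨c, -⟩
  · exact .inl (rho_A hn (fun x hx => (rho_same_of c b1 (s.S_le_NF a1) x hx).symm.trans (h x hx)) e)
  · have h1 : s.RhoSame s.C (n * s.X * n⁻¹) := fun x hx => (rho_same_of c b2 (s.S_le_NF a2) x hx).symm.trans (h x hx)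
    have h2 := h1.cj (s.S_le_NF a4)
    rw [s.rho_fo.2.1.2, show s.w * (n * s.X * n⁻¹) * s.w⁻¹ = s.w * n * s.X * (s.w * n)⁻¹ by group] at h2
    exact .inl (rho_A (mul_mem (s.S_le_NF a4) hn) h2 (by rw [← s.rho_fo.2.1.1, ← e]; group))
  · exact .inr (rho_same_of c b3 (s.S_le_NF a3))

/-- Two different commuting conjugates of `X`. -/
theorem rho_two {n m : G} (hn : n ∈ s.NF) (hm : m ∈ s.NF) (h : ¬ s.RhoSame (n * s.X * n⁻¹) (m * s.X * m⁻¹))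
    (h1 : n * s.X * n⁻¹ * (m * s.d3 * m⁻¹) * (n * s.X * n⁻¹)⁻¹ = m * s.d3 * m⁻¹)
    (h2 : m * s.X * m⁻¹ * (n * s.d3 * n⁻¹) * (m * s.X * m⁻¹)⁻¹ = n * s.d3 * n⁻¹) : s.RhoGoal := by
  have hX := s.S_le_NF s.eS.2.2.2.2.1
  have sq : ∀ g : G, g * s.X * g⁻¹ * (g * s.X * g⁻¹) = 1 := fun g => by
    rw [conj_mul, s.sq.2.2.2.2.1, mul_one, mul_inv_cancel]
  have t1 := fun x => rho_tv (x := x) hn
  have t2 := fun x => rho_tv (x := x) hm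
  have m1 : n * s.X * n⁻¹ ∈ s.NF := mul_mem (mul_mem hn hX) (inv_mem hn)
  have m2 : m * s.X * m⁻¹ ∈ s.NF := mul_mem (mul_mem hm hX) (inv_mem hm)
  have c1 := rho_mem hn s.eF.2.2.2.2.1
  have c2 := rho_mem hm s.eF.2.2.2.2.1
  have s1 := sq n
  have s2 := sq m
  have key : ∀ k ∈ s.S, ∀ g ∈ s.NF, ∀ l ∈ s.NF, s.RhoSame k (g * (l * s.X * l⁻¹) * g⁻¹) → s.RhoGoal ∨ s.RhoSame k s.X :=
    fun k hk g hg l hl e => rho_S hk (mul_mem hg hl) (by convert e using 1; group)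
  have k1 := fun k hk g hg => key k hk g hg n hn
  have k2 := fun k hk g hg => key k hk g hg m hm
  generalize n * s.X * n⁻¹ = y, m * s.X * m⁻¹ = y', n * s.d3 * n⁻¹ = c, m * s.d3 * m⁻¹ = c' at *
  have cm : s.RhoSame (y * y') (y' * y) := fun x hx => by
    have e1 : y * y' * x * (y * y')⁻¹ = y * (y' * x * y'⁻¹) * y⁻¹ := by group
    have e2 : y' * y * x * (y' * y)⁻¹ = y' * (y * x * y⁻¹) * y'⁻¹ := by group
    rcases t1 x hx with a | a <;> rcases t2 x hx with b | b <;> rw [e1, e2, a, b]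
    · rw [a]
    · rw [← conj_mul, a, h1]
    · rw [← conj_mul, a, b, h2]
    · rw [← conj_mul, ← conj_mul, a, b, h1, h2, mul_assoc, mul_assoc, s.F_comm _ c1 _ c2]
  have i1 : y⁻¹ = y := inv_eq_of_mul_eq_one_right s1
  have i2 : y'⁻¹ = y' := inv_eq_of_mul_eq_one_right s2
  have t2 : ∀ x ∈ s.F, (y * y') ^ 2 * x = x * (y * y') ^ 2 := fun x hx => by
    have := cm _ (rho_mem (mul_mem m1 m2) hx)
    rw [← mul_inv_eq_iff_eq_mul]
    calc _ = y * y' * (y * y' * x * (y * y')⁻¹) * (y * y')⁻¹ := by rw [pow_two]; group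
      _ = y' * (y * y) * y' * x * (y' * (y * y) * y')⁻¹ := by rw [this]; group
      _ = x := by simp [s1, s2]
  obtain ⟨k, j, ⟨i, rfl⟩, e⟩ := Nat.exists_eq_two_pow_mul_odd (orderOf_pos (y * y')).ne'
  have pz : ∀ (a : G) (k : ℕ), a ^ 2 ^ k = 1 → IsPGroup 2 (zpowers a) := fun a k h => by
    obtain ⟨j, -, hj⟩ := (Nat.dvd_prime_pow Nat.prime_two).1 (orderOf_dvd_of_pow_eq_one h)
    exact IsPGroup.of_card (by rw [Nat.card_zpowers, hj])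
  have p1 := pz y 1 (by rw [pow_one, pow_two, s1])
  have p2 := pz ((y * y') ^ (2 * i + 1)) k (by rw [← pow_mul, mul_comm _ (2 ^ k), ← e, pow_orderOf_eq_one])
  have nn : zpowers y ≤ normalizer (zpowers ((y * y') ^ (2 * i + 1)) : Set G) :=
    zpowers_le.2 (mem_normalizer_of_conj_mem (by
      rintro _ ⟨l, rfl⟩
      have : y * (y * y') * y⁻¹ = (y * y')⁻¹ := by rw [← mul_assoc, s1, mul_inv_rev, i1, i2, one_mul]
      rw [← conj_zpow, ← conj_pow, this, inv_pow]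
      exact zpow_mem (inv_mem (mem_zpowers _)) l))
  obtain ⟨g, hg, le⟩ := (s.syl' s.S_le_NF).exists_cj_le (p1.to_sup_of_normal_right' p2 nn)
    (sup_le (zpowers_le.2 m1) (zpowers_le.2 (pow_mem (mul_mem m1 m2) _)))
  have a1 := cj_le_iff.1 le _ (mem_sup_left (mem_zpowers y))
  have a2 := cj_le_iff.1 le _ (mul_mem_sup (mem_zpowers y) (mem_zpowers _))
  have sm : s.RhoSame (y * (y * y') ^ (2 * i + 1)) y' := fun x hx => by
    have := (show Commute ((y * y') ^ 2) _ from t2 _ (rho_mem (mul_mem m1 m2) hx)).pow_left i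
    calc _ = y * (((y * y') ^ 2) ^ i * (y * y' * x * (y * y')⁻¹) * (((y * y') ^ 2) ^ i)⁻¹) * y⁻¹ := by
          rw [pow_succ, pow_mul]; simp only [mul_inv_rev, mul_assoc]
      _ = y * y * y' * x * (y * y * y')⁻¹ := by rw [this.eq]; group
      _ = _ := by rw [s1, one_mul]
  rcases k1 _ a1 g hg (fun _ _ => rfl) with b1 | b1
  · exact b1
  rcases k2 _ a2 g hg (sm.cj hg) with b2 | b2
  · exact b2
  refine absurd (fun x hx => ?_) h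
  have := (RhoSame.cj (fun x hx => (b1 x hx).trans ((b2 x hx).symm.trans (sm.cj hg x hx))) (inv_mem hg)) x hx
  simpa [mul_assoc] using this

theorem rho_inv {n u : G} (hn : n ∈ s.NF) (hu : u ∈ s.NF) (h2 : u * u = 1)
    (h : u * (n * s.d3 * n⁻¹) * u⁻¹ ≠ n * s.d3 * n⁻¹)
    (h1 : n * s.X * n⁻¹ * (u * (n * s.d3 * n⁻¹) * u⁻¹) * (n * s.X * n⁻¹)⁻¹ = u * (n * s.d3 * n⁻¹) * u⁻¹) : s.RhoGoal := by
  have e : u * n * s.d3 * (u * n)⁻¹ = u * (n * s.d3 * n⁻¹) * u⁻¹ := by group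
  have i : u⁻¹ = u := inv_eq_of_mul_eq_one_right h2
  refine rho_two hn (mul_mem hu hn) (fun c => h (e.symm.trans (rho_centre hn (mul_mem hu hn) c).symm)) (e ▸ h1) ?_
  calc _ = u * (n * s.X * n⁻¹ * (u⁻¹ * (n * s.d3 * n⁻¹) * u) * (n * s.X * n⁻¹)⁻¹) * u⁻¹ := by group
    _ = u * u * (n * s.d3 * n⁻¹) * (u * u)⁻¹ := by
      rw [show u⁻¹ * (n * s.d3 * n⁻¹) * u = u * (n * s.d3 * n⁻¹) * u⁻¹ by rw [i], h1]; group
    _ = _ := by simp [h2]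

theorem rho_last {n B d : G} (hn : n ∈ s.NF) (hB : B ∈ s.S) (b1 : B * B = 1)
    (b2 : B * s.X * (B * s.X) = 1 ∧ B * s.d3 * B⁻¹ = s.d3 ∧ d ≠ 1 ∧ d * s.d3 ≠ 1) (hd : d ∈ s.F)
    (h1 : n * s.X * n⁻¹ * s.d3 * (n * s.X * n⁻¹)⁻¹ = s.d3 * (n * s.d3 * n⁻¹))
    (h2 : s.X * (n * s.d3 * n⁻¹) * s.X⁻¹ = n * s.d3 * n⁻¹ * s.d3)
    (h3 : B * (n * s.d3 * n⁻¹) * B⁻¹ = n * s.d3 * n⁻¹ * d) : s.RhoGoal := by
  have c1 := rho_mem hn s.eF.2.2.2.2.1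
  rcases rho_tv hn hd with e | e
  · refine rho_inv hn (s.S_le_NF hB) b1 (by rw [h3]; exact fun c => b2.2.2.1 (mul_eq_left.1 c)) ?_
    rw [h3, ← conj_mul, rho_c, e]
  · have e' : B * s.X * (n * s.d3 * n⁻¹) * (B * s.X)⁻¹ = n * s.d3 * n⁻¹ * (d * s.d3) := by
      calc _ = B * (s.X * (n * s.d3 * n⁻¹) * s.X⁻¹) * B⁻¹ := by group
        _ = _ := by rw [h2, ← conj_mul, h3, b2.2.1, mul_assoc]
    refine rho_inv hn (s.S_le_NF (mul_mem hB s.eS.2.2.2.2.1)) b2.1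
      (by rw [e']; exact fun c => b2.2.2.2 (mul_eq_left.1 c)) ?_
    rw [e', ← conj_mul, rho_c, ← conj_mul, e, h1, s.F_comm _ s.eF.2.2.2.2.1 _ c1, mul_assoc d,
      ← mul_assoc (n * s.d3 * n⁻¹) (n * s.d3 * n⁻¹) s.d3, s.F_sq _ c1, one_mul]

variable (s)

theorem rho (hG : commutator G = ⊤) : ∃ g ∈ s.NF, g * s.d3 * g⁻¹ = s.d1 ∧
    ∀ x ∈ s.F, (s.X * x = x * s.X ↔ s.A * (g * x * g⁻¹) = g * x * g⁻¹ * s.A) := by
  change s.RhoGoal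
  have hi : (s.R.subgroupOf s.S).index = 2 := by
    have := card_mul_relIndex s.R_le_S
    rw [s.gR.2, s.gS.2] at this
    change s.R.relIndex s.S = 2
    omega
  have := normal_of_index_eq_two hi
  obtain ⟨g, h1, -, h2⟩ := GT.Tr.thompson_transfer_of_isCyclic (H := s.S) (T := s.R) (y := s.h) (C := s.F)
    s.syl.toSylowTop.not_dvd_index (isCyclic_of_prime_card (p := 2) hi) (by rw [pow_two, s.F_sq _ s.eF.2.1])
    (hG ▸ mem_top _) (s.pS.to_le s.F_le_S) fun x hx => s.F_comm x hx _ s.eF.2.1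
  have hn : g⁻¹ ∈ s.NF := inv_mem (cj_eq_iff.1 (s.wcF g (cj_le_iff.2 h2)))
  have h3 : g⁻¹ * s.X * g⁻¹⁻¹ * s.h * (g⁻¹ * s.X * g⁻¹⁻¹)⁻¹ = s.h := by
    calc _ = g⁻¹ * (s.X * (g * s.h * g⁻¹)) * g * (g⁻¹ * s.X * g⁻¹⁻¹)⁻¹ := by group
      _ = _ := by rw [s.rho_fo.2.2.1 _ h1]; group
  generalize g⁻¹ = n at hn h3
  have d3 := s.eF.2.2.2.2.1
  have c1 := rho_mem hn d3
  have hX := s.S_le_NF s.eS.2.2.2.2.1
  obtain ⟨a1, a2, a3, a4⟩ := s.tv' _ c1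
  rcases rho_tv hn d3 with e | e <;> rcases a3 with a3 | a3
  · refine rho_two hn (one_mem _) (fun c => ?_) (by simpa using e) (by simpa using a3)
    have := c _ s.eF.2.1
    rw [h3, one_mul, inv_one, mul_one, s.rho_fo.1.1] at this
    exact s.rho_fo.1.2.1 (mul_eq_left.1 this.symm)
  · refine rho_inv hn hX s.sq.2.2.2.2.1 (by rw [a3]; exact fun c => s.rho_fo.1.2.1 (mul_eq_left.1 c)) ?_
    rw [a3, ← conj_mul, rho_c, e]
  · refine rho_inv (one_mem _) (mul_mem (mul_mem hn hX) (inv_mem hn))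
      (by rw [conj_mul, s.sq.2.2.2.2.1, mul_one, mul_inv_cancel]) ?_ ?_ <;> simp only [one_mul, inv_one, mul_one, e]
    · exact fun c => rho_ne n (mul_eq_left.1 c)
    · rw [← conj_mul, a3, s.rho_fo.1.2.2]
  have n3 : ¬ s.X * (n * s.d3 * n⁻¹) = n * s.d3 * n⁻¹ * s.X := fun c =>
    s.rho_fo.1.2.1 (mul_eq_left.1 (by rw [← a3, c, mul_inv_cancel_right]))
  rcases a1 with a1 | a1
  · rcases a2 with a2 | a2
    · exact absurd (a4.2 (iff_of_true (mul_inv_eq_iff_eq_mul.1 a1) (mul_inv_eq_iff_eq_mul.1 a2))) n3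
    · exact rho_last hn s.eS.2.2.1 s.sq.2.2.1 s.rho_fo.2.2.2.2 s.eF.2.2.2.1 e a3 a2
  · exact rho_last hn s.eS.1 s.sq.1 s.rho_fo.2.2.2.1 s.eF.2.2.1 e a3 a1

end Crt

end Cfsg.Agent.O7
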