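import Mathlib
import Cfsg.Agent.O7.Base2

/-! The chart from the hypothesis. -/

set_option autoImplicit false
set_option synthInstance.maxSize 100000
set_option synthInstance.maxHeartbeats 1000000
set_option linter.unusedSectionVars false

namespace Cfsg.Agent.O7

open Cfsg.Agent.Spor Cfsg.Agent.Rec Cfsg.Agent.Inv.Fz Cfsg.Agent.Yam Subgroup
open Cfsg.Agent.Rec.X32.I (conj_conj conj_symm conj_mul')

universe u

variable {G : Type u} [Group G] [Finite G]


theorem exists_crt (S : Sylow 2 G) (P : Sylow 2 (alternatingGroup (Fin 12)))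
    (e : (S : Subgroup G) ≃* (P : Subgroup (alternatingGroup (Fin 12)))) : Nonempty (Crt G) := by
  obtain ⟨r, -⟩ := exists_st12
  have := Fact.mk Nat.prime_two
  obtain ⟨g, -, hg⟩ := (isSylIn_top P).exists_cj_eq (stCrt r).syl
  let φ : (stCrt r).S ≃* (S : Subgroup G) := ((cjEquiv g _).trans (MulEquiv.subgroupCongr hg)).trans e.symm
  obtain ⟨t, -⟩ := (stCrt r).transport ((S : Subgroup G).subtype.comp φ.toMonoidHom)
    ((subtype_injective _).comp φ.injective) (by
      rw [MonoidHom.range_comp, MonoidHom.range_eq_top.2 φ.surjective, ← MonoidHom.range_eq_map, range_subtype]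
      exact isSylIn_top S)
  exact ⟨t⟩

end Cfsg.Agent.O7
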