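import Mathlib
import Cfsg.Agent.O7.WcF
import Cfsg.Agent.O7.Perm

/-! The normaliser of `F` induces `S₆`. -/

set_option autoImplicit false
set_option synthInstance.maxSize 100000
set_option synthInstance.maxHeartbeats 1000000
set_option linter.unusedSectionVars false

namespace Cfsg.Agent.O7

open Cfsg.Agent.Spor Cfsg.Agent.Rec Cfsg.Agent.Inv.Fz Cfsg.Agent.Yam Subgroup
open Cfsg.Agent.Rec.X32.I (conj_conj conj_symm conj_mul')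

universe u

variable {G : Type u} [Group G] [Finite G]

namespace Crt

variable (s : Crt G)

theorem sym_nF {n x : G} (hn : n ∈ s.NF) (hx : x ∈ s.F) : n * x * n⁻¹ ∈ s.F :=
  (mem_normalizer_iff.1 hn x).1 hx

theorem sym_lett : s.d3 * s.α = s.z ∧ s.d3 ≠ 1 ∧ s.w * s.d1 * s.w⁻¹ = s.d2 :=
  Cod.listsL_nil.decide s.rep (by decide +kernel)

theorem sym_not_both {x : G} (hx : x ∈ s.F) (h : IsConj s.d3 x) : ¬ IsConj s.d3 (x * s.α) := fun h' => by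
  obtain ⟨n, hn, e⟩ := s.ctrlF s.eF.2.2.2.2.1 hx h
  refine s.d_not_z (h'.trans (isConj_iff.2 ⟨n, ?_⟩).symm)
  rw [← s.sym_lett.1, conj_mul', e, s.fixA n hn]

theorem sym_tau_mul (a i j : Fin 6) : s.tau a i * s.tau a j = s.tau i j := by
  unfold tau
  rw [s.F_comm _ (s.u_F a) _ (s.u_F i), mul_assoc, ← mul_assoc (s.u a), s.F_sq _ (s.u_F a), one_mul]

theorem sym_tau_comm (i j : Fin 6) : s.tau i j = s.tau j i := s.F_comm _ (s.u_F i) _ (s.u_F j)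

theorem sym_tau_self (i : Fin 6) : s.tau i i = 1 := s.F_sq _ (s.u_F i)

theorem sym_tau_cd {i j : Fin 6} (h : i ≠ j) : s.tau i j ∈ s.cd :=
  ⟨s.F_le_S (s.tau_F i j), _, s.rep_tau i j, (by decide +kernel : ∀ i j : Fin 6, i ≠ j →
    cd_t.dom.has (P.mul (cu i) (cu j)) = true) i j h⟩

theorem sym_of_cd : ∀ x ∈ s.cd, ∃ p ∈ dul, x = s.tau p.1 p.2 :=
  ((lists_flt s.gS.1).all_iff (f := fun a => dul.any fun p => Nat.beq a (P.mul (cu p.1) (cu p.2)))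
    fun a x h => by
      simp only [List.any_eq_true, Nat.beq_eq, (h.eq_iff (s.rep_tau _ _))]).1 (by decide +kernel)

theorem sym_meet {i j k l : Fin 6} (h1 : i < j) (h2 : k < l) (h : s.tau i j * s.tau k l ∈ s.cd) :
    i = k ∨ i = l ∨ j = k ∨ j = l := by
  obtain ⟨-, a, h3, h4⟩ := h
  rw [(h3.eq_iff ((s.rep_tau i j).mul (s.rep_tau k l))).2 rfl] at h4
  exact (by decide +kernel : ∀ i j : Fin 6, i < j → ∀ k l : Fin 6, k < l →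
    cd_t.dom.has (P.mul (P.mul (cu i) (cu j)) (P.mul (cu k) (cu l))) = true →
      i = k ∨ i = l ∨ j = k ∨ j = l) i j h1 k l h2 h4

theorem sym_cd : (∀ x ∈ s.cd, ∃ k ∈ s.T16, k * x * k⁻¹ = s.d1 ∨ k * x * k⁻¹ = s.d3 ∨ k * x * k⁻¹ = s.f ∨
      k * x * k⁻¹ = s.h) ∧ ∀ x ∈ s.F, x = 1 ∨ x = s.α ∨ x ∈ s.cd ∨ x * s.α ∈ s.cd :=
  s.hL.decide s.rep (by decide +kernel)

theorem sym_six (h1 : IsConj s.d3 s.d1) (h2 : IsConj s.d3 s.f) (h3 : IsConj s.d3 s.h) : s.Sym6 := by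
  have a1 : ∀ x ∈ s.cd, IsConj s.d3 x := fun x hx => by
    obtain ⟨k, -, e | e | e | e⟩ := s.sym_cd.1 x hx
    exacts [h1.trans (isConj_iff.2 ⟨k, e⟩).symm, (isConj_iff.2 ⟨k, e⟩).symm,
      h2.trans (isConj_iff.2 ⟨k, e⟩).symm, h3.trans (isConj_iff.2 ⟨k, e⟩).symm]
  have a2 : ∀ x ∈ s.F, IsConj s.d3 x → x ∈ s.cd := fun x hx h => by
    rcases s.sym_cd.2 x hx with rfl | rfl | e | e
    · exact absurd (isConj_one_left.1 h) s.sym_lett.2.1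
    · exact absurd h.symm s.α_not_d3
    · exact e
    · exact absurd (a1 _ e) (s.sym_not_both hx h)
  have a3 : ∀ n ∈ s.NF, ∀ i j, i ≠ j → n * s.tau i j * n⁻¹ ∈ s.cd := fun n hn i j h =>
    a2 _ (s.sym_nF hn (s.tau_F i j)) ((a1 _ (s.sym_tau_cd h)).trans (isConj_iff.2 ⟨n, rfl⟩))
  have act : ∀ n ∈ s.NF, ∃ π, s.ActF n π := fun n hn => by
    choose p hp e using fun k : Fin 5 => s.sym_of_cd _ (a3 n hn 0 k.succ (Fin.succ_ne_zero k).symm)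
    have b1 : ∀ k, (p k).1 < (p k).2 := fun k => (by decide : ∀ p ∈ dul, p.1 < p.2) _ (hp k)
    obtain ⟨π, hπ⟩ := star6 p b1 (fun k l h => by
      have := (e k).trans (h ▸ (e l).symm)
      rw [mul_left_inj, mul_right_inj, s.tau_eq_iff] at this
      rcases this with h | h | h
      exacts [absurd h.1.symm (Fin.succ_ne_zero k), Fin.succ_injective _ h.2, absurd h.2 (Fin.succ_ne_zero k)])
      fun k l => by
        rcases eq_or_ne k l with rfl | h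
        · exact Or.inl rfl
        refine s.sym_meet (b1 k) (b1 l) ?_
        rw [← e, ← e, ← conj_mul', s.sym_tau_mul]
        exact a3 n hn _ _ fun h' => h (Fin.succ_injective _ h')
    have b2 : ∀ i, n * s.tau 0 i * n⁻¹ = s.tau (π 0) (π i) := fun i => by
      refine Fin.cases ?_ (fun k => ?_) i
      · rw [s.sym_tau_self, s.sym_tau_self, mul_one, mul_inv_cancel]
      · rw [e]
        rcases hπ k with h | h <;> rw [h]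
        exact s.sym_tau_comm _ _
    exact ⟨π, fun i j => by rw [← s.sym_tau_mul 0, conj_mul', b2, b2, s.sym_tau_mul]⟩
  let H : Subgroup (Equiv.Perm (Fin 6)) :=
    { carrier := {π | ∃ n ∈ s.NF, s.ActF n π}
      one_mem' := ⟨1, one_mem _, fun i j => by simp⟩
      mul_mem' := by
        rintro π ρ ⟨n, hn, a⟩ ⟨m, hm, b⟩
        exact ⟨n * m, mul_mem hn hm, fun i j => (conj_conj (b i j)).trans (a _ _)⟩
      inv_mem' := by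
        rintro π ⟨n, hn, a⟩
        exact ⟨n⁻¹, inv_mem hn, fun i j => conj_symm (by simpa using a (π⁻¹ i) (π⁻¹ j))⟩ }
  obtain ⟨m1, -, m2, -, m3, -, -, -, m4, -⟩ := s.eS
  obtain ⟨f1, -, f2, -, f3, -⟩ := s.eF
  obtain ⟨t1, -, t2, t3, -⟩ := s.tau_lett
  have hH : H = ⊤ := by
    refine s6_of ⟨_, s.S_le_NF m1, s.actF.1⟩ ⟨_, s.S_le_NF m2, s.actF.2.1⟩ ⟨_, s.S_le_NF m3, s.actF.2.2.1⟩
      ⟨_, s.S_le_NF m4, s.actF.2.2.2⟩ ?_ ?_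
    · obtain ⟨n, hn, e⟩ := s.ctrlF f3 f2 h1
      obtain ⟨π, hπ⟩ := act n hn
      rw [← t2, ← t1, hπ, s.tau_eq_iff] at e
      refine ⟨π, ⟨n, hn, hπ⟩, ?_⟩
      rcases e with e | e | e
      · exact absurd e.2 (by decide)
      · rw [e.1]; decide
      · rw [e.1]; decide
    · obtain ⟨n, hn, e⟩ := s.ctrlF f1 f3 h2.symm
      obtain ⟨π, hπ⟩ := act n hn
      rw [← t2, ← t3, hπ, s.tau_eq_iff] at e
      refine ⟨π, ⟨n, hn, hπ⟩, 0, 2, by decide, ?_⟩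
      rcases e with e | e | e
      · exact absurd e.2 (by decide)
      · rw [e.1, e.2]; decide
      · rw [e.1, e.2]; decide
  exact ⟨act, fun π => (hH ▸ mem_top π : π ∈ H)⟩

theorem sym_tw1 : ∃ t : Crt G, t.d1 = s.d1 ∧ t.d3 = s.d3 ∧ t.f = s.f ∧ t.h = s.h * s.z := by
  obtain ⟨a1, a2, a3, a4, a5, a6, a7, a8, a9, -, -, -, a10, -⟩ := s.eS
  have h0 := nth_mem_clos [s.A, s.A', s.C, s.D, s.X, s.X', s.f, s.h * s.z, s.w]
  obtain ⟨t, e1, e2, -, -, e5, e6, e7, e8, -⟩ := s.of_sat (A := s.A) (A' := s.A') (C := s.C) (D := s.D)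
    (X := s.X) (X' := s.X') (f := s.f) (h := s.h * s.z) (w := s.w)
    (((s.rep.pick [0, 1, 2, 3, 4, 5, 6]).append <| (s.rep.tm (.mul (.v 7) (.v 12))).cons <|
      (s.rep.nth 8).cons Cod.repL_nil).sat (by decide +kernel))
    (le_antisymm (clos_le.2 (by simp [mul_mem, *])) (clos_le.2 (by
      simp only [List.forall_mem_cons]
      exact ⟨h0 0, h0 1, h0 2, h0 3, h0 4, h0 5, h0 6, (mul_mem_cancel_right (y := s.h) (x := s.z)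
        (mul_mem (mul_mem (h0 0) (h0 1)) (mul_mem (h0 2) (h0 3)))).1 (h0 7), h0 8, by simp⟩)))
  exact ⟨t, by rw [d1, d1, e1, e2], by rw [d3, d3, e5, e6], e7, e8⟩

theorem sym_tw2 : ∃ t : Crt G, t.d1 = s.d1 ∧ t.d3 = s.d3 ∧ t.z = s.z ∧ t.f = s.f * s.d3 ∧ t.h = s.h := by
  obtain ⟨a1, a2, a3, a4, a5, a6, a7, a8, a9, -, -, a10, -⟩ := s.eS
  have h0 := nth_mem_clos [s.A, s.A', s.C, s.D, s.X, s.X', s.f * s.d3, s.h, s.w * s.X]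
  obtain ⟨t, e1, e2, e3, e4, e5, e6, e7, e8, -⟩ := s.of_sat (A := s.A) (A' := s.A') (C := s.C) (D := s.D)
    (X := s.X) (X' := s.X') (f := s.f * s.d3) (h := s.h) (w := s.w * s.X)
    (((s.rep.pick [0, 1, 2, 3, 4, 5]).append <| (s.rep.tm (.mul (.v 6) (.v 11))).cons <|
      (s.rep.nth 7).cons <| (s.rep.tm (.mul (.v 8) (.v 4))).cons Cod.repL_nil).sat (by decide +kernel))
    (le_antisymm (clos_le.2 (by simp [mul_mem, *])) (clos_le.2 (by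
      simp only [List.forall_mem_cons]
      exact ⟨h0 0, h0 1, h0 2, h0 3, h0 4, h0 5, (mul_mem_cancel_right (y := s.f) (x := s.d3)
        (mul_mem (h0 4) (h0 5))).1 (h0 6), h0 7, (mul_mem_cancel_right (h0 4)).1 (h0 8), by simp⟩)))
  exact ⟨t, by rw [d1, d1, e1, e2], by rw [d3, d3, e5, e6], by simp only [z, d1, d2, e1, e2, e3, e4], e7, e8⟩

theorem sym_fo : (∀ x ∈ s.Dd, x = 1 ∨ x = s.α ∨ (x = s.d1 ∨ x = s.d2 ∨ x = s.d3) ∨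
      (x * s.α = s.d1 ∨ x * s.α = s.d2 ∨ x * s.α = s.d3)) ∧
    (∀ x ∈ s.Dd, s.X * x = x * s.X ∧ s.A * x = x * s.A) ∧ (s.d1 ∈ s.Dd ∧ s.d2 ∈ s.Dd ∧ s.d3 ∈ s.Dd) ∧
    (∀ x ∈ s.F, (x ∈ s.E ↔ x ∈ s.Dd) ∧ (x * s.α ∈ s.Dd → x ∈ s.Dd) ∧ (s.w * x * s.w⁻¹ ∈ s.Dd → x ∈ s.Dd) ∧
      (s.X * x = x * s.X ∨ s.A * x = x * s.A ∨ s.A * (s.w * x * s.w⁻¹) = s.w * x * s.w⁻¹ * s.A)) ∧
    (∀ x ∈ s.F, x ∉ s.Dd → s.X * x = x * s.X → ∃ k ∈ s.T16, k * x * k⁻¹ = s.f ∨ k * x * k⁻¹ = s.f * s.d3) ∧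
    ∀ x ∈ s.F, x ∉ s.Dd → s.A * x = x * s.A → ∃ k ∈ s.T16, k * x * k⁻¹ = s.h ∨ k * x * k⁻¹ = s.h * s.z :=
  s.hL.decide s.rep (by decide +kernel)

theorem sym_move (c1 : IsConj s.d3 s.d1) (c2 : IsConj s.d3 s.d2) {g Y Y' : G} (hg : g ∈ s.NF)
    (hY : ∀ x ∈ s.Dd, Y * x = x * Y)
    (h : ∀ x ∈ s.F, Y * x = x * Y → Y' * (g * x * g⁻¹) = g * x * g⁻¹ * Y')
    (hx : ∃ x ∈ s.F, x ∉ s.Dd ∧ IsConj s.d3 x ∧ Y * x = x * Y) :
    ∃ x ∈ s.F, x ∉ s.Dd ∧ IsConj s.d3 x ∧ Y' * x = x * Y' := by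
  by_contra hc
  have k : ∀ x ∈ s.F, IsConj s.d3 x → Y * x = x * Y → g * x * g⁻¹ ∈ s.Dd := fun x h1 h2 h3 => by
    by_contra h4
    exact hc ⟨_, s.sym_nF hg h1, h4, h2.trans (isConj_iff.2 ⟨g, rfl⟩), h x h1 h3⟩
  obtain ⟨x, h1, h2, h3, h4⟩ := hx
  obtain ⟨-, -, f1, f2, f3, -⟩ := s.eF
  obtain ⟨m1, m2, m3⟩ := s.sym_fo.2.2.1
  have e : cj g s.Dd = s.Dd := cj_eq_of_le fun y hy => by
    simpa [mul_assoc] using conj_clos_mem (g := g) (R := s.Dd) (by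
      simp only [List.forall_mem_cons]
      exact ⟨k _ f1 c1 (hY _ m1), k _ f2 c2 (hY _ m2), k _ f3 (IsConj.refl _) (hY _ m3), by simp⟩) _ (mem_cj.1 hy)
  have := k x h1 h3 h4
  rw [← e, mem_cj] at this
  exact h2 (by simpa [mul_assoc] using this)

theorem exists_sym6 (h1 : ∃ g ∈ s.NF, g * s.d3 * g⁻¹ = s.d1 ∧
      ∀ x ∈ s.F, (s.X * x = x * s.X ↔ s.A * (g * x * g⁻¹) = g * x * g⁻¹ * s.A))
    (h2 : ∃ n ∈ s.NF, ∃ x ∈ s.F, x ∉ s.E ∧ n * x * n⁻¹ ∈ s.E) : ∃ t : Crt G, t.Sym6 := by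
  obtain ⟨g, hg, e, hc⟩ := h1
  obtain ⟨o1, o2, -, o4, o5, o6⟩ := s.sym_fo
  have c1 : IsConj s.d3 s.d1 := isConj_iff.2 ⟨g, e⟩
  have c2 : IsConj s.d3 s.d2 := c1.trans (isConj_iff.2 ⟨_, s.sym_lett.2.2⟩)
  have c3 : ∀ {y : G}, y = s.d1 ∨ y = s.d2 ∨ y = s.d3 → IsConj s.d3 y := by
    rintro _ (rfl | rfl | rfl)
    exacts [c1, c2, IsConj.refl _]
  have a1 : ∃ x ∈ s.F, x ∉ s.Dd ∧ IsConj s.d3 x := by
    obtain ⟨n, hn, x, hx, hE, h⟩ := h2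
    have hD : x ∉ s.Dd := fun k => hE ((o4 x hx).1.2 k)
    rcases o1 _ ((o4 _ (s.sym_nF hn hx)).1.1 h) with k | k | k | k
    · exact absurd (conj_eq_one_iff.1 k ▸ one_mem _) hE
    · rw [← s.fixA n hn, mul_left_inj, mul_right_inj] at k
      exact absurd (k ▸ s.α_E) hE
    · exact ⟨x, hx, hD, (c3 k).trans (isConj_iff.2 ⟨n, rfl⟩).symm⟩
    · refine ⟨x * s.α, mul_mem hx s.α_F, fun k => hD ((o4 x hx).2.1 k), (c3 k).trans (isConj_iff.2 ⟨n, ?_⟩).symm⟩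
      rw [conj_mul', s.fixA n hn]
  have mv1 := s.sym_move c1 c2 hg (fun x hx => (o2 x hx).1) fun x hx => (hc x hx).1
  have mv2 := s.sym_move c1 c2 (inv_mem hg) (Y' := s.X) (fun x hx => (o2 x hx).2) fun x hx h =>
    (hc _ (s.sym_nF (inv_mem hg) hx)).2 (by simpa [mul_assoc] using h)
  have a2 : (∃ x ∈ s.F, x ∉ s.Dd ∧ IsConj s.d3 x ∧ s.X * x = x * s.X) ∨
      ∃ x ∈ s.F, x ∉ s.Dd ∧ IsConj s.d3 x ∧ s.A * x = x * s.A := by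
    obtain ⟨x, h1, h2, h3⟩ := a1
    rcases (o4 x h1).2.2.2 with k | k | k
    · exact Or.inl ⟨x, h1, h2, h3, k⟩
    · exact Or.inr ⟨x, h1, h2, h3, k⟩
    · exact Or.inr ⟨_, s.S_norm_F _ s.eS.2.2.2.2.2.2.2.2.1 x h1, fun k => h2 ((o4 x h1).2.2.1 k),
        h3.trans (isConj_iff.2 ⟨_, rfl⟩), k⟩
  obtain ⟨x, x1, x2, x3, x4⟩ := a2.elim id mv2
  obtain ⟨y, y1, y2, y3, y4⟩ := a2.elim mv1 id
  obtain ⟨k, -, hk⟩ := o5 x x1 x2 x4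
  obtain ⟨l, -, hl⟩ := o6 y y1 y2 y4
  have b1 := hk.imp (fun e => x3.trans (isConj_iff.2 ⟨k, e⟩)) fun e => x3.trans (isConj_iff.2 ⟨k, e⟩)
  have b2 := hl.imp (fun e => y3.trans (isConj_iff.2 ⟨l, e⟩)) fun e => y3.trans (isConj_iff.2 ⟨l, e⟩)
  have fin : ∀ t : Crt G, IsConj t.d3 t.d1 → IsConj t.d3 t.f → IsConj t.d3 t.h ∨ IsConj t.d3 (t.h * t.z) →
      ∃ t : Crt G, t.Sym6 := by
    rintro t d1 d2 (d3 | d3)
    · exact ⟨t, t.sym_six d1 d2 d3⟩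
    · obtain ⟨r, e1, e2, e3, e4⟩ := t.sym_tw1
      exact ⟨r, r.sym_six (by rwa [e1, e2]) (by rwa [e2, e3]) (by rwa [e2, e4])⟩
  rcases b1 with b1 | b1
  · exact fin s c1 b1 b2
  · obtain ⟨r, e1, e2, e3, e4, e5⟩ := s.sym_tw2
    exact fin r (by rwa [e1, e2]) (by rwa [e2, e4]) (by rwa [e2, e3, e5])

end Crt

end Cfsg.Agent.O7
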