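import Mathlib
import Cfsg.Agent.O7.Fus
import Cfsg.Agent.O7.LabG
import Cfsg.Agent.Yam.FusB

/-! The second case: labels, the class of `d3`, the chart in the centraliser. -/

set_option autoImplicit false
set_option synthInstance.maxSize 100000
set_option synthInstance.maxHeartbeats 1000000
set_option linter.unusedSectionVars false

namespace Cfsg.Agent.O7

open Cfsg.Agent.Spor Cfsg.Agent.Rec Cfsg.Agent.Inv.Fz Cfsg.Agent.Yam Subgroup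
open Cfsg.Agent.Rec.X32.I (conj_conj conj_symm conj_mul')

universe u

variable {G : Type u} [Group G] [Finite G]

namespace Crt

variable (s : Crt G)

/-- The class representatives as products of labels. -/
theorem two_pr : s.d3 = pr s.a {4, 5} ∧ s.A * s.d3 = pr s.a {0, 4, 5, 6} ∧ s.A * s.C * s.d3 = pr s.a {0, 2, 4, 5} ∧
    s.A * s.C * s.X = pr s.a {0, 2, 4, 6} ∧ s.A * s.C * s.X' = pr s.a {0, 2, 5, 6} :=
  ⟨((s.rep.nth 11).eq_iff (s.rep_pr _)).1 (by decide +kernel),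
    (((s.rep.nth 0).mul (s.rep.nth 11)).eq_iff (s.rep_pr _)).1 (by decide +kernel),
    ((((s.rep.nth 0).mul (s.rep.nth 2)).mul (s.rep.nth 11)).eq_iff (s.rep_pr _)).1 (by decide +kernel),
    ((((s.rep.nth 0).mul (s.rep.nth 2)).mul (s.rep.nth 4)).eq_iff (s.rep_pr _)).1 (by decide +kernel),
    ((((s.rep.nth 0).mul (s.rep.nth 2)).mul (s.rep.nth 5)).eq_iff (s.rep_pr _)).1 (by decide +kernel)⟩

theorem two_lett : s.X * s.α * (s.X' * s.α) = s.d3 ∧ s.X * s.α * s.α = s.X ∧ s.A * s.α * (s.C * s.α) = s.A * s.C ∧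
    s.d3 ≠ 1 ∧ s.α ∉ s.cdda := s.hL.decide s.rep (by decide +kernel)

theorem two_cos : ∀ x ∈ s.S, x * x = 1 → x ∉ s.E → ¬ (x ∈ s.cd ∨ x ∈ s.ca ∨ x ∈ s.caa) →
    ∀ p ∈ s.E, (p = s.α ∨ p ∈ s.cdda) → x * p = p * x → ∀ q ∈ s.E, (q = s.α ∨ q ∈ s.cdda) → x * q = q * x → p ≠ q →
    ∀ r ∈ s.E, (r = s.α ∨ r ∈ s.cdda) → x * r = r * x → q ≠ r → p ≠ r →
      Let (x * (p * q)) fun y1 => Let (x * (q * r)) fun y2 => Let (x * (p * r)) fun y3 =>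
        ¬ (((y1 ∈ s.cd ∨ y1 ∈ s.ca ∨ y1 ∈ s.caa) ↔ (y2 ∈ s.cd ∨ y2 ∈ s.ca ∨ y2 ∈ s.caa)) ∧
          ((y2 ∈ s.cd ∨ y2 ∈ s.ca ∨ y2 ∈ s.caa) ↔ (y3 ∈ s.cd ∨ y3 ∈ s.ca ∨ y3 ∈ s.caa))) :=
  s.hL.decide s.rep (by decide +kernel)

theorem a_cls (i : Fin 7) : s.a i = s.α ∨ s.a i ∈ s.cdda := by
  refine Fin.lastCases (motive := fun i => s.a i = s.α ∨ s.a i ∈ s.cdda) (.inl rfl) (fun j => ?_) i
  exact .inr (s.mem_cdda.2 ⟨j, rfl⟩)

theorem cb_S {x : G} (h : x ∈ s.cb) : x ∈ s.S := by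
  rcases h with h | h | h <;> exact h.1

variable {s}

theorem Two.gl0 (h : s.Two) : Gl0 s.a s.S where
  lab := s.lab
  syl := s.syl
  card := s.gS.2
  le i := s.E_le_S (s.a_E i)
  act := s.act_d8
  ker k hk c := s.EE_a ▸ s.cenE k hk fun x hx => by
    obtain ⟨J, -, rfl⟩ := s.lab.mem_EE_iff.1 (s.EE_a ▸ hx)
    exact comm_pr_of fun i _ => c i
  e1 := ⟨_, s.eS.2.2.2.2.2.2.1, s.acts.1⟩
  e2 := ⟨_, s.eS.2.2.2.2.2.2.2.1, s.acts.2.1⟩
  e3 := ⟨_, s.eS.2.2.2.2.2.2.2.2.1, s.acts.2.2⟩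
  e4 := let ⟨r, _, k⟩ := h.w.exists_r; ⟨r, k⟩
  iso g hg := (h.iso _ hg (isConj_iff.2 ⟨g, rfl⟩)).elim (fun e => ⟨6, e⟩) fun e =>
    let ⟨_, e⟩ := s.mem_cdda.1 e; ⟨_, e⟩
  mv := h.nrm.1

theorem Two.beta (h : s.Two) : ∀ x ∈ s.S, IsConj s.d3 x ↔ x ∈ s.cb := by
  obtain ⟨c1, c2, c3, c4, c5, c6, c7, c8, c9⟩ := h.w.cls
  obtain ⟨l1, l2, l3, l4, -⟩ := s.two_lett
  obtain ⟨p0, p1, p2, p3, p4⟩ := s.two_pr
  have k : ∀ {x y : G}, (∃ n ∈ s.NF, n * x * n⁻¹ = y) → IsConj x y := fun ⟨n, _, e⟩ => isConj_iff.2 ⟨n, e⟩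
  have t : ∀ i j, i ≠ j → IsConj s.d3 (s.a i * s.a j) := fun i j hij => by
    obtain ⟨g, σ, a, rfl, rfl⟩ := h.gl0.tr2 4 5 i j (by decide) hij
    exact isConj_iff.2 ⟨g, by rw [← l1, ← a, ← a, conj_mul]; rfl⟩
  have w : ∀ {J : Finset (Fin 7)} {x y : G}, J.card = 4 → y = pr s.a J → IsConj s.d3 x →
      ¬ ∃ n ∈ s.NF, n * y * n⁻¹ = x := fun {J x y} hJ e c c' => by
    have := h.gl0.wt (I := {4, 5}) (J := J) (by decide) (by rw [hJ]; decide) (p0 ▸ e ▸ c.trans (k c').symm)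
    rw [hJ] at this
    exact absurd this (by decide)
  refine fun x hx => ⟨fun c => ?_, ?_⟩
  · have x2 : x * x = 1 := by
      obtain ⟨g, rfl⟩ := isConj_iff.1 c
      rw [conj_mul, s.sq.2.2.2.2.2.2.2.2.2.2.2.1, mul_one, mul_inv_cancel]
    rcases s.inv_S x hx x2 with rfl | rfl | m | m | m | m | m | m | m | m | m
    · exact absurd (isConj_one_left.1 c) l4
    · exact absurd c.symm s.α_not_d3
    · exact .inl m
    · exact absurd (c.trans (k (c2 x m)).symm) s.d_not_z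
    · exact .inr (.inl m)
    · exact absurd ((h.nrm.1.trans (k (c4 x m))).trans c.symm) s.α_not_d3
    · exact absurd (c5 x m) (w (by decide) p1 c)
    · exact .inr (.inr m)
    · exact absurd (c7 x m) (w (by decide) p2 c)
    · exact absurd (c8 x m) (w (by decide) p3 c)
    · exact absurd (c9 x m) (w (by decide) p4 c)
  · rintro (m | m | m)
    · exact k (c1 x m)
    · exact (l2 ▸ t 4 6 (by decide) : IsConj s.d3 s.X).trans (k (c3 x m))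
    · exact (l3 ▸ t 0 2 (by decide) : IsConj s.d3 (s.A * s.C)).trans (k (c6 x m))

theorem Two.gl (h : s.Two) : Gl s.a s.S := by
  refine ⟨h.gl0, fun x hx x2 n i j k hij hjk hik ci cj ck e1 e2 => ?_⟩
  have m : ∀ i j, x * (s.a i * s.a j) ∈ s.S := fun i j => mul_mem hx (mul_mem (h.gl0.le i) (h.gl0.le j))
  have t : ∀ {y y' : G}, y ∈ s.S → y' ∈ s.S → IsConj y y' → (y ∈ s.cb ↔ y' ∈ s.cb) := fun hy hy' c => by
    rw [← h.beta _ hy, ← h.beta _ hy']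
    exact ⟨fun a => a.trans c, fun a => a.trans c.symm⟩
  change IsConj (s.X * s.α * (s.X' * s.α)) x
  rw [s.two_lett.1, h.beta x hx]
  by_contra b
  exact s.two_cos x hx x2 (s.EE_a ▸ n) b _ (s.a_E i) (s.a_cls i) ci _ (s.a_E j) (s.a_cls j) cj (s.lab.inj.ne hij)
    _ (s.a_E k) (s.a_cls k) ck (s.lab.inj.ne hjk) (s.lab.inj.ne hik) ⟨t (m i j) (m j k) e1, t (m j k) (m i k) e2⟩

/-- The chart in the quotient of the centraliser of `α`. -/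
theorem exists_quo_chart (s : Crt G) {Y : Type u} [Group Y] {π : G → Y} (q : P4.Quo s.α π) :
    ∃ t : Crt Y, (∀ y, y ∈ t.S ↔ ∃ x ∈ s.S, π x = y) ∧ ∀ a, ∀ x ∈ s.S, s.cod.Rep a x → t.cod.Rep a (π x) := by
  have : Fact (Nat.Prime 2) := ⟨Nat.prime_two⟩
  have := q.finite
  have e : (q.hom.comp (inclusion s.sylα.le)).range = (s.S.subgroupOf _).map q.hom := by
    rw [MonoidHom.range_comp, inclusion_range]
  obtain ⟨t, h1, h2⟩ := s.transport (q.hom.comp (inclusion s.sylα.le))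
    (fun x y e => Subtype.ext (q.inj_two s.pS s.sylα.le x.2 y.2 e)) (by
      rw [e]
      let P := s.sylα.toSylow.mapSurjective q.hom_surj
      exact ⟨le_top, P.isPGroup', fun Q hQ _ k => P.is_maximal' hQ k⟩)
  exact ⟨t, fun y => h1 ▸ ⟨fun ⟨x, e⟩ => ⟨x, x.2, e⟩, fun ⟨x, hx, e⟩ => ⟨⟨x, hx⟩, e⟩⟩, fun a x hx k => h2 a ⟨x, hx⟩ k⟩

/-- The map to the Weyl group factors through the quotient by the core of the centraliser. -/
theorem W6.wd {Q : Type u} [Group Q] {r : St Q} {ρ : G → Q} (k : s.W6 r ρ) {n n' : G} (hn : n ∈ s.NF) (hn' : n' ∈ s.NF)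
    (e : n⁻¹ * n' ∈ GW.UU s.α) : ρ n = ρ n' := by
  have := k.finite
  have hw : s.HasW := ⟨Q, _, r, ρ, k⟩
  let φ : s.NF →* Q := MonoidHom.mk' (fun g => ρ g) fun a b => k.mul _ a.2 _ b.2
  have h1 : ((GW.UU s.α).subgroupOf s.NF).Normal := ⟨fun x hx g =>
    conj_mem_of_mem_norm (K := GW.UU s.α) (GT.le_normalizer_pPrimeCoreOf (p := 2) _ (mem_cen'.2 (hw.fix _ g.2))) hx⟩
  have h2 := h1.map φ fun y => let ⟨g, hg, e⟩ := k.surj y; ⟨⟨g, hg⟩, e⟩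
  have h3 := r.odd_fix (O := ((GW.UU s.α).subgroupOf s.NF).map φ) ((GW.odd_card_OO _).of_dvd_nat
    ((card_map_dvd _ _).trans (card_comap_dvd_of_injective _ _ (subtype_injective _)))) (by
      rw [normalizer_eq_top]; exact le_top) (φ ((⟨n, hn⟩ : s.NF)⁻¹ * ⟨n', hn'⟩)) ⟨_, e, rfl⟩
    (mem_cen.1 (r.cent.ge (k.top.ge (mem_top _))))
  rwa [map_mul, map_inv, inv_mul_eq_one] at h3

theorem Two.exists_yc (h : s.Two) {Y : Type u} [Group Y] {π : G → Y} (q : P4.Quo s.α π) :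
    ∃ t : Crt Y, t.Yc ∧ t.a = π ∘ s.a := by
  classical
  have := q.finite
  obtain ⟨t, hS, hr⟩ := s.exists_quo_chart q
  have cS : ∀ {x}, x ∈ s.S → Commute x s.α := s.comm_α
  have cN : ∀ {n}, n ∈ s.NF → Commute n s.α := fun hn => mul_inv_eq_iff_eq_mul.1 (h.w.fix _ hn)
  have eq : ∀ {a x y}, x ∈ s.S → s.cod.Rep a x → t.cod.Rep a y → y = π x := fun hx h1 h2 =>
    (h2.eq_iff (hr _ _ hx h1)).1 rfl
  have ls : ∀ {D K K'}, s.cod.Lists D K → t.cod.Lists D K' → ∀ x ∈ s.S, π x ∈ K' ↔ x ∈ K := fun h1 h2 x hx => by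
    obtain ⟨a, ha⟩ := s.exists_rep hx
    have hb := hr _ _ hx ha
    rw [← hb.2, ← h2.has a hb.1, h1.has a ha.1, ha.2]
  have lf : ∀ D, ∀ x ∈ s.S, π x ∈ flt t.cod t.S D ↔ x ∈ flt s.cod s.S D := fun D =>
    ls (lists_flt s.gS.1) (lists_flt t.gS.1)
  have lb : ∀ x ∈ s.S, π x ∈ t.cb ↔ x ∈ s.cb := fun x hx =>
    or_congr (lf _ x hx) (or_congr (lf _ x hx) (lf _ x hx))
  have lF : ∀ x ∈ s.S, π x ∈ t.F ↔ x ∈ s.F := ls s.gF.1 t.gF.1
  have lift : ∀ {y x x'}, x ∈ s.S → x * x = 1 → x' ∈ s.S → π x' = y * π x * y⁻¹ →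
      ∃ g, Commute g s.α ∧ g * x * g⁻¹ = x' := fun {y x x'} hx x2 hx' e => by
    obtain ⟨g, g1, -, g2⟩ := q.lift_conj x2 (q.inj_two s.pS s.sylα.le (mul_mem hx' hx') (one_mem _) (by
      rw [q.mul _ _ (cS hx') (cS hx'), e, q.one]
      exact conj_sq (q.sq (cS hx) x2))) (cS hx) (cS hx') e.symm
    exact ⟨g, g1, g2⟩
  have n1 : ∀ n ∈ s.NF, π n ∈ t.NF := fun n hn => mem_normalizer_of_conj_mem fun y hy => by
    obtain ⟨x, hx, rfl⟩ := (hS y).1 (t.F_le_S hy)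
    have m := conj_mem_of_mem_norm hn ((lF x hx).1 hy)
    rw [← q.conj (cN hn) (cS hx)]
    exact (lF _ (s.F_le_S m)).2 m
  have n2 : ∀ y ∈ t.NF, ∃ n ∈ s.NF, π n = y := fun y hy => by
    obtain ⟨g, -, g2⟩ := q.lift_norm (s.pS.to_le s.F_le_S) (s.F_le_S.trans s.sylα.le) (x := y) fun p hp => by
      have m := conj_mem_of_mem_norm hy ((lF p (s.F_le_S hp)).2 hp)
      obtain ⟨x, hx, e⟩ := (hS _).1 (t.F_le_S m)
      exact ⟨x, (lF x hx).1 (e ▸ m), e.symm⟩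
    exact ⟨g, g2⟩
  refine ⟨t, ⟨fun y => ?_, ?_, ?_, fun y x hx m => ?_, fun y x hx m => ?_⟩,
    funext fun i => eq (h.gl0.le i) (s.rep_a i) (t.rep_a i)⟩
  · rw [show t.α = π s.α from eq s.α_S (s.rep.nth 13) (t.rep.nth 13)]
    exact q.central y
  · have := GT.map_pPrimeCore_of_surjective q.hom_surj q.coprime_ker
    rw [eq_bot_iff, oddCore, ← this, ← GT.pPrimeCoreOf_subgroupOf, ← q.hom_ker]
    exact ((Subgroup.map_eq_bot_iff _).2 le_rfl).le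
  · obtain ⟨Q, _, r, ρ, k⟩ := h.w
    let ρ' : Y → Q := fun y => if e : ∃ n ∈ s.NF, π n = y then ρ e.choose else 1
    have key : ∀ n ∈ s.NF, ρ' (π n) = ρ n := fun n hn => by
      have e : ∃ n' ∈ s.NF, π n' = π n := ⟨n, hn, rfl⟩
      exact (dif_pos e).trans (k.wd e.choose_spec.1 hn ((q.eq_iff (cN e.choose_spec.1) (cN hn)).1 e.choose_spec.2))
    refine ⟨Q, _, r, ρ', fun g hg g' hg' => ?_, fun y => ?_, fun g hg e => ?_, k.top, ?_⟩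
    · obtain ⟨n, hn, rfl⟩ := n2 g hg
      obtain ⟨n', hn', rfl⟩ := n2 g' hg'
      rw [← q.mul _ _ (cN hn) (cN hn'), key _ (mul_mem hn hn'), key _ hn, key _ hn', k.mul _ hn _ hn']
    · obtain ⟨n, hn, rfl⟩ := k.surj y
      exact ⟨_, n1 n hn, key n hn⟩
    · obtain ⟨n, hn, rfl⟩ := n2 g hg
      exact q.odd_of_odd (cN hn) (k.ker n hn (key n hn ▸ e))
    · have l : ∀ {a x y}, x ∈ s.S → s.cod.Rep a x → t.cod.Rep a y → ρ' y = ρ x := fun hx h1 h2 =>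
        eq hx h1 h2 ▸ key _ (s.S_le_NF hx)
      obtain ⟨m0, m1, m2, m3, m4, m5, m6, m7, m8, -⟩ := s.eS
      rw [← k.lett]
      simp only [List.map_cons, List.map_nil, List.cons.injEq, and_true]
      exact ⟨l m0 (s.rep.nth 0) (t.rep.nth 0), l m1 (s.rep.nth 1) (t.rep.nth 1), l m2 (s.rep.nth 2) (t.rep.nth 2),
        l m3 (s.rep.nth 3) (t.rep.nth 3), l m4 (s.rep.nth 4) (t.rep.nth 4), l m5 (s.rep.nth 5) (t.rep.nth 5),
        l m6 (s.rep.nth 6) (t.rep.nth 6), l m7 (s.rep.nth 7) (t.rep.nth 7), l m8 (s.rep.nth 8) (t.rep.nth 8)⟩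
  · obtain ⟨x, hx', rfl⟩ := (hS x).1 hx.1
    obtain ⟨x', m', e⟩ := (hS _).1 m
    have c := (lf _ x hx').1 hx
    obtain ⟨i, rfl⟩ := s.mem_cdda.1 c
    obtain ⟨g, g1, g2⟩ := lift hx' (s.lab.sq _) m' e
    rw [← e]
    refine (lf _ x' m').2 ((h.iso x' m' ((h.gl0.conj _).trans (isConj_iff.2 ⟨g, g2⟩))).resolve_left fun e' => ?_)
    rw [e', mul_inv_eq_iff_eq_mul, ← g1.eq, mul_right_inj] at g2
    exact s.two_lett.2.2.2.2 (g2 ▸ c)
  · obtain ⟨x, hx', rfl⟩ := (hS x).1 (t.cb_S hx)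
    obtain ⟨x', m', e⟩ := (hS _).1 m
    have c := (h.beta x hx').2 ((lb x hx').1 hx)
    obtain ⟨g, -, g2⟩ := lift hx' (by
      obtain ⟨g, rfl⟩ := isConj_iff.1 c
      exact conj_sq s.sq.2.2.2.2.2.2.2.2.2.2.2.1) m' e
    rw [← e]
    exact (lb x' m').2 ((h.beta x' m').1 (c.trans (isConj_iff.2 ⟨g, g2⟩)))

end Crt

end Cfsg.Agent.O7
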