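import Mathlib
import Cfsg.Agent.O7.Rel
import Cfsg.Agent.GT.Gaschutz

/-! The normaliser of `F` is a Weyl group modulo its core -/

set_option autoImplicit false
set_option synthInstance.maxSize 100000
set_option synthInstance.maxHeartbeats 1000000
set_option linter.unusedSectionVars false

namespace Cfsg.Agent.O7

open Cfsg.Agent.Spor Cfsg.Agent.Rec Cfsg.Agent.Inv.Fz Cfsg.Agent.Yam Subgroup
open Cfsg.Agent.Rec.X32.I (conj_conj conj_symm conj_mul')

universe u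

variable {G : Type u} [Group G] [Finite G]

namespace Wey

open Equiv

/-- Letters from six elements satisfying the Coxeter relations and generating a group of order `23040`. -/
theorem st_of_sat {A B C F X A' : G} (hs : Sat rel6 [A, B, C, F, X, A']) (hc : clos [A, B, C, F, X, A'] = ⊤)
    (hN : 23040 ≤ Nat.card G) : ∃ t : St G, t.H = ⊤ := by
  obtain ⟨r, -⟩ := exists_st12
  have h0 : r.cod.RepL (c7.take 6) [r.A, r.B, r.C, r.F, r.X, r.A'] := r.rep0.take 6
  have e0 : r.α = r.z * r.d3 := Cod.listsL_nil.decide r.rep (by decide +kernel)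
  have h1 : clos [r.A, r.B, r.C, r.F, r.X, r.A'] = r.H := by
    refine le_antisymm (clos_le.2 (by simp [r.eH])) (clos_le.2 ?_)
    simp only [List.forall_mem_cons, List.not_mem_nil, false_imp_iff, implies_true, and_true]
    refine ⟨mem_clos (by simp), mem_clos (by simp), mem_clos (by simp), mem_clos (by simp), mem_clos (by simp),
      mem_clos (by simp), ?_⟩
    rw [e0]
    unfold St.z St.d1 St.d2 St.d3 St.X' St.D St.w
    repeat first | apply mul_mem | exact mem_clos (by simp)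
  obtain ⟨C', h⟩ := pres6.cod_of_card h0 (h0.sat (by decide +kernel)) rfl (by rw [h1, r.cardH]) (by norm_num) hs rfl
    (by rw [hc, card_top]; exact hN)
  obtain ⟨α, hα⟩ : ∃ α, C'.Rep (nth 0 c7 6) α := ⟨_, h.term (A * A' * (C * (B * A * C * B * A' * (B * A * C * B))) *
    (X * (F * C * X * F * (B * A * C * B * A' * (B * A * C * B)) * (F * C * X * F)))) (by decide +kernel)⟩
  have h7 : C'.RepL c7 [A, B, C, F, X, A', α] := h.append (c' := c7.drop 6) (hα.cons Cod.repL_nil)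
  have hH : clos [A, B, C, F, X, A', α] = ⊤ := top_unique (hc.ge.trans (clos_le.2 fun x hx =>
    mem_clos (List.mem_append_left [α] hx)))
  have k : A * α = α * A ∧ B * α = α * B ∧ C * α = α * C ∧ F * α = α * F ∧ X * α = α * X ∧ A' * α = α * A' :=
    Cod.listsL_nil.decide h7 (by decide +kernel)
  refine ⟨⟨A, B, C, F, X, A', α, C', h7, hH ▸ top_unique (hc.ge.trans (clos_le.2 ?_))⟩, hH⟩
  simpa only [List.forall_mem_cons, List.not_mem_nil, false_imp_iff, implies_true, and_true, mem_cen] using k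

/-- A split extension of the even sign changes by the symmetric group. -/
theorem st_of_split (ρ : G →* Perm (Fin 6)) (k : Perm (Fin 6) →* G) (hk : ∀ σ, ρ (k σ) = σ)
    (τ : Fin 6 → Fin 6 → G) (act : ∀ q i j, q * τ i j * q⁻¹ = τ (ρ q i) (ρ q j))
    (tr : ∀ i j l, τ i j * τ j l = τ i l) (symm : ∀ i j, τ i j = τ j i)
    (gen : ∀ L : Subgroup G, (∀ σ : Perm (Fin 6), τ (σ 0) (σ 1) ∈ L) → ρ.ker ≤ L) (hc : 32 ≤ Nat.card ρ.ker) :
    ∃ t : St G, t.H = ⊤ := by
  have one : ∀ i, τ i i = 1 := fun i => mul_eq_left.1 (tr i i i)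
  have mv : ∀ σ i j x, τ i j * (k σ * x) = k σ * (τ (σ⁻¹ i) (σ⁻¹ j) * x) := fun σ i j x => by
    have := act (k σ)⁻¹ i j
    rw [← map_inv, hk] at this
    rw [← this, map_inv]; group
  have mm : ∀ σ σ' x, k σ * (k σ' * x) = k (σ * σ') * x := fun σ σ' x => by rw [map_mul, mul_assoc]
  have fin1 : ∀ σ, σ = 1 → k σ * 1 = 1 := fun σ e => by rw [e, map_one, mul_one]
  have fin2 : ∀ σ i j, σ = 1 → ((i = 0 ∧ j = 1) ∨ (i = 1 ∧ j = 0)) → k σ * (τ i j * (τ 0 1 * 1)) = 1 := by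
    rintro σ i j rfl (⟨rfl, rfl⟩ | ⟨rfl, rfl⟩)
    · rw [map_one, one_mul, mul_one, symm 0 1, (symm 1 0 ▸ tr 0 1 0 : τ 1 0 * τ 1 0 = τ 0 0), one]
    · rw [map_one, one_mul, mul_one, tr, one]
  have fin3 : ∀ σ i j i' j', σ = 1 → (i = 2 ∧ j = 0 ∧ i' = 1 ∧ j' = 2) →
      k σ * (τ i j * (τ i' j' * (τ 0 1 * 1))) = 1 := by
    rintro σ i j i' j' rfl ⟨rfl, rfl, rfl, rfl⟩
    rw [map_one, one_mul, mul_one, symm 2 0, symm 1 2, ← mul_assoc, tr, symm 0 1,
      (symm 1 0 ▸ tr 0 1 0 : τ 1 0 * τ 1 0 = τ 0 0), one]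
  refine st_of_sat (A := k (swap 0 1)) (B := k (swap 1 2)) (C := k (swap 2 3)) (F := k (swap 3 4))
    (X := k (swap 4 5)) (A' := k (swap 0 1) * τ 0 1) ?_ (top_unique fun q _ => ?_) ?_
  · simp only [rel6, sat_cons, sat_nil, and_true, evalW_cons, evalW_nil, nth_zero, nth_succ, mul_assoc, mv, mm]
    refine ⟨?_, ?_, ?_, ?_, ?_, ?_, ?_, ?_, ?_, ?_, ?_, ?_, ?_, ?_, ?_, ?_, ?_, ?_, ?_, ?_, ?_⟩
    all_goals first
      | exact fin1 _ (by decide)
      | exact fin2 _ _ _ (by decide) (by decide)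
      | exact fin3 _ _ _ _ _ (by decide) (by decide)
  · set L := clos [k (swap 0 1), k (swap 1 2), k (swap 2 3), k (swap 3 4), k (swap 4 5), k (swap 0 1) * τ 0 1]
    have h1 : ∀ σ, k σ ∈ L := fun σ => by
      have : (⊤ : Submonoid (Perm (Fin 6))) ≤ (L.comap k).toSubmonoid := by
        rw [← Perm.mclosure_swap_castSucc_succ 5, Submonoid.closure_le]
        rintro _ ⟨i, rfl⟩
        fin_cases i <;> exact mem_clos (by simp)
      exact this (Submonoid.mem_top σ)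
    have h2 : τ 0 1 ∈ L := (mul_mem_cancel_left (h1 (swap 0 1))).1 (mem_clos (by simp))
    have h3 := gen L fun σ => by
      have := mul_mem (mul_mem (h1 σ) h2) (inv_mem (h1 σ))
      rwa [act, hk] at this
    exact (mul_mem_cancel_right (inv_mem (h1 (ρ q)))).1 (h3 (by rw [MonoidHom.mem_ker, map_mul, map_inv, hk, mul_inv_cancel]))
  · have h1 := ρ.ker.card_mul_index
    rw [index_ker, MonoidHom.range_eq_top.2 fun σ => ⟨k σ, hk σ⟩, card_top, Nat.card_perm, Nat.card_fin] at h1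
    rw [show Nat.factorial 6 = 720 from rfl] at h1
    omega

/-- A section from a complement. -/
theorem exists_section {Y : Type*} [Group Y] (ρ : G →* Y) (hρ : Function.Surjective ρ) {H : Subgroup G}
    (h : ρ.ker.IsComplement' H) : ∃ k : Y →* G, ∀ σ, ρ (k σ) = σ := by
  have hb : Function.Bijective (ρ.comp H.subtype) := by
    refine ⟨(injective_iff_map_eq_one _).2 fun x hx => Subtype.ext (h.disjoint.le_bot ⟨hx, x.2⟩), fun y => ?_⟩
    obtain ⟨q, rfl⟩ := hρ y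
    obtain ⟨⟨a, b⟩, rfl⟩ := h.2 q
    exact ⟨b, by rw [map_mul, show ρ a = 1 from a.2, one_mul]; rfl⟩
  exact ⟨H.subtype.comp (MulEquiv.ofBijective _ hb).symm.toMonoidHom, (MulEquiv.ofBijective _ hb).apply_symm_apply⟩

variable {s : Crt G}

theorem act_unique {g : G} {π π' : Perm (Fin 6)} (h : s.ActF g π) (h' : s.ActF g π') : π = π' := by
  ext1 i
  have k : ∀ j, j ≠ i → π i = π' i ∨ π i = π' j := fun j hj => by
    rcases s.tau_eq_iff.1 ((h i j).symm.trans (h' i j)) with e | e | e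
    exacts [absurd (π.injective e.1).symm hj, .inl e.1, .inr e.1]
  have n : ∀ i : Fin 6, i + 1 ≠ i ∧ i + 2 ≠ i ∧ i + 1 ≠ i + 2 := by decide
  rcases k _ (n i).1 with e | e
  · exact e
  · exact (k _ (n i).2.1).resolve_right fun e' => (n i).2.2 (π'.injective (e.symm.trans e'))

theorem act_mul {g g' : G} {π π' : Perm (Fin 6)} (h : s.ActF g π) (h' : s.ActF g' π') : s.ActF (g * g') (π * π') :=
  fun i j => by
    rw [show g * g' * s.tau i j * (g * g')⁻¹ = g * (g' * s.tau i j * g'⁻¹) * g⁻¹ by group, h', h]; rfl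

theorem F_le {L : Subgroup G} (h : ∀ σ : Perm (Fin 6), s.tau (σ 0) (σ 1) ∈ L) : s.F ≤ L := by
  obtain ⟨e1, e2, e3, e4, e5⟩ := s.tau_lett
  refine clos_le.2 ?_
  simp only [List.forall_mem_cons, List.not_mem_nil, false_imp_iff, implies_true, and_true]
  exact ⟨e1 ▸ h 1, e2 ▸ h (swap 0 2 * swap 1 3), e3 ▸ h (swap 0 4 * swap 1 5), e4 ▸ h (swap 1 2), e5 ▸ h (swap 1 5)⟩

theorem act_one {g : G} : s.ActF g 1 ↔ g ∈ centralizer (s.F : Set G) :=
  ⟨fun h _ hx => (mem_cen.1 (F_le (L := centralizer {g})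
    (fun σ => mem_cen.2 (mul_inv_eq_iff_eq_mul.1 (h (σ 0) (σ 1))).symm) hx)),
    fun h i j => mul_inv_eq_iff_eq_mul.2 (h _ (s.tau_F i j)).symm⟩

/-- The centraliser of `F` is the product of `F` and a normal subgroup of odd order. -/
theorem exists_core (s : Crt G) : ∃ O : Subgroup G, O ≤ centralizer (s.F : Set G) ∧ s.NF ≤ normalizer (O : Set G) ∧
    (Nat.card O).Coprime 2 ∧ ∀ c ∈ centralizer (s.F : Set G), ∃ a ∈ s.F, ∃ b ∈ O, c = a * b := by
  have hn : s.NF ≤ normalizer ((centralizer (s.F : Set G) : Subgroup G) : Set G) := fun g hg =>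
    mem_normalizer_fintype fun c hc x hx => by
      have := hc _ (conj_mem_of_mem_norm (inv_mem hg) hx)
      calc x * (g * c * g⁻¹) = g * (g⁻¹ * x * g⁻¹⁻¹ * c) * g⁻¹ := by group
        _ = _ := by rw [this]; group
  have h1 := (s.syl' s.S_le_NF).inf_of_le_normalizer (centralizer_le_normalizer _) hn
  have h2 : s.S ⊓ centralizer (s.F : Set G) = s.F := le_antisymm
    (fun k hk => s.cenF k hk.1 fun x hx => (hk.2 x hx).symm) (le_inf s.F_le_S fun x hx y hy => s.F_comm y hy x hx)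
  rw [h2] at h1
  obtain ⟨O, o1, o2, o3, o4⟩ := exists_complement h1 fun g hg _ v hv => (hg v hv).symm
  refine ⟨O, o1, fun g hg => mem_normalizer_fintype fun x hx => o4 _ (conj_mem_of_mem_norm (hn hg) (o1 hx)) ?_, o3,
    fun c hc => h1.exists_mul_of_pow_mem o1 o2 (fun g hg => ?_) hc⟩
  · rw [← MulAut.conj_apply, MulEquiv.orderOf_eq]
    exact o3.coprime_dvd_left (orderOf_dvd_natCard O hx)
  · obtain ⟨k, hk⟩ := exists_pow_coprime (p := 2) g
    exact ⟨k, o4 _ (pow_mem hg _) hk⟩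

end Wey

open Wey

namespace Crt

variable (s : Crt G)

theorem Sym6.hasW {s : Crt G} (h : s.Sym6) : ∃ t : Crt G, t.HasW := by
  classical
  obtain ⟨O, o1, o2, o3, o4⟩ := exists_core s
  choose ρ1 hρ1 using h.act
  let ρ0 : s.NF →* Equiv.Perm (Fin 6) := MonoidHom.mk' (fun n => ρ1 n n.2) fun a b =>
    act_unique (hρ1 _ (a * b).2) (act_mul (hρ1 _ a.2) (hρ1 _ b.2))
  have a0 : ∀ n : s.NF, s.ActF n (ρ0 n) := fun n => hρ1 n n.2
  have k0 : ∀ n : s.NF, ρ0 n = 1 ↔ (n : G) ∈ centralizer (s.F : Set G) := fun n =>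
    ⟨fun e => act_one.1 (e ▸ a0 n), fun e => act_unique (a0 n) (act_one.2 e)⟩
  have : (O.subgroupOf s.NF).Normal := ⟨fun x hx g => by
    have hx' : (x : G) ∈ O := hx
    have := conj_mem_of_mem_norm (o2 g.2) hx'
    exact this⟩
  let φ := QuotientGroup.mk' (O.subgroupOf s.NF)
  have hφ : Function.Surjective φ := QuotientGroup.mk'_surjective _
  have kφ : ∀ x, φ x = 1 ↔ (x : G) ∈ O := fun x => QuotientGroup.eq_one_iff x
  let ρ := QuotientGroup.lift (O.subgroupOf s.NF) ρ0 fun x hx => (k0 x).2 (o1 hx)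
  have hρ : ∀ x, ρ (φ x) = ρ0 x := fun x => rfl
  have inj : ∀ x y : s.NF, (x : G) ∈ s.S → (y : G) ∈ s.S → φ x = φ y → x = y := fun x y hx hy e => by
    have h1 : ((x⁻¹ * y : s.NF) : G) ∈ O := (kφ _).1 (by rw [map_mul, map_inv, e, inv_mul_cancel])
    have h2 : Disjoint O s.S := disjoint_of_coprime_natCard (by rw [s.gS.2]; exact o3.pow_right 9)
    exact inv_mul_eq_one.1 (Subtype.ext (h2.le_bot (mem_inf.2 ⟨h1, s.S.mul_mem (s.S.inv_mem hx) hy⟩)))
  have ker : ρ.ker = (s.F.subgroupOf s.NF).map φ := by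
    refine le_antisymm (fun q hq => ?_) ?_
    · obtain ⟨n, rfl⟩ := hφ q
      obtain ⟨a, ha, b, hb, e⟩ := o4 n ((k0 n).1 hq)
      have hb' : b ∈ s.NF := centralizer_le_normalizer _ (o1 hb)
      refine ⟨⟨a, le_normalizer ha⟩, ha, ?_⟩
      rw [show n = ⟨a, le_normalizer ha⟩ * ⟨b, hb'⟩ from Subtype.ext e, map_mul, (kφ ⟨b, hb'⟩).2 hb, mul_one]
    · rintro _ ⟨x, hx, rfl⟩
      exact (k0 x).2 fun y hy => s.F_comm y hy x hx
  have : IsMulCommutative ρ.ker := ⟨⟨fun a b => by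
    obtain ⟨x, hx, e⟩ := ker.le a.2
    obtain ⟨y, hy, e'⟩ := ker.le b.2
    refine Subtype.ext ?_
    show a.1 * b.1 = b.1 * a.1
    rw [← e, ← e', ← map_mul, ← map_mul, show x * y = y * x from Subtype.ext (s.F_comm x hx y hy)]⟩⟩
  have fo : (∀ x ∈ s.F, x ∈ s.T16 → x = 1) ∧ ∀ x ∈ s.S, ∃ t ∈ s.T16, x * t⁻¹ ∈ s.F :=
    s.hL.decide s.rep (by decide +kernel)
  have T_le : s.T16 ≤ s.S := s.les.2.2.2.2.2.2.2.2.2.2.2.1
  obtain ⟨H, hH⟩ := GT.gaschutz_exists ρ.ker ((s.S.subgroupOf s.NF).map φ) (by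
      obtain ⟨n, hn⟩ := IsPGroup.iff_card.1 (ker ▸ ((s.pS.to_le s.F_le_S).comap_subtype (K := s.NF)).map φ)
      rw [hn]
      exact ((Nat.Prime.coprime_iff_not_dvd Nat.prime_two).2 fun hd =>
        (s.syl' s.S_le_NF).not_dvd_relIndex (hd.trans (index_map_dvd _ hφ))).pow_left n)
    ((s.T16.subgroupOf s.NF).map φ) (by
      rw [ker, eq_bot_iff]
      rintro _ ⟨⟨x, hx, rfl⟩, y, hy, e⟩
      rw [inj y x (s.F_le_S hy) (T_le hx) e] at hy
      rw [show x = 1 from Subtype.ext (fo.1 x hy hx), map_one]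
      exact one_mem _) (by
      rw [ker, ← Subgroup.map_sup]
      congr 1
      refine le_antisymm (sup_le (fun x hx => s.F_le_S hx) fun x hx => T_le hx) fun x hx => ?_
      obtain ⟨t, ht, e⟩ := fo.2 x hx
      have := mul_mem_sup (S := s.F.subgroupOf s.NF) (T := s.T16.subgroupOf s.NF)
        (x := x * ⟨t, s.S_le_NF (T_le ht)⟩⁻¹) (y := ⟨t, s.S_le_NF (T_le ht)⟩) e ht
      rwa [inv_mul_cancel_right] at this)
  obtain ⟨k, hk⟩ := exists_section ρ (fun σ => by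
    obtain ⟨n, hn, e⟩ := h.all σ
    exact ⟨φ ⟨n, hn⟩, act_unique (a0 _) e⟩) hH
  obtain ⟨t, ht⟩ := st_of_split ρ k hk (fun i j => φ ⟨s.tau i j, le_normalizer (s.tau_F i j)⟩)
    (fun q i j => by
      obtain ⟨n, rfl⟩ := hφ q
      rw [← map_inv, ← map_mul, ← map_mul]
      exact congrArg φ (Subtype.ext (a0 n i j)))
    (fun i j l => by
      rw [← map_mul]
      refine congrArg φ (Subtype.ext ?_)
      show s.u i * s.u j * (s.u j * s.u l) = s.u i * s.u l
      rw [mul_assoc, ← mul_assoc (s.u j), s.F_sq _ (s.u_F j), one_mul])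
    (fun i j => congrArg φ (Subtype.ext (s.F_comm _ (s.u_F i) _ (s.u_F j))))
    (fun L hL => by
      rw [ker]
      rintro _ ⟨x, hx, rfl⟩
      obtain ⟨y, hy, e⟩ := F_le (L := (L.comap φ).map s.NF.subtype) (fun σ => ⟨_, hL σ, rfl⟩) hx
      exact (Subtype.ext e : y = x) ▸ hy)
    (s.gF.2 ▸ Nat.card_le_card_of_injective
      (fun x : s.F => (⟨φ ⟨x, le_normalizer x.2⟩, ker.ge ⟨_, x.2, rfl⟩⟩ : ρ.ker)) fun x y e =>
        Subtype.ext (congrArg (fun z : s.NF => (z : G)) (inj ⟨x, le_normalizer x.2⟩ ⟨y, le_normalizer y.2⟩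
          (s.F_le_S x.2) (s.F_le_S y.2) (congrArg Subtype.val e))))
  obtain ⟨s', -, h'⟩ := s.relift t (fun g => if hg : g ∈ s.NF then φ ⟨g, hg⟩ else 1)
    (fun g hg g' hg' => by rw [dif_pos hg, dif_pos hg', dif_pos (mul_mem hg hg'), ← map_mul]; rfl)
    (fun y => by
      obtain ⟨n, rfl⟩ := hφ y
      exact ⟨n, n.2, dif_pos n.2⟩)
    (fun g hg e => by
      rw [dif_pos hg, kφ] at e
      exact Nat.coprime_two_right.1 (o3.coprime_dvd_left (orderOf_dvd_natCard O e))) ht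
  exact ⟨s', _, _, t, _, h'⟩

end Crt

end Cfsg.Agent.O7
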