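import Mathlib
import Cfsg.Agent.O7.Rel
import Cfsg.Agent.Rec.UQ
import Cfsg.Agent.GT.TransferEval
import Cfsg.Agent.GT.TransferCocycle
import Cfsg.Agent.GT.PGroupBasic

/-! Normal subgroups of the centraliser. -/

set_option autoImplicit false
set_option synthInstance.maxSize 100000
set_option synthInstance.maxHeartbeats 1000000
set_option linter.unusedSectionVars false

namespace Cfsg.Agent.O7

open Cfsg.Agent.Spor Cfsg.Agent.Rec Cfsg.Agent.Inv.Fz Cfsg.Agent.Yam Subgroup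
open Cfsg.Agent.Rec.X32.I (conj_conj conj_symm conj_mul')

universe u

variable {G : Type u} [Group G] [Finite G]

namespace Crt

variable (s : Crt G)

namespace X1aA

theorem step {N : Subgroup G} [N.Normal] {M : Subgroup G} (h : ¬ ∀ x ∈ s.S, x ∈ N → x ∈ M) :
    ∃ x ∈ s.S, x ∈ N ∧ x ∉ M ∧ ∀ y ∈ s.S, x * y * x⁻¹ * y⁻¹ ∈ M := by
  have := s.pS.isNilpotent
  obtain ⟨x, a, b, c⟩ := GT.PG.exists_notMem_commutator_mem (N.subgroupOf s.S) (M.subgroupOf s.S)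
    fun e => h fun x hx hN => e (x := ⟨x, hx⟩) hN
  exact ⟨x, x.2, a, b, fun y hy => c ⟨y, hy⟩⟩

theorem mem_zp {x : G} : x ∈ zpowers s.α ↔ x = 1 ∨ x = s.α := by
  classical
  refine ⟨fun h => ?_, fun h => h.elim (fun e => e ▸ one_mem _) fun e => e ▸ mem_zpowers _⟩
  rw [mem_zpowers_iff_mem_range_orderOf, s.ord_α] at h
  obtain ⟨k, hk, rfl⟩ := Finset.mem_image.1 h
  have := Finset.mem_range.1 hk
  interval_cases k <;> simp

theorem fo1 : ∀ x ∈ s.S, (x * s.A * x⁻¹ * s.A⁻¹ = 1 ∨ x * s.A * x⁻¹ * s.A⁻¹ = s.α) →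
    (x * s.X * x⁻¹ * s.X⁻¹ = 1 ∨ x * s.X * x⁻¹ * s.X⁻¹ = s.α) →
    (x * s.f * x⁻¹ * s.f⁻¹ = 1 ∨ x * s.f * x⁻¹ * s.f⁻¹ = s.α) →
    (x * s.h * x⁻¹ * s.h⁻¹ = 1 ∨ x * s.h * x⁻¹ * s.h⁻¹ = s.α) →
    (x * s.w * x⁻¹ * s.w⁻¹ = 1 ∨ x * s.w * x⁻¹ * s.w⁻¹ = s.α) → x = 1 ∨ x = s.α ∨ x = s.d3 ∨ x * s.α = s.d3 :=
  s.hL.decide s.rep (by decide +kernel)

theorem fo2 : ∀ x ∈ s.S, x * s.A * x⁻¹ * s.A⁻¹ ∈ s.F → x * s.w * x⁻¹ * s.w⁻¹ ∈ s.F →
    x ∈ s.F ∨ x * s.X ∈ s.F ∨ x * (s.A * s.C) ∈ s.F ∨ x * (s.A * s.C * s.X) ∈ s.F :=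
  s.hL.decide s.rep (by decide +kernel)

theorem fo3 : (s.d1 ∈ s.cd ∧ s.d2 ∈ s.cd ∧ s.f ∈ s.cd ∧ s.h ∈ s.cd) ∧ (s.A ∈ s.ca ∧ s.C ∈ s.ca) ∧
    (∃ y ∈ s.caa, y * (s.A * s.X) ∈ s.F) ∧ (∃ y ∈ s.caa, y * s.w ∈ s.F) ∧
    (∃ y ∈ s.cp, s.A * y * s.A⁻¹ * y⁻¹ * (s.A * s.C) ∈ s.F) ∧ (∃ y ∈ s.cdd, s.z * y ∈ s.cd) ∧
    (∀ x ∈ s.S, x ∈ s.S0 ∨ x * s.A ∈ s.S0) ∧ (∀ x ∈ s.cdda, x ∉ s.S0) ∧ s.A * s.α ∈ s.cdda ∧
    s.X * s.h * s.X⁻¹ * s.h⁻¹ = s.d3 ∧ s.w * s.C * s.w⁻¹ * s.C⁻¹ = s.A * s.C ∧ s.A * s.C ∉ s.F ∧ s.d3 ≠ 1 ∧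
    s.d3 ≠ s.α ∧ s.d3 * s.α = s.z ∧ s.A * s.α * (s.A * s.α) = 1 := s.hL.decide s.rep (by decide +kernel)

variable {s} (h : s.HasW) {N : Subgroup G} [hN : N.Normal]
include h hN

theorem cd_le (d : s.d3 ∈ N) {x : G} (hx : x ∈ s.cd) : x ∈ N := by
  obtain ⟨n, -, rfl⟩ := h.cls.1 x hx
  exact hN.conj_mem _ d n

theorem F_le (d : s.d3 ∈ N) : s.F ≤ N := by
  obtain ⟨⟨a, b, c, e⟩, -⟩ := fo3 s
  exact clos_le.2 (by simpa using ⟨cd_le h d a, cd_le h d b, d, cd_le h d c, cd_le h d e⟩)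

theorem d3_of_z (d : s.z ∈ N) : s.d3 ∈ N := by
  obtain ⟨-, -, -, -, -, ⟨y, a, b⟩, -⟩ := fo3 s
  obtain ⟨n, -, rfl⟩ := h.cls.2.1 y a
  obtain ⟨m, -, e⟩ := h.cls.1 _ b
  have := hN.conj_mem _ (mul_mem d (hN.conj_mem _ d n)) m⁻¹
  rw [← e] at this
  simpa [mul_assoc] using this

theorem S0_le (d : s.d3 ∈ N) (e : s.A * s.C ∈ N) : s.S0 ≤ N := by
  obtain ⟨-, -, ⟨y, a, b⟩, ⟨y', a', b'⟩, -⟩ := fo3 s
  have k : ∀ x ∈ s.caa, x ∈ N := fun x hx => by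
    obtain ⟨n, -, rfl⟩ := h.cls.2.2.2.2.2.1 x hx
    exact hN.conj_mem _ e n
  have F := F_le h d
  obtain ⟨f1, f2, f3, f4, -⟩ := s.eF
  exact clos_le.2 (by
    simpa using ⟨F f3, F f4, d, e, (mul_mem_cancel_left (k y a)).1 (F b), F f1, F f2,
      (mul_mem_cancel_left (k y' a')).1 (F b')⟩)

end X1aA

open X1aA

variable {s}

theorem Yc.eq_of_odd (h : s.Yc) {L N : Subgroup G} [L.Normal] (h1 : N ≤ L) (h2 : L ≤ normalizer (N : Set G))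
    (hN : ∀ x ∈ s.S, x ∈ N → x = 1 ∨ x = s.α) : ∀ x ∈ N, x = 1 ∨ x = s.α := by
  have a := (s.syl.inf_of_le_normalizer (K := L) le_top le_normalizer_of_normal).inf_of_le_normalizer h1 h2
  have := le_of_burnside a (fun g _ _ r hr => by
      rcases hN r hr.1.1 hr.2 with rfl | rfl
      · simp
      · exact (h.z g).eq)
    fun O b c d => eq_bot_iff.2 ((((GT.le_pPrimeCoreOf b c d.coprime_two_right).trans
      (GT.pPrimeCoreOf_le_pPrimeCoreOf h1 h2)).trans (GT.pPrimeCoreOf_le_pPrimeCore L)).trans h.odd.le)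
  exact fun x hx => hN x (this hx).1.1 hx

theorem Yc.nrm_cases (h : s.Yc) {N : Subgroup G} [N.Normal] (hα : s.α ∈ N) :
    (∀ x ∈ N, x = 1 ∨ x = s.α) ∨ (∀ x ∈ s.S, x ∈ N ↔ x ∈ s.F) ∨ (∀ x ∈ s.S, x ∈ N ↔ x ∈ s.S0) ∨ s.S ≤ N := by
  obtain ⟨e1, -, -, -, e2, -, e3, e4, e5, -⟩ := s.eS
  by_cases c1 : ∀ x ∈ s.S, x ∈ N → x ∈ zpowers s.α
  · exact .inl (h.eq_of_odd le_rfl le_normalizer fun x a b => (mem_zp s).1 (c1 x a b))
  right
  have d : s.d3 ∈ N := by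
    obtain ⟨x, a, b, c, k⟩ := step s c1
    simp only [mem_zp] at c k
    rcases fo1 s x a (k _ e1) (k _ e2) (k _ e3) (k _ e4) (k _ e5) with e | e | e | e
    exacts [absurd (.inl e) c, absurd (.inr e) c, e ▸ b, e ▸ mul_mem b hα]
  have F := F_le h.w d
  by_cases c2 : ∀ x ∈ s.S, x ∈ N → x ∈ s.F
  · exact .inl fun x hx => ⟨c2 x hx, fun e => F e⟩
  right
  obtain ⟨-, ⟨a1, a2⟩, -, -, ⟨y, a3, a4⟩, -, a5, -⟩ := fo3 s
  have ac : s.A * s.C ∈ N := by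
    obtain ⟨x, a, b, c, k⟩ := step s c2
    rcases fo2 s x a (k _ e1) (k _ e5) with e | e | e | e
    · exact absurd e c
    · have k : ∀ y ∈ s.ca, y ∈ N := fun y hy => by
        obtain ⟨n, -, rfl⟩ := h.w.cls.2.2.1 y hy
        exact Normal.conj_mem ‹_› _ ((mul_mem_cancel_left b).1 (F e)) n
      exact mul_mem (k _ a1) (k _ a2)
    · exact (mul_mem_cancel_left b).1 (F e)
    · have : y ∈ N := by
        obtain ⟨n, -, rfl⟩ := h.w.cls.2.2.2.2.2.2.2.1 y a3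
        exact Normal.conj_mem ‹_› _ ((mul_mem_cancel_left b).1 (F e)) n
      exact (mul_mem_cancel_left (mul_mem (Normal.conj_mem ‹_› _ this _) (inv_mem this))).1 (F a4)
  have S0 := S0_le h.w d ac
  by_cases c3 : ∀ x ∈ s.S, x ∈ N → x ∈ s.S0
  · exact .inl fun x hx => ⟨c3 x hx, fun e => S0 e⟩
  right
  push Not at c3
  obtain ⟨x, a, b, c⟩ := c3
  have hA : s.A ∈ N := (mul_mem_cancel_left b).1 (S0 ((a5 x a).resolve_left c))
  exact fun y hy => (a5 y hy).elim (fun e => S0 e) fun e => (mul_mem_cancel_right hA).1 (S0 e)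

theorem Yc.der (h : s.Yc) : ∀ x ∈ s.S, x ∈ commutator G ↔ x ∈ s.S0 := by
  obtain ⟨-, -, -, -, -, -, -, b1, b2, b3, b4, b5, b6, b7, -, b8⟩ := fo3 s
  have k : ∀ x y : G, x * y * x⁻¹ * y⁻¹ ∈ commutator G := fun x y =>
    commutator_mem_commutator (mem_top x) (mem_top y)
  have d : s.d3 ∈ commutator G := b3 ▸ k _ _
  rcases h.nrm_cases (F_le h.w d s.α_F) with c | c | c | c
  · exact ((c _ d).elim b6 b7).elim
  · exact absurd ((c _ (mul_mem s.eS.1 s.eS.2.2.1)).1 (b4 ▸ k _ _)) b5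
  · exact c
  exfalso
  have i2 : s.S0.relIndex s.S = 2 := by
    have := card_mul_relIndex s.S0_le_S
    rw [s.gS0.2, s.gS.2] at this
    omega
  rcases GT.Tr.thompson_transfer_index_two (H := s.S) (by simpa using s.syl.not_dvd_relIndex) i2
    (u := s.A * s.α) (by rw [pow_two, b8]) with ⟨M, hM, i, m⟩ | ⟨g, hg⟩
  · refine m (le_trans c ?_ (mul_mem s.eS.1 s.α_S))
    have : IsCyclic (G ⧸ M) := isCyclic_of_prime_card (p := 2) i
    exact (Normal.quotient_commutative_iff_commutator_le).1 inferInstance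
  · exact b1 _ (h.iso g _ b2 (s.S0_le_S hg)) hg

/-- A normal subgroup with Sylow 2-subgroup `F`. -/
theorem Yc.top_of_F (h : s.Yc) {N : Subgroup G} [N.Normal] (hN : ∀ x ∈ s.S, x ∈ N ↔ x ∈ s.F) : s.NF = ⊤ := by
  obtain ⟨-, -, -, -, -, -, -, -, -, -, -, -, -, -, b, -⟩ := fo3 s
  have FN : s.F ≤ N := fun x hx => (hN x (s.F_le_S hx)).2 hx
  have sy : IsSylIn 2 s.F N := by
    have := s.syl.inf_of_le_normalizer (K := N) le_top le_normalizer_of_normal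
    rwa [le_antisymm (fun x hx => (hN x hx.1).1 hx.2) (le_inf s.F_le_S FN)] at this
  have na : s.α ∉ ⁅N, N⁆ := fun e => by
    rw [← map_subtype_commutator] at e
    obtain ⟨y, hy, e⟩ := e
    have e : (y : G) = s.α := e
    have := GT.Tr.sylow_inf_commutator_inf_center_le sy.toSylow (x := y)
      ⟨⟨show (y : G) ∈ s.F from e ▸ s.α_F, hy⟩, mem_center_iff.2 fun g => Subtype.ext (by
        rw [coe_mul, coe_mul, e]; exact (h.z g).eq)⟩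
    rw [commutator_eq_bot_iff_le_centralizer.2 (fun x hx y hy => Subtype.ext (s.F_comm _ hy _ hx)),
      mem_bot] at this
    exact s.α_ne (by rw [← e, this]; rfl)
  have zn : (zpowers s.α).Normal := ⟨fun x hx g => by
    rcases (mem_zp s).1 hx with rfl | rfl
    · simp
    · rw [(h.z g).eq, mul_inv_cancel_right]; exact hx⟩
  have nd : s.d3 ∉ ⁅N, N⁆ ⊔ zpowers s.α := fun e => by
    obtain ⟨y, hy, x, hx, e⟩ := mem_sup_of_normal_right.1 e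
    refine na (F_le h.w ?_ s.α_F)
    rcases (mem_zp s).1 hx with rfl | rfl
    · rwa [← e, mul_one]
    · refine d3_of_z h.w ?_
      rwa [← b, ← e, mul_assoc, s.α_sq, mul_one]
  have d := s.eF.2.2.2.2.1
  have c : ∀ x ∈ ⁅N, N⁆ ⊔ zpowers s.α, x = 1 ∨ x = s.α := by
    rcases h.nrm_cases (N := ⁅N, N⁆ ⊔ zpowers s.α) (mem_sup_right (mem_zpowers _)) with c | c | c | c
    exacts [c, absurd ((c _ (s.F_le_S d)).2 d) nd, absurd ((c _ (s.F_le_S d)).2 (s.les.2.2.1 d)) nd,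
      absurd (c (s.F_le_S d)) nd]
  have ab : ∀ x ∈ N, ∀ y ∈ N, x * y = y * x := fun x hx y hy => by
    have m := commutator_mem_commutator hx hy
    exact commutatorElement_eq_one_iff_mul_comm.1 ((c _ (mem_sup_left m)).resolve_right fun e => na (e ▸ m))
  refine eq_top_iff.2 fun g _ => mem_normalizer_of_conj_mem fun x hx => ?_
  obtain ⟨n, hn, e⟩ := sy.exists_cj_le (isPGroup_cj sy.isPGroup g)
    (cj_le_iff.2 fun y hy => Normal.conj_mem ‹_› _ (FN hy) g)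
  have := cj_le_iff.1 e _ (conj_mem_cj.2 hx)
  rwa [ab n hn _ (Normal.conj_mem ‹_› _ (FN hx) g), mul_inv_cancel_right] at this

end Crt

end Cfsg.Agent.O7
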