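import Mathlib
import Cfsg.Agent.O7.X1a
import Cfsg.Agent.O7.ODefs
import Cfsg.Agent.NE.Tools

/-! The structure of the centraliser -/

set_option autoImplicit false
set_option synthInstance.maxSize 100000
set_option synthInstance.maxHeartbeats 1000000
set_option linter.unusedSectionVars false

namespace Cfsg.Agent.O7

open Cfsg.Agent.Spor Cfsg.Agent.Rec Cfsg.Agent.Inv.Fz Cfsg.Agent.Yam Subgroup
open Cfsg.Agent.Rec.X32.I (conj_conj conj_symm conj_mul')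
open scoped commutatorElement

universe u

variable {G : Type u} [Group G] [Finite G]

namespace Crt

variable (s : Crt G)

theorem x1_fo : s.A ∉ s.S0 ∧ s.A * s.α ∉ s.S0 ∧ s.α ∈ s.S0 ∧ s.d3 ∈ s.S0 ∧ s.f ∈ s.S0 ∧ s.h ∈ s.S0 ∧
    s.A * s.X ∈ s.S0 ∧ s.A * s.C ∈ s.S0 ∧ s.w ∈ s.S0 ∧ s.d3 ≠ 1 ∧ s.d3 ≠ s.α ∧ s.z * s.α = s.d3 ∧
    s.A * s.X * s.f ≠ s.f * (s.A * s.X) ∧ s.A * s.C * s.f * (s.A * s.C)⁻¹ * s.f⁻¹ = s.z ∧
    s.A * s.X * s.f * (s.A * s.X)⁻¹ * s.f⁻¹ * (s.A * s.X * s.h * (s.A * s.X)⁻¹ * s.h⁻¹) = s.d3 ∧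
    ∀ x ∈ s.S, x ∉ s.S0 → x * (s.A * s.α) ∈ s.S0 := s.hL.decide s.rep (by decide +kernel)

theorem x1_cen : ∀ x ∈ s.S0,
    (s.f * x * s.f⁻¹ * x⁻¹ = 1 ∨ s.f * x * s.f⁻¹ * x⁻¹ = s.α) →
    (s.h * x * s.h⁻¹ * x⁻¹ = 1 ∨ s.h * x * s.h⁻¹ * x⁻¹ = s.α) →
    (s.w * x * s.w⁻¹ * x⁻¹ = 1 ∨ s.w * x * s.w⁻¹ * x⁻¹ = s.α) →
    (s.A * s.X * x * (s.A * s.X)⁻¹ * x⁻¹ = 1 ∨ s.A * s.X * x * (s.A * s.X)⁻¹ * x⁻¹ = s.α) →
    (s.A * s.C * x * (s.A * s.C)⁻¹ * x⁻¹ = 1 ∨ s.A * s.C * x * (s.A * s.C)⁻¹ * x⁻¹ = s.α) →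
    x = 1 ∨ x = s.α ∨ x = s.d3 ∨ x = s.z := s.hL.decide s.rep (by decide +kernel)

theorem x1_zp {x : G} : x ∈ zpowers s.α ↔ x = 1 ∨ x = s.α :=
  ⟨fun h => (em (x = 1)).imp_right (eq_of_mem_zpowers_two s.α_sq h), fun h =>
    h.elim (fun e => e ▸ one_mem _) fun e => e ▸ mem_zpowers _⟩

theorem x1_two (x : G) : ∃ m, Odd m ∧ ∃ g, g * x ^ m * g⁻¹ ∈ s.S := by
  obtain ⟨k, m, hm, e⟩ := Nat.exists_eq_two_pow_mul_odd (orderOf_pos x).ne'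
  obtain ⟨g, -, hg⟩ := exists_conj_mem_syl s.syl (x := x ^ m) (mem_top _) (k := k) (by
    rw [← pow_mul, mul_comm, ← e, pow_orderOf_eq_one])
  exact ⟨m, hm, g, hg⟩

variable {s}

theorem Yc.x1_d3 (h : s.Yc) {L M : Subgroup G} [L.Normal] (inf : ∀ x ∈ s.S, x ∈ L ↔ x ∈ s.S0) (h1 : M ≤ L)
    (h2 : L ≤ normalizer (M : Set G)) (hα : s.α ∈ M) (hM : ¬ ∀ x ∈ M, x = 1 ∨ x = s.α) : s.d3 ∈ M := by
  obtain ⟨-, -, -, -, f1, f2, f3, f4, f5, -, -, f6, -⟩ := s.x1_fo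
  have hL : s.S0 ≤ L := fun x hx => (inf x (s.S0_le_S hx)).2 hx
  obtain ⟨x, hx, h3, -, h4⟩ := NE.exists_central_mod (S := s.S0) (N := zpowers s.α) (K := s.S0 ⊓ M)
    (s.pS.to_le s.S0_le_S) (fun k _ => mem_normalizer_of_conj_mem fun y hy => by
      rw [(show Commute k y from s.x1_zp.1 hy |>.elim (fun e => e ▸ Commute.one_right k)
        fun e => e ▸ h.z k).eq, mul_inv_cancel_right]; exact hy) inf_le_left
    (fun k hk => mem_normalizer_of_conj_mem fun y hy => mem_inf.2 ⟨s.S0.mul_mem (s.S0.mul_mem hk hy.1)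
      (inv_mem hk), (mem_normalizer_iff.1 (h2 (hL hk)) y).1 hy.2⟩)
    fun e => hM (h.eq_of_odd h1 h2 fun x hx hx' => s.x1_zp.1 (e ⟨(inf x hx).1 (h1 hx'), hx'⟩))
  rcases s.x1_cen x hx.1 (s.x1_zp.1 (h4 _ f1)) (s.x1_zp.1 (h4 _ f2)) (s.x1_zp.1 (h4 _ f5)) (s.x1_zp.1 (h4 _ f3))
    (s.x1_zp.1 (h4 _ f4)) with e | e | e | e
  · exact absurd (s.x1_zp.2 (.inl e)) h3
  · exact absurd (s.x1_zp.2 (.inr e)) h3
  · exact e ▸ hx.2
  · exact f6 ▸ mul_mem (e ▸ hx.2) hα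

theorem Yc.cases (h : s.Yc) : s.NF = ⊤ ∨ ∃ (L : Subgroup G) (K : Type u) (_ : Group K) (κ : L →* K), s.Lc L κ := by
  refine or_iff_not_imp_left.2 fun hF => ?_
  obtain ⟨f0, -, fα, fd, f1, f2, f3, f4, -, f5, f6, f7, f8, f9, f10, f11⟩ := s.x1_fo
  have hd : ∀ {N : Subgroup G}, s.d3 ∈ N → ¬ ∀ x ∈ N, x = 1 ∨ x = s.α := fun hN e => (e _ hN).elim f5 f6
  obtain ⟨L, ⟨hn, hα, hle, hL⟩, hm⟩ := (Set.toFinite {N : Subgroup G | N.Normal ∧ s.α ∈ N ∧ N ≤ commutator G ∧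
    ¬ ∀ x ∈ N, x = 1 ∨ x = s.α}).exists_minimal ⟨commutator G, inferInstance, (h.der _ s.α_S).2 fα, le_rfl,
      hd ((h.der _ (s.S0_le_S fd)).2 fd)⟩
  have inf : ∀ x ∈ s.S, x ∈ L ↔ x ∈ s.S0 := by
    rcases h.nrm_cases hα with e | e | e | e
    exacts [absurd e hL, absurd (h.top_of_F e) hF, e, absurd ((h.der _ s.eS.1).1 (hle (e s.eS.1))) f0]
  have hS : s.S0 ≤ L := fun x hx => (inf x (s.S0_le_S hx)).2 hx
  have hmin : ∀ {N : Subgroup G}, N.Normal → N ≤ L → s.α ∈ N → s.d3 ∈ N → L ≤ N := fun h1 h2 h3 h4 =>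
    hm ⟨h1, h3, h2.trans hle, hd h4⟩ h2
  have : ((zpowers s.α).subgroupOf L).Normal := ⟨fun y hy g => by
    have : Commute (g : G) y := (s.x1_zp (x := (y : G)).1 hy).elim (fun e => e ▸ Commute.one_right _)
      fun e => e ▸ h.z g
    rw [mem_subgroupOf, coe_mul, coe_mul, this.eq, coe_inv, mul_inv_cancel_right]; exact hy⟩
  let κ := QuotientGroup.mk' ((zpowers s.α).subgroupOf L)
  have hκ : Function.Surjective κ := QuotientGroup.mk'_surjective _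
  have ker : ∀ x : L, κ x = 1 ↔ (x : G) = 1 ∨ (x : G) = s.α := fun x =>
    (QuotientGroup.eq_one_iff x).trans s.x1_zp
  have two : ∀ x ∈ commutator G, ∃ m, Odd m ∧ x ^ m ∈ L := fun x hx => by
    obtain ⟨m, h1, g, h2⟩ := s.x1_two x
    refine ⟨m, h1, ?_⟩
    simpa [mul_assoc] using hn.conj_mem _ (hS ((h.der _ h2).1 (Normal.conj_mem inferInstance _ (pow_mem hx m) g))) g⁻¹
  refine ⟨L, _, inferInstance, κ, h, hn, inf, hκ, ker, ?_, ?_, fun y hy => ?_, fun y => ?_⟩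
  · have : Nontrivial (L ⧸ (zpowers s.α).subgroupOf L) :=
      ⟨κ ⟨_, hS fd⟩, 1, fun e => ((ker _).1 e).elim f5 f6⟩
    refine ⟨fun M hM => or_iff_not_imp_left.2 fun h0 => ?_⟩
    obtain ⟨⟨q, hq⟩, h1⟩ := ne_bot_iff_exists_ne_one.1 h0
    obtain ⟨x, rfl⟩ := hκ q
    have hM' := hM.comap κ
    have k1 : ∀ g y, y ∈ cj g ((M.comap κ).map L.subtype) ↔ ∃ hy : g⁻¹ * y * g ∈ L, κ ⟨_, hy⟩ ∈ M := fun g y =>
      mem_cj.trans ⟨fun ⟨⟨a, ha⟩, h1, h2⟩ => by obtain rfl : a = g⁻¹ * y * g := h2; exact ⟨ha, h1⟩,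
        fun ⟨a, h1⟩ => ⟨⟨_, a⟩, h1, rfl⟩⟩
    have kα : ∀ g, s.α ∈ cj g ((M.comap κ).map L.subtype) := fun g => by
      have e : g⁻¹ * s.α * g = s.α := by rw [(h.z g⁻¹).eq, inv_mul_cancel_right]
      exact (k1 g _).2 ⟨e.symm ▸ hα, by rw [(ker _).2 (.inr e)]; exact one_mem _⟩
    have kd : ∀ g, s.d3 ∈ cj g ((M.comap κ).map L.subtype) := fun g =>
      h.x1_d3 inf (fun y hy => by simpa [mul_assoc] using hn.conj_mem _ ((k1 g y).1 hy).1 g)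
        (fun l hl => mem_normalizer_of_conj_mem fun y hy => by
          obtain ⟨a, h2⟩ := (k1 g y).1 hy
          have h3 : g⁻¹ * l * g ∈ L := by simpa using hn.conj_mem _ hl g⁻¹
          have h4 := hM'.conj_mem ⟨_, a⟩ h2 ⟨_, h3⟩
          have e : g⁻¹ * (l * y * l⁻¹) * g = g⁻¹ * l * g * (g⁻¹ * y * g) * (g⁻¹ * l * g)⁻¹ := by group
          exact mem_cj.2 (e ▸ mem_map_of_mem L.subtype h4)) (kα g) fun e => by
        have h2 := e (g * x * g⁻¹) (mem_cj.2 (by simpa [mul_assoc] using hq))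
        refine h1 (Subtype.ext ((ker x).2 (h2.imp (fun e => by simpa using e) fun e => ?_)))
        rw [mul_inv_eq_iff_eq_mul, ← (h.z g).eq] at e
        exact mul_left_cancel e
    have h2 := hmin (normalCore_normal ((M.comap κ).map L.subtype)) ((normalCore_le _).trans (map_subtype_le _))
      (fun g => by simpa using mem_cj.1 (kα g⁻¹)) fun g => by simpa using mem_cj.1 (kd g⁻¹)
    refine eq_top_iff.2 fun q _ => ?_
    obtain ⟨y, rfl⟩ := hκ q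
    obtain ⟨a, h3, h4⟩ := normalCore_le _ (h2 y.2)
    exact Subtype.ext h4 ▸ h3
  · have c : ∀ {a b : G}, a ∈ s.S0 → b ∈ s.S0 → a * b * a⁻¹ * b⁻¹ ∈ ⁅L, L⁆ := fun ha hb =>
      commutator_mem_commutator (hS ha) (hS hb)
    have c1 : s.d3 ∈ ⁅L, L⁆ := f10 ▸ mul_mem (c f3 f1) (c f3 f2)
    have h1 := hmin (N := ⁅L, L⁆) inferInstance (commutator_le_left _ _) (mul_mem (f9 ▸ c f4 f1) c1) c1
    refine map_injective L.subtype_injective ?_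
    rw [map_subtype_commutator, ← MonoidHom.range_eq_map, range_subtype]
    exact le_antisymm (commutator_le_left _ _) h1
  · have k : s.f ∉ centralizer (L : Set G) := fun e => f8 (e _ (hS f3))
    rcases h.nrm_cases (N := centralizer (L : Set G)) (fun l _ => (h.z l).eq) with e | e | e | e
    · exact e y fun l hl => (hy l hl).eq.symm
    · exact absurd ((e _ (s.S0_le_S f1)).2 s.eF.1) k
    · exact absurd ((e _ (s.S0_le_S f1)).2 f1) k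
    · exact absurd (e (s.S0_le_S f1)) k
  · obtain ⟨m, h1, g, h2⟩ := s.x1_two y
    by_cases h3 : g * y ^ m * g⁻¹ ∈ s.S0
    · exact ⟨m, h1, .inl (by simpa [mul_assoc] using hn.conj_mem _ (hS h3) g⁻¹)⟩
    have h4 := (QuotientGroup.eq_one_iff _).2 (hle (hS (f11 _ h2 h3)))
    obtain ⟨n, h5, h6⟩ := two ((y * s.a 0) ^ m) ((QuotientGroup.eq_one_iff _).1 (by
      change Abelianization.of _ = 1 at h4 ⊢
      obtain ⟨k, rfl⟩ := h1
      have h7 := congrArg Abelianization.of (s.E_sq _ (s.a_E 0))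
      rw [map_mul, map_one, ← pow_two] at h7
      rw [map_pow, map_mul, mul_pow, pow_succ (Abelianization.of (s.a 0)), pow_mul, h7, one_pow, one_mul, ← h4]
      simp [s.a_eq.1]))
    exact ⟨m * n, h1.mul h5, .inr (by rwa [pow_mul])⟩

theorem Lc.lq {L : Subgroup G} {K : Type u} [Group K] {κ : L →* K} (h : s.Lc L κ) : Lq s.a L := by
  refine ⟨s.lab, h.nrm, fun i j => ?_, fun e => s.x1_fo.2.1 ((h.inf _ (s.E_le_S (s.a_E 0))).1 e), h.yc.z, h.cen,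
    h.odd, fun y i => ?_⟩
  · have r := (s.rep_a i.castSucc).mul (s.rep_a j.castSucc)
    refine (h.inf _ (s.E_le_S (mul_mem (s.a_E _) (s.a_E _)))).2 (r.2 ▸ (s.gS0.1.has _ r.1).1 ?_)
    exact (by decide +kernel : ∀ i j : Fin 6,
      S0_t.dom.has (P.mul (ca7 i.castSucc) (ca7 j.castSucc)) = true) i j
  · induction i using Fin.lastCases with
    | last => exact fun _ => ⟨6, mul_inv_eq_iff_eq_mul.2 (h.yc.z y).eq⟩
    | cast i =>
      intro e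
      obtain ⟨j, hj⟩ := s.mem_cdda.1 (h.yc.iso y _ (s.mem_cdda.2 ⟨i, rfl⟩) (s.E_le_S (s.EE_a ▸ e)))
      exact ⟨_, hj⟩

end Crt

end Cfsg.Agent.O7
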