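import Mathlib
import Cfsg.Agent.O7.OA
import Cfsg.Agent.O7.Aut
import Cfsg.Agent.O7.Lab
import Cfsg.Agent.O7.Dg

/-! The labels in standard position. -/

set_option autoImplicit false
set_option linter.unusedSectionVars false

namespace Cfsg.Agent.O7

open Subgroup Cfsg.Agent.Cl QuadraticMap Cfsg.Agent.GW
open scoped commutatorElement

universe u

variable {F : Type} [Field F] [Fintype F] {n : ℕ}

variable {Y : Type u} [Group Y] [Finite Y] {a : Fin 7 → Y}

namespace X5aA

theorem even_of_diag (h2 : (2 : F) ≠ 0) (B : Module.Basis (Fin n) F (Fin n → F)) {x : OG (Qn n F)} (hx : x ∈ Om n F)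
    {I : Finset (Fin n)} (e : ∀ i, x.1 (B i) = if i ∈ I then -B i else B i) : Even I.card := by
  let d : OG (Qn n F) →* Fˣ := LinearEquiv.det.comp (OG (Qn n F)).subtype
  have h1 : d x = 1 := Abelianization.commutator_subset_ker d hx
  have h3 : LinearMap.det (x.1 : (Fin n → F) →ₗ[F] (Fin n → F)) = 1 := by
    rw [← LinearEquiv.coe_det]; exact congrArg Units.val h1
  have h4 : LinearMap.toMatrix B B x.1 = Matrix.diagonal fun i => if i ∈ I then -1 else 1 := by
    ext i j
    rw [LinearMap.toMatrix_apply, LinearEquiv.coe_coe, e, Matrix.diagonal_apply]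
    by_cases c : i = j
    · subst c; split_ifs <;> simp_all
    · split_ifs <;> simp [Finsupp.single_apply, Ne.symm c]
  rw [← LinearMap.det_toMatrix B, h4, Matrix.det_diagonal, Finset.prod_ite_mem, Finset.univ_inter,
    Finset.prod_const] at h3
  exact (neg_one_pow_eq_one_iff_even fun c => h2 (by linear_combination -c)).1 h3

theorem sim_of_basis (h2 : (2 : F) ≠ 0) (B : Module.Basis (Fin n) F (Fin n → F)) {c : F}
    (h1 : ∀ i j, i ≠ j → polar (Qn n F) (B i) (B j) = 0) (h3 : ∀ i, Qn n F (B i) = c) (v : Fin n → F) :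
    Qn n F (B.equivFun.symm v) = c * Qn n F v := by
  refine mul_left_cancel₀ h2 ?_
  rw [← o_polar_self, ← polarBilin_apply_apply, B.equivFun_symm_apply, map_sum, Qn_apply, Finset.mul_sum, Finset.mul_sum]
  refine Finset.sum_congr rfl fun i _ => ?_
  rw [map_sum, LinearMap.sum_apply, Finset.sum_eq_single i]
  · rw [polarBilin_apply_apply, polar_smul_left, polar_smul_right, o_polar_self, h3]
    simp only [smul_eq_mul]; ring
  · intro j _ hj
    rw [polarBilin_apply_apply, polar_smul_left, polar_smul_right, h1 _ _ hj, smul_zero, smul_zero]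
  · simp

theorem pr_mem_L {L : Subgroup Y} (h : Lq a L) {J : Finset (Fin 6)} (e : Even J.card) :
    pr a (J.map Fin.castSuccEmb) ∈ L := by
  have k : ∀ J : Finset (Fin 6), a 0 ^ J.card * pr a (J.map Fin.castSuccEmb) ∈ L := fun J => by
    induction J using Finset.induction_on with
    | empty => simp [pr_empty]
    | insert i I hi ih =>
      rw [Finset.card_insert_of_notMem hi, Finset.map_insert, h.lab.pr_insert (by simpa using hi), pow_succ', mul_assoc,
        ← mul_assoc _ (a _), ((h.lab.comm 0 _).pow_left _).eq, mul_assoc, ← mul_assoc]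
      exact mul_mem (h.mem 0 i) ih
  obtain ⟨m, hm⟩ := e
  have := k J
  rwa [hm, ← two_mul, pow_mul, pow_two, h.lab.sq, one_pow, one_mul] at this

/-- The even sign changes can be assumed to be labels. -/
theorem step1 {L : Subgroup Y} (h : Lq a L) (hF : Q35 F) (θ₀ : Om 6 F ≃* L) : ∃ θ : Om 6 F ≃* L,
    ∀ (x : Om 6 F) I, x.1 = dg F I → (θ x : Y) ∈ EE a := by
  have h2 := hF.two_ne
  let p : {J : Finset (Fin 6) // Even J.card} → L := fun J => ⟨_, pr_mem_L h J.2⟩
  have pE : ∀ J, (p J : Y) ∈ EE a := fun J => pr_mem _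
  let x : {J : Finset (Fin 6) // Even J.card} → OG (Qn 6 F) := fun J => (θ₀.symm (p J)).1
  have hc : ∀ I J, Commute (x I) (x J) := fun I J =>
    (((show Commute (p I) (p J) from Subtype.ext (h.lab.EE_comm _ (pE I) _ (pE J))).map θ₀.symm).map (Om 6 F).subtype :)
  have hs : ∀ J, x J * x J = 1 := fun J => by
    have : p J * p J = 1 := Subtype.ext (h.lab.EE_sq _ (pE J))
    exact congrArg Subtype.val (show θ₀.symm _ * θ₀.symm _ = 1 by rw [← map_mul, this, map_one])
  obtain ⟨b, b1, b2, b3⟩ := exists_fam h2 (Qn_nd h2) hc hs 6 (by simp)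
  let B := basisOfLinearIndependentOfCardEqFinrank (li_of_orth h2 b1 b2) (by simp)
  have hB : ∀ i, B i = b i := fun i => by simp [B]
  classical
  let I : {J : Finset (Fin 6) // Even J.card} → Finset (Fin 6) := fun J => Finset.univ.filter fun i => (x J).1 (b i) = -b i
  have hI : ∀ J i, (x J).1 (b i) = if i ∈ I J then -b i else b i := fun J i => by
    split_ifs with c
    · exact (Finset.mem_filter.1 c).2
    · exact (b3 J i).resolve_right fun e => c (Finset.mem_filter.2 ⟨Finset.mem_univ _, e⟩)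
  have ext : ∀ {g g' : OG (Qn 6 F)}, (∀ i, g.1 (b i) = g'.1 (b i)) → g = g' := fun e =>
    Subtype.ext (LinearEquiv.toLinearMap_injective (B.ext fun i => by simpa [hB] using e i))
  let f : {J : Finset (Fin 6) // Even J.card} → {J : Finset (Fin 6) // Even J.card} := fun J =>
    ⟨I J, even_of_diag h2 B (θ₀.symm (p J)).2 fun i => by rw [hB]; exact hI J i⟩
  have fi : Function.Injective f := fun J K e => by
    have e1 : x J = x K := ext fun i => by rw [hI, hI, show I J = I K from congrArg Subtype.val e]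
    have e2 : p J = p K := θ₀.symm.injective (Subtype.ext e1)
    rcases h.lab.pr_eq_iff.1 (congrArg Subtype.val e2) with e3 | e3
    · exact Subtype.ext (Finset.map_injective _ e3)
    · have k : ∀ J : Finset (Fin 6), Fin.last 6 ∉ J.map Fin.castSuccEmb := fun J c => by
        obtain ⟨i, -, hi⟩ := Finset.mem_map.1 c
        exact (Fin.castSucc_lt_last i).ne hi
      exact absurd (e3 ▸ Finset.mem_compl.2 (k K.1)) (k J.1)
  have fs := Finite.injective_iff_surjective.1 fi
  have sq : ∀ i, ∃ s, Qn 6 F (b i) * Qn 6 F (b 0) = s * s := fun i => by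
    by_cases c : i = 0
    · exact ⟨_, by rw [c]⟩
    obtain ⟨J, hJ⟩ := fs ⟨{i, 0}, by rw [Finset.card_pair c]; decide⟩
    have e1 : I J = {i, 0} := congrArg Subtype.val hJ
    have e2 : x J = orefl _ (b i) * orefl _ (b 0) := ext fun j => by
      rw [hI, e1, OG.mul_app]
      by_cases c0 : j = 0
      · rw [c0, if_pos (by simp), orefl_app_self (b2 0), map_neg, orefl_app_of_polar (b1 _ _ (Ne.symm c))]
      rw [orefl_app_of_polar (b1 _ _ c0)]
      by_cases ci : j = i
      · rw [ci, if_pos (by simp), orefl_app_self (b2 i)]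
      · rw [if_neg (by simp [c0, ci]), orefl_app_of_polar (b1 _ _ ci)]
    exact (refl_mul_mem h2 (b2 i) (b2 0)).1 (e2 ▸ (θ₀.symm (p J)).2)
  choose s hs using sq
  have s0 : ∀ i, s i ≠ 0 := fun i c => mul_ne_zero (b2 i) (b2 0) (by rw [hs, c, mul_zero])
  let B' := B.unitsSMul fun i => Units.mk0 (Qn 6 F (b 0) / s i) (div_ne_zero (b2 0) (s0 i))
  have hB' : ∀ i, B' i = (Qn 6 F (b 0) / s i) • b i := fun i => by rw [Module.Basis.unitsSMul_apply, hB]; rfl
  have hg := sim_of_basis h2 B' (c := Qn 6 F (b 0)) (fun i j hij => by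
    rw [hB', hB', polar_smul_left, polar_smul_right, b1 i j hij, smul_zero, smul_zero]) fun i => by
      rw [hB', QuadraticMap.map_smul, smul_eq_mul, div_mul_div_comm, ← hs]
      have := b2 i
      have := b2 0
      field_simp
  have ge : ∀ i, B'.equivFun.symm (ee i) = B' i := fun i => by simp [Pi.single_apply]
  refine ⟨(commutatorCongr (OG.congrSim B'.equivFun.symm (b2 0) hg)).trans θ₀, fun y K hK => ?_⟩
  have eK : Even K.card := even_of_diag h2 (Pi.basisFun F _) y.2 fun i => by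
    rw [hK, Pi.basisFun_apply]; exact dg_ee K i
  obtain ⟨J, hJ⟩ := fs ⟨K, eK⟩
  have e1 : I J = K := congrArg Subtype.val hJ
  have e2 : commutatorCongr (OG.congrSim B'.equivFun.symm (b2 0) hg) y = θ₀.symm (p J) := Subtype.ext (ext fun i => by
    have e3 : (OG.congrSim B'.equivFun.symm (b2 0) hg y.1).1 (B' i) = (x J).1 (B' i) := by
      rw [OG.congrSim_app, ← ge, LinearEquiv.symm_apply_apply, hK, dg_ee, ge, hB', map_smul, hI, e1]
      split_ifs
      · rw [map_neg, ge, hB', smul_neg]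
      · rw [ge, hB']
    rw [hB', map_smul, map_smul] at e3
    exact smul_right_injective _ (div_ne_zero (b2 0) (s0 i)) e3)
  rw [MulEquiv.trans_apply, e2, MulEquiv.apply_symm_apply]
  exact pE J

theorem fr_of_sq (hF : Q35 F) {σ : F ≃+* F} {x : OG (Qn n F)} (e : fr σ (fr σ x) = x) : fr σ x = x := by
  obtain ⟨k, hk⟩ := hF.aut_odd σ
  have h1 : ∀ k : ℕ, fr ((σ : RingAut F) ^ (2 * k) : RingAut F) x = x := fun k => by
    induction k with
    | zero => exact fr_refl x
    | succ k ih =>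
      rw [mul_add, mul_one, pow_add, pow_two]
      exact ((fr_fr _ _ x).symm.trans (congrArg _ ((fr_fr _ _ x).symm.trans e))).trans ih
  have h3 : (σ : RingAut F) * σ ^ (2 * k) = 1 := by rw [← pow_succ', ← hk, pow_orderOf_eq_one]
  calc fr σ x = fr σ (fr ((σ : RingAut F) ^ (2 * k) : RingAut F) x) := by rw [h1]
    _ = fr ((σ : RingAut F) * σ ^ (2 * k) : RingAut F) x := fr_fr _ _ x
    _ = x := by rw [h3]; exact fr_refl x

/-- The first label acts as a sign change. -/
theorem step2 {L : Subgroup Y} (h : Lq a L) (hF : Q35 F) (θ : Om 6 F ≃* L)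
    (hE : ∀ (x : Om 6 F) I, x.1 = dg F I → (θ x : Y) ∈ EE a) :
    ∃ I, ∀ x y : Om 6 F, y.1 = dg F I * x.1 * dg F I → a 0 * θ x * a 0 = θ y := by
  have h2 := hF.two_ne
  haveI := h.nrm
  let φ : MulAut (Om 6 F) := (θ.trans (MulAut.conjNormal (a 0))).trans θ.symm
  have hφ : ∀ x, (θ (φ x) : Y) = a 0 * θ x * a 0 := fun x => by
    simp [φ, inv_eq_of_mul_eq_one_right (h.lab.sq 0)]
  have φφ : ∀ x, φ (φ x) = x := fun x => θ.injective (Subtype.ext (by
    rw [hφ, hφ, ← mul_assoc, ← mul_assoc, h.lab.sq, one_mul, mul_assoc, h.lab.sq, mul_one]))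
  obtain ⟨σ, g, c, hc, hg, e⟩ := aut56 hF (.inr rfl) φ
  have d1 : ∀ i k, k ≠ i → g (ee i) k = 0 := fun i k hk => by
    obtain ⟨j, ji, jk⟩ : ∃ j, j ≠ i ∧ j ≠ k := by revert i k; decide
    let x : Om 6 F := ⟨dg F {j, i}, dg_mem h2 (by rw [Finset.card_pair ji]; decide)⟩
    have e1 : φ x = x := θ.injective (Subtype.ext (by
      rw [hφ, (h.lab.EE_comm _ (mem_EE a 0) _ (hE x _ rfl)).eq, mul_assoc, h.lab.sq, mul_one]))
    have e2 := congrFun (e x (ee i)) k
    rw [e1, fr_dg, dg_ee, if_pos (by simp), map_neg, dg_app, if_neg (by simp [hk, jk.symm]), Pi.neg_apply] at e2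
    exact (mul_eq_zero.1 (by linear_combination e2 : 2 * g (ee i) k = 0)).resolve_left h2
  have d2 : ∀ i, g (ee i) = g (ee i) i • ee i := fun i => funext fun k => by
    by_cases c : k = i
    · simp [c]
    · simp [c, d1 i k c]
  have d3 : ∀ i, g (ee i) i * g (ee i) i = c := fun i => by
    have := hg (ee i)
    rwa [d2, QuadraticMap.map_smul, Qn_ee, smul_eq_mul, mul_one, mul_one] at this
  have d4 : g (ee 0) 0 ≠ 0 := fun k => hc (by rw [← d3 0, k, mul_zero])
  classical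
  let I : Finset (Fin 6) := Finset.univ.filter fun i => g (ee i) i = -g (ee 0) 0
  have d5 : ∀ v, g v = g (ee 0) 0 • (dg F I).1 v := fun v => by
    refine LinearMap.congr_fun (f := g.toLinearMap) (g := g (ee 0) 0 • (dg F I).1.toLinearMap)
      ((Pi.basisFun F _).ext fun i => ?_) v
    rw [Pi.basisFun_apply]
    show g (ee i) = g (ee 0) 0 • (dg F I).1 (ee i)
    rw [dg_ee, d2 i]
    split_ifs with k
    · rw [(Finset.mem_filter.1 k).2, smul_neg, neg_smul]
    · rw [(mul_self_eq_mul_self_iff.1 ((d3 i).trans (d3 0).symm)).resolve_right fun q =>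
        k (Finset.mem_filter.2 ⟨Finset.mem_univ _, q⟩)]
  have d6 : ∀ x, (φ x).1 = dg F I * fr σ x.1 * dg F I := fun x => by
    refine eq_mul_of_mul_inv_eq (OG.ext fun v => ?_)
    have := e x v
    rw [d5, d5 ((fr σ x.1).1 v), map_smul] at this
    rw [dg_inv]
    exact smul_right_injective _ d4 this
  refine ⟨I, fun x y hy => ?_⟩
  have d7 : fr σ (fr σ x.1) = x.1 := by
    have := d6 (φ x)
    rw [φφ, d6, map_mul, map_mul, fr_dg, ← mul_assoc, ← mul_assoc, dg_sq, one_mul, mul_assoc, dg_sq, mul_one] at this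
    exact this.symm
  rw [← hφ, show φ x = y from Subtype.ext (by rw [d6, fr_of_sq hF d7, hy])]

theorem rr_mul_eq (h2 : (2 : F) ≠ 0) (i j : Fin n) : rr F i * rr F j = dg F (symmDiff {i} {j}) := by
  rw [← dg_mul, dg_single h2, dg_single h2]

theorem perm_compl : ∀ I : Finset (Fin 6), I.card = 3 →
    ∃ π : Equiv.Perm (Fin 6), Equiv.Perm.sign π = 1 ∧ I.map π.toEmbedding = Iᶜ := fun I hI => by
  obtain ⟨π, hπ⟩ := Equiv.Perm.exists_map_finset_eq I Iᶜ (by rw [Finset.card_compl, hI]; rfl)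
  rcases Int.units_eq_one_or (Equiv.Perm.sign π) with e | e
  · exact ⟨π, e, hπ⟩
  obtain ⟨i, hi, j, hj, ij⟩ := Finset.one_lt_card.1 (show 1 < I.card by omega)
  refine ⟨π * Equiv.swap i j, by rw [map_mul, e, Equiv.Perm.sign_swap ij]; rfl, ?_⟩
  rw [← hπ]
  ext k
  simp only [Finset.mem_map_equiv, Equiv.Perm.mul_def, Equiv.symm_trans_apply, Equiv.symm_swap]
  rw [Equiv.swap_apply_def]
  split_ifs with c1 c2
  · simp [c1, hi, hj]
  · simp [c2, hi, hj]
  · rfl

theorem perm_pt : ∀ k j : Fin 6, ∃ π : Equiv.Perm (Fin 6), Equiv.Perm.sign π = 1 ∧ π k = j := fun k j => by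
  by_cases c : k = j
  · exact ⟨1, rfl, c⟩
  obtain ⟨l, lk, lj⟩ : ∃ l, l ≠ k ∧ l ≠ j := by revert k j; decide
  refine ⟨Equiv.swap l k * Equiv.swap k j, by rw [map_mul, Equiv.Perm.sign_swap lk, Equiv.Perm.sign_swap c]; rfl, ?_⟩
  rw [Equiv.Perm.mul_apply, Equiv.swap_apply_left, Equiv.swap_apply_of_ne_of_ne lj.symm (Ne.symm c)]

theorem nc {L : Subgroup Y} (h : Lq a L) (y : Y) : y * a 0 * y⁻¹ ≠ a 0 * a 6 := fun e => by
  obtain ⟨j, hj⟩ := h.iso y 0 (e ▸ mul_mem (mem_EE a 0) (mem_EE a 6))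
  rw [e, ← h.lab.pr_pair (by decide), ← pr_single (a := a) j] at hj
  rcases h.lab.pr_eq_iff.1 hj with k | k <;> have := congrArg Finset.card k
  · simp at this
  · rw [Finset.card_compl] at this; simp at this

theorem prod_eq (h : Lab a) : a 0 * a 1 * (a 2 * a 3) * (a 4 * a 5) = a 6 := by
  have := (h.one Finset.univ).2 (.inr rfl)
  simp only [pr, List.finRange, Finset.mem_univ, if_true] at this
  refine (eq_inv_of_mul_eq_one_left ?_).trans (inv_eq_of_mul_eq_one_right (h.sq 6))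
  rw [← this]
  simp [List.ofFn_succ, mul_assoc]

theorem six_mem {L : Subgroup Y} (h : Lq a L) : a 6 ∈ L :=
  prod_eq h.lab ▸ mul_mem (mul_mem (h.mem 0 1) (h.mem 2 3)) (h.mem 4 5)

/-- The first label acts as a reflection, and its conjugates under permutation matrices are labels. -/
theorem step3 {L : Subgroup Y} (h : Lq a L) (hF : Q35 F) (θ : Om 6 F ≃* L)
    (hE : ∀ (x : Om 6 F) I, x.1 = dg F I → (θ x : Y) ∈ EE a) :
    ∃ k, (∀ x y : Om 6 F, y.1 = rr F k * x.1 * rr F k → a 0 * θ x * a 0 = θ y) ∧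
      ∀ j, ∃ l, θ ⟨_, rr_mul_mem hF.two_ne j k⟩ * a 0 = a l := by
  have h2 := hF.two_ne
  obtain ⟨I, hI⟩ := step2 h hF θ hE
  have cj : ∀ (I : Finset (Fin 6)) (_ : ∀ x y : Om 6 F, y.1 = dg F I * x.1 * dg F I → a 0 * θ x * a 0 = θ y)
      (π : Equiv.Perm (Fin 6)) (hπ : Equiv.Perm.sign π = 1) (z : Om 6 F), z.1 = dg F (I.map π.toEmbedding) * dg F I →
      θ ⟨_, pm_mem h2 hπ⟩ * a 0 * (θ ⟨_, pm_mem h2 hπ⟩ : Y)⁻¹ = θ z * a 0 := fun I hI π hπ z hz => by
    have e := hI (⟨_, pm_mem h2 hπ⟩ : Om 6 F)⁻¹ ((⟨_, pm_mem h2 hπ⟩ : Om 6 F)⁻¹ * z) (by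
      rw [Subgroup.coe_mul, hz, ← pm_dg, Subgroup.coe_inv]; group)
    rw [map_mul, map_inv, Subgroup.coe_mul, Subgroup.coe_inv] at e
    rw [← mul_right_inj (θ ⟨_, pm_mem h2 hπ⟩ : Y)⁻¹, ← mul_assoc _ (θ z : Y), ← e, mul_assoc _ (a 0) (a 0), h.lab.sq]
    group
  have ng : θ ⟨_, neg_mem h2 (by decide)⟩ = a 6 := by
    refine (h.cen _ fun l hl => ?_).resolve_left fun c => ?_
    · obtain ⟨x, hx⟩ := θ.surjective ⟨l, hl⟩
      have : Commute (⟨_, neg_mem h2 (by decide)⟩ : Om 6 F) x := Subtype.ext (OG.negOne_comm _).symm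
      exact ((hx ▸ this.map θ : Commute _ (⟨l, hl⟩ : L)).map L.subtype :)
    · have : OG.negOne (Qn 6 F) = 1 := congrArg Subtype.val (θ.map_eq_one_iff.1 (Subtype.ext c))
      rw [← dg_univ, ← dg_empty] at this
      exact absurd (dg_inj h2 this) (by decide)
  have fin : ∀ k, (∀ x y : Om 6 F, y.1 = dg F {k} * x.1 * dg F {k} → a 0 * θ x * a 0 = θ y) →
      ∃ k, (∀ x y : Om 6 F, y.1 = rr F k * x.1 * rr F k → a 0 * θ x * a 0 = θ y) ∧
      ∀ j, ∃ l, θ ⟨_, rr_mul_mem h2 j k⟩ * a 0 = a l := fun k hk => by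
    refine ⟨k, by rwa [← dg_single h2], fun j => ?_⟩
    obtain ⟨π, hπ, e⟩ := perm_pt k j
    have := cj {k} hk π hπ ⟨_, rr_mul_mem h2 j k⟩ (by
      rw [Finset.map_singleton, dg_single h2, dg_single h2]; exact e ▸ rfl)
    rw [← this]
    exact h.iso _ _ (this ▸ mul_mem (hE _ _ (rr_mul_eq h2 j k)) (mem_EE a 0))
  have c6 : I.card ≤ 6 := I.card_le_univ
  rcases (by omega : I.card % 2 = 0 ∨ I.card = 1 ∨ I.card = 3 ∨ I.card = 5) with c | c | c | c
  · let d : Om 6 F := ⟨_, dg_mem h2 (Nat.even_iff.2 c)⟩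
    have d2 : d * d = 1 := Subtype.ext (dg_sq I)
    have d3 : (θ d : Y) * θ d = 1 := by rw [← Subgroup.coe_mul, ← map_mul, d2, map_one]; rfl
    have : a 0 * θ d ∈ L := by
      refine (h.cen (a 0 * θ d) fun l hl => ?_).elim (fun e => e ▸ one_mem _) fun e => e ▸ six_mem h
      obtain ⟨x, hx⟩ := θ.surjective ⟨l, hl⟩
      have := hI (d * x * d) x (by
        simp only [Subgroup.coe_mul, d, ← mul_assoc]
        rw [dg_sq, one_mul, mul_assoc, dg_sq, mul_one])
      rw [map_mul, map_mul, hx, Subgroup.coe_mul, Subgroup.coe_mul] at this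
      show _ = _
      calc a 0 * θ d * l = a 0 * (θ d * l * θ d) * a 0 * (a 0 * θ d) := by
            rw [mul_assoc _ (a 0), ← mul_assoc (a 0) (a 0), h.lab.sq, one_mul]
            simp only [mul_assoc, d3, mul_one]
        _ = l * (a 0 * θ d) := by rw [this]
    exact absurd ((mul_mem_cancel_right (θ d).2).1 this) h.nmem
  · obtain ⟨k, rfl⟩ := Finset.card_eq_one.1 c
    exact fin k hI
  · obtain ⟨π, hπ, e⟩ := perm_compl I c
    have := cj I hI π hπ ⟨_, neg_mem h2 (by decide)⟩ (by rw [e, dg_compl, mul_assoc, dg_sq, mul_one])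
    rw [ng, (h.lab.comm 6 0).eq] at this
    exact absurd this (nc h _)
  · obtain ⟨k, hk⟩ := Finset.card_eq_one.1 (show Iᶜ.card = 1 by rw [Finset.card_compl, c]; rfl)
    refine fin k fun x y e => hI x y ?_
    rw [e, ← hk, dg_compl, ← OG.negOne_comm, mul_assoc (dg F I), ← OG.negOne_comm x.1, mul_assoc, mul_assoc,
      ← mul_assoc (OG.negOne _), OG.negOne_comm, ← mul_assoc (OG.negOne _), OG.negOne_mul_self, one_mul, mul_assoc]

end X5aA

theorem Lq.exists_std {L : Subgroup Y} (h : Lq a L) (hF : Q35 F) (θ₀ : Om 6 F ≃* L) : ∃ θ : Om 6 F →* Y,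
    Function.Injective θ ∧ θ.range = L ∧
    (∀ (i j : Fin 6) (x : Om 6 F), x.1 = rr F i * rr F j → θ x = a i.castSucc * a j.castSucc) ∧
    (∀ x : Om 6 F, x.1 = OG.negOne _ → θ x = a 6) ∧
    ∀ (i : Fin 6) (x y : Om 6 F), y.1 = rr F i * x.1 * rr F i → a i.castSucc * θ x * a i.castSucc = θ y := by
  have h2 := hF.two_ne
  obtain ⟨θ, hE⟩ := X5aA.step1 h hF θ₀
  obtain ⟨k, hk, hl⟩ := X5aA.step3 h hF θ hE
  choose l hl using hl
  have l6 : ∀ j, l j ≠ Fin.last 6 := fun j c => by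
    have := hl j
    rw [c] at this
    exact h.nmem ((mul_mem_cancel_left (θ _).2).1 (this ▸ X5aA.six_mem h))
  let ρ : Fin 6 → Fin 6 := fun j => (l j).castPred (l6 j)
  have hρ : ∀ j, θ ⟨_, rr_mul_mem h2 j k⟩ * a 0 = a (ρ j).castSucc := fun j => by rw [hl, Fin.castSucc_castPred]
  have ρi : Function.Injective ρ := fun i j e => by
    have e1 := (hρ i).trans (e ▸ (hρ j).symm)
    have e2 := mul_right_cancel (congrArg Subtype.val (θ.injective (Subtype.ext (mul_right_cancel e1))))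
    rw [← dg_single h2, ← dg_single h2] at e2
    exact Finset.singleton_injective (dg_inj h2 e2)
  let π : Equiv.Perm (Fin 6) := Equiv.ofBijective ρ (Finite.injective_iff_bijective.1 ρi)
  have rc : ∀ i j : Fin 6, rr F i * rr F j = rr F j * rr F i := fun i j => by
    rw [← dg_single h2, ← dg_single h2]; exact dg_comm _ _
  have rf : ∀ (i : Fin 6) (x y : Om 6 F), y.1 = rr F i * x.1 * rr F i →
      a (ρ i).castSucc * θ x * a (ρ i).castSucc = θ y := fun i x y e => by
    let u : Om 6 F := ⟨_, rr_mul_mem h2 i k⟩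
    have cu := (h.lab.EE_comm _ (mem_EE a 0) _ (hE u _ (X5aA.rr_mul_eq h2 i k))).eq
    have := hk (u * x * u) y (by
      simp only [Subgroup.coe_mul, u, e]
      nth_rewrite 1 [rc i k]
      simp only [← mul_assoc, orefl_mul_self, one_mul]
      rw [mul_assoc _ (rr F k), orefl_mul_self, mul_one])
    rw [← this, map_mul, map_mul, Subgroup.coe_mul, Subgroup.coe_mul]
    nth_rewrite 1 [← hρ, ← cu]
    rw [← hρ]
    simp only [mul_assoc, u]
  have lb : ∀ (i j : Fin 6) (x : Om 6 F), x.1 = rr F i * rr F j → θ x = a (ρ i).castSucc * a (ρ j).castSucc :=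
    fun i j x e => by
    have cu := (h.lab.EE_comm _ (mem_EE a 0) _ (hE ⟨_, rr_mul_mem h2 j k⟩ _
      (X5aA.rr_mul_eq h2 j k))).eq
    rw [← hρ, ← hρ, ← cu, mul_assoc, ← mul_assoc (a 0), h.lab.sq, one_mul, ← Subgroup.coe_mul, ← map_mul]
    congr 2
    refine Subtype.ext (e.trans ?_)
    show _ = rr F i * rr F k * (rr F j * rr F k)
    rw [rc j k, mul_assoc, ← mul_assoc (rr F k), orefl_mul_self, one_mul]
  let c : MulAut (Om 6 F) := MulAut.conjNormal (pm F π⁻¹)
  have cr : ∀ i, pm F π⁻¹ * rr F i * (pm F π⁻¹)⁻¹ = rr F (π⁻¹ i) := fun i => by rw [conj_orefl, pm_ee]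
  have πρ : ∀ i, ρ (π⁻¹ i) = i := fun i => π.apply_symm_apply i
  have lb' : ∀ (i j : Fin 6) (x : Om 6 F), x.1 = rr F i * rr F j → (θ (c x) : Y) = a i.castSucc * a j.castSucc :=
    fun i j x e => by
    rw [lb (π⁻¹ i) (π⁻¹ j) (c x) (by rw [← cr, ← cr, conj_mul, ← e]; rfl), πρ, πρ]
  refine ⟨L.subtype.comp (c.trans θ).toMonoidHom, L.subtype_injective.comp (c.trans θ).injective, ?_, lb', fun x e => ?_,
    fun i x y e => ?_⟩
  · rw [MonoidHom.range_comp, MonoidHom.range_eq_top.2 (c.trans θ).surjective, ← MonoidHom.range_eq_map,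
      Subgroup.range_subtype]
  · have : x = ⟨_, rr_mul_mem h2 0 1⟩ * ⟨_, rr_mul_mem h2 2 3⟩ * ⟨_, rr_mul_mem h2 4 5⟩ := Subtype.ext (by
      simp only [Subgroup.coe_mul, e, ← dg_single h2, dg_mul, ← dg_univ]
      rfl)
    rw [this, map_mul, map_mul, ← X5aA.prod_eq h.lab]
    exact congrArg₂ _ (congrArg₂ _ (lb' 0 1 _ rfl) (lb' 2 3 _ rfl)) (lb' 4 5 _ rfl)
  · have := rf (π⁻¹ i) (c x) (c y) (by
      rw [← cr, MulAut.conjNormal_apply, MulAut.conjNormal_apply, conj_mul, conj_mul, e])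
    rwa [πρ] at this

end Cfsg.Agent.O7
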