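import Mathlib
import Cfsg.Agent.O7.X5a
import Cfsg.Agent.O7.OB

/-! The centraliser as an extension of `H7`. -/

set_option autoImplicit false
set_option linter.unusedSectionVars false

namespace Cfsg.Agent.O7

open Subgroup Cfsg.Agent.Cl QuadraticMap Cfsg.Agent.GW
open scoped commutatorElement

universe u

variable {F : Type} [Field F] [Fintype F] {n : ℕ}

variable {Y : Type u} [Group Y] [Finite Y] {a : Fin 7 → Y}

namespace X5A

/-- `y` acts as the field automorphism `σ` followed by conjugation with `h`. -/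
def Act (θ : Om 6 F →* Y) (y : Y) (h : OG (Qn 6 F)) (σ : F ≃+* F) : Prop :=
  ∀ x x' : Om 6 F, x'.1 = h * fr σ x.1 * h⁻¹ → y * θ x * y⁻¹ = θ x'

theorem cj_mem (h : OG (Qn n F)) (σ : F ≃+* F) (x : Om n F) : h * fr σ x.1 * h⁻¹ ∈ Om n F :=
  (inferInstance : (Om n F).Normal).conj_mem _ ((fr_mem_Om σ).2 x.2) _

theorem cj_central {G : Type*} [Group G] {c g z : G} (h : g * z * g⁻¹ * c = c * (g * z * g⁻¹)) :
    c * g * z * (c * g)⁻¹ = g * z * g⁻¹ := by
  rw [eq_mul_inv_of_mul_eq h]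
  group

variable {θ : Om 6 F →* Y}

theorem Act.mul {y y' : Y} {h h' : OG (Qn 6 F)} {σ σ' : F ≃+* F} (p : Act θ y h σ) (q : Act θ y' h' σ') :
    Act θ (y * y') (h * fr σ h') (σ'.trans σ) := fun x x' e => by
  rw [← p ⟨_, cj_mem h' σ' x⟩ x' (by rw [e, ← fr_fr]; simp only [map_mul, map_inv]; group), ← q x ⟨_, cj_mem h' σ' x⟩ rfl]
  group

theorem fr_rr (σ : F ≃+* F) (i : Fin n) : fr σ (rr F i) = rr F i := by rw [fr_orefl, sv_ee]

/-- The elements acting in the required way. -/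
def BB (θ : Om 6 F →* Y) : Subgroup Y :=
  let M : Submonoid Y :=
    { carrier := {y | ∃ h σ, (h ∈ Om 6 F ∨ rr F 0 * h ∈ Om 6 F) ∧ Act θ y h σ}
      one_mem' := ⟨1, RingEquiv.refl F, .inl (one_mem _), fun x x' e => by
        rw [show x' = x from Subtype.ext (by rw [e, fr_refl]; group)]; group⟩
      mul_mem' := by
        rintro y y' ⟨h, σ, m, p⟩ ⟨h', σ', m', q⟩
        refine ⟨_, _, ?_, p.mul q⟩
        have N : (Om 6 F).Normal := inferInstance
        rw [← fr_mem_Om σ, ← fr_mem_Om σ (g := rr F 0 * h'), map_mul, fr_rr] at m'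
        rcases m with m | m <;> rcases m' with m' | m'
        · exact .inl (mul_mem m m')
        · refine .inr ?_
          convert mul_mem (N.conj_mem _ m (rr F 0)) m' using 1
          group
        · exact .inr (by rw [← mul_assoc]; exact mul_mem m m')
        · refine .inl ?_
          convert mul_mem (N.conj_mem _ m (rr F 0)⁻¹) m' using 1
          rw [inv_inv, mul_assoc, mul_assoc, ← mul_assoc (rr F 0) (rr F 0), orefl_mul_self]
          group }
  { M with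
    inv_mem' := fun {y} hy => (Submonoid.powers_le (P := M)).2 hy
      (mem_powers_iff_mem_zpowers.2 (inv_mem (mem_zpowers y))) }

theorem act_sq (hF : Q35 F) (hi : Function.Injective θ) (hn : θ.range.Normal) (y : Y) :
    ∃ h σ, Act θ (y * y) h σ := by
  let θ' := MonoidHom.ofInjective hi
  let φ : MulAut (Om 6 F) := (θ'.trans (MulAut.conjNormal y)).trans θ'.symm
  have hφ : ∀ x, θ (φ x) = y * θ x * y⁻¹ := fun x =>
    congrArg Subtype.val (θ'.apply_symm_apply (MulAut.conjNormal y (θ' x)))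
  obtain ⟨σ, g, c, hc, hg, e⟩ := aut56 hF (.inr rfl) φ
  have hσ : σ c ≠ 0 := by simpa using hc
  obtain ⟨s, hs⟩ : IsSquare (c * σ c) := by
    rw [← sqSign_eq_one_iff, sqSign_mul hc hσ, sqSign_map, Int.units_mul_self]
  have s0 : s ≠ 0 := fun k => mul_ne_zero hc hσ (by rw [hs, k, mul_zero])
  let h : OG (Qn 6 F) := OG.ofLinear (s⁻¹ • g.toLinearMap ∘ₗ frL σ g.toLinearMap)
    (s • frL σ g.symm.toLinearMap ∘ₗ g.symm.toLinearMap)
    (fun x => by simp [frL, smul_smul, s0]) (fun x => by simp [frL, smul_smul, s0]) fun x => by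
      show Qn 6 F (s⁻¹ • g (sv σ (g (sv σ.symm x)))) = _
      rw [QuadraticMap.map_smul, hg, Qn_sv, hg, Qn_sv, map_mul, RingEquiv.apply_symm_apply, ← mul_assoc c, hs,
        smul_eq_mul]
      field_simp
  have hh : ∀ v, h.1 v = s⁻¹ • g (sv σ (g (sv σ.symm v))) := fun _ => rfl
  refine ⟨h, σ.trans σ, fun x x' ex => ?_⟩
  have : φ (φ x) = x' := Subtype.ext (by
    rw [ex, ← fr_fr]
    refine eq_mul_inv_of_mul_eq (OG.ext fun v => ?_)
    rw [OG.mul_app, OG.mul_app, hh, hh, map_smul, e, fr_app, sv_symm, e, fr_app σ (fr σ x.1), sv_symm])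
  rw [← this, hφ, hφ]
  group

end X5A

theorem Lq.exists_o6 {L : Subgroup Y} (h : Lq a L) (hF : Q35 F) (θ₀ : Om 6 F ≃* L) : ∃ θ : Om 6 F →* Y, O6 a θ := by
  obtain ⟨θ, hi, hr, h1, h2, h3⟩ := h.exists_std hF θ₀
  refine ⟨θ, hF, hi, h1, h2, h3, hr ▸ h.nmem, fun c => ?_, fun y => ?_, fun y hy => h.cen y fun l hl => ?_⟩
  · obtain ⟨c, hc⟩ := isConj_iff.1 c
    exact X5aA.nc h c hc
  · have bL : L ≤ X5A.BB θ := by
      rw [← hr]
      rintro _ ⟨z, rfl⟩
      exact ⟨z, RingEquiv.refl F, .inl z.2, fun x x' e => by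
        rw [← map_inv, ← map_mul, ← map_mul]
        exact congrArg θ (Subtype.ext (by rw [e, fr_refl]; rfl))⟩
    have b0 : a 0 ∈ X5A.BB θ := ⟨rr F 0, RingEquiv.refl F, .inr (by rw [orefl_mul_self]; exact one_mem _), fun x x' e => by
      rw [inv_eq_of_mul_eq_one_right (h.lab.sq 0)]
      exact h3 0 x x' (by rw [e, fr_refl, inv_eq_of_mul_eq_one_right (orefl_mul_self _)])⟩
    have key : ∀ (y : Y) m, Odd m → y ^ m ∈ X5A.BB θ → y ∈ X5A.BB θ := fun y m ⟨k, hk⟩ hm => by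
      obtain ⟨g, σ, p⟩ := X5A.act_sq hF hi (hr ▸ h.nrm) y
      have h4 : y * y * (y * y) ∈ X5A.BB θ := ⟨_, _, .inl (mul_fr_mem hF.two_ne σ g), p.mul p⟩
      have h5 : y ^ 2 ∈ X5A.BB θ := by
        have := mul_mem (inv_mem (pow_mem h4 k)) (mul_mem hm hm)
        rwa [← pow_two, ← pow_two, ← pow_mul, ← pow_mul, ← pow_add, show m + m = 2 * (2 * k) + 2 by omega, pow_add,
          inv_mul_cancel_left] at this
      have := mul_mem (inv_mem (pow_mem h5 k)) hm
      rwa [← pow_mul, hk, pow_succ, inv_mul_cancel_left] at this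
    obtain ⟨m, hm, e | e⟩ := h.odd y
    · exact key y m hm (bL e)
    · exact (mul_mem_cancel_right b0).1 (key _ m hm (bL e))
  · rw [← hr] at hl
    obtain ⟨x, rfl⟩ := hl
    exact hy x

set_option maxHeartbeats 2000000 in
theorem O6.exists_oc {θ : Om 6 F →* Y} (h : O6 a θ) : ∃ ψ : OG (Qn 7 F) → Y, OC a ψ := by
  have h2 := h.card.two_ne
  obtain ⟨e, he⟩ := exists_emb (n := 6) (F := F)
  obtain ⟨t, ht⟩ : ∃ t : OG (Qn 7 F), t = tt (ee 0) := ⟨_, rfl⟩
  have t2 : t * t = 1 := ht ▸ tt_sq _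
  have a2 : a 0 * a 0 = 1 := (h.lab 0 0 1 (orefl_mul_self _).symm).symm.trans θ.map_one
  have te : t = OG.negOne _ * e (rr F 0) := by rw [he.rr, ht]; rfl
  have tH : t ∈ H7 F := ht ▸ tt_ee_mem_Hs h2 _ _
  have eH : ∀ x : Om 6 F, e x.1 ∈ H7 F := fun x => Fx_le_Hs _ ⟨(he.mem_Om h2).2 x.2, fun i hi => by
    rw [Finset.mem_singleton.1 hi]; exact he.last _⟩
  have fx : ∀ g ∈ Fx F {6}, ∃ x : Om 6 F, e x.1 = g := fun g hg => by
    obtain ⟨x, rfl⟩ := (he.mem_range h2).2 (hg.2 _ (Finset.mem_singleton_self _))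
    exact ⟨⟨x, (he.mem_Om h2).1 hg.1⟩, rfl⟩
  have cs : ∀ g ∈ H7 F, ∃ x : Om 6 F, g = e x.1 ∨ g = t * e x.1 := fun g hg => by
    rcases mem_H7 h2 hg with k | k <;> obtain ⟨x, hx⟩ := fx _ k
    · exact ⟨x, .inl hx.symm⟩
    · exact ⟨x, .inr (by rw [hx, ← ht, ← mul_assoc, t2, one_mul])⟩
  have ne : ∀ x y : Om 6 F, e y.1 ≠ t * e x.1 := fun x y c => by
    have := congrArg (fun g : OG (Qn 7 F) => g.1 (ee (Fin.last 6)) (Fin.last 6)) c
    simp only [OG.mul_app, he.last] at this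
    rw [ht, tt_ee_app h2, if_neg (by decide)] at this
    exact h2 (by simp only [Pi.single_eq_same] at this; linear_combination this)
  classical
  let ψ : OG (Qn 7 F) → Y := fun g => if k : ∃ x : Om 6 F, e x.1 = g then θ k.choose else
    if k : ∃ x : Om 6 F, e x.1 = t * g then a 0 * θ k.choose else 1
  have ψe : ∀ x : Om 6 F, ψ (e x.1) = θ x := fun x => by
    have k : ∃ y : Om 6 F, e y.1 = e x.1 := ⟨x, rfl⟩
    rw [show ψ (e x.1) = θ k.choose from dif_pos k, Subtype.ext (he.inj k.choose_spec)]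
  have ψt : ∀ x : Om 6 F, ψ (t * e x.1) = a 0 * θ x := fun x => by
    have k : ∃ y : Om 6 F, e y.1 = t * (t * e x.1) := ⟨x, by rw [← mul_assoc, t2, one_mul]⟩
    have k2 : k.choose = x := Subtype.ext (he.inj (by rw [k.choose_spec, ← mul_assoc, t2, one_mul]))
    rw [show ψ (t * e x.1) = a 0 * θ k.choose from (dif_neg fun ⟨y, c⟩ => ne x y c).trans (dif_pos k), k2]
  clear_value ψ
  let r : Om 6 F → Om 6 F := fun x => MulAut.conjNormal (rr F 0) x
  have hr : ∀ x, (r x).1 = rr F 0 * x.1 * rr F 0 := fun x => by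
    rw [MulAut.conjNormal_apply, inv_eq_of_mul_eq_one_right (orefl_mul_self _)]
  have r1 : ∀ x : Om 6 F, e x.1 * t = t * e (r x).1 := fun x => by
    rw [te, hr, mul_assoc, ← map_mul, ← mul_assoc, ← mul_assoc, ← mul_assoc, orefl_mul_self, one_mul, map_mul,
      OG.negOne_comm, mul_assoc]
  have r2 : ∀ x : Om 6 F, θ x * a 0 = a 0 * θ (r x) := fun x => by
    rw [← h.refl 0 x (r x) (hr x)]
    exact (by rw [← mul_assoc, ← mul_assoc, a2, one_mul] : a 0 * (a 0 * θ x * a 0) = _).symm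
  have ml : ∀ x ∈ H7 F, ∀ y ∈ H7 F, ψ (x * y) = ψ x * ψ y := fun x hx y hy => by
    obtain ⟨x, rfl | rfl⟩ := cs x hx <;> obtain ⟨y, rfl | rfl⟩ := cs y hy
    · rw [← map_mul, ← Subgroup.coe_mul, ψe, ψe, ψe, map_mul]
    · rw [← mul_assoc, r1, mul_assoc, ← map_mul, ← Subgroup.coe_mul, ψt, ψe, ψt, map_mul, ← mul_assoc, ← r2, mul_assoc]
    · rw [mul_assoc, ← map_mul, ← Subgroup.coe_mul, ψt, ψt, ψe, map_mul, mul_assoc]
    · rw [mul_assoc, ← mul_assoc (e _), r1, ← mul_assoc, ← mul_assoc, t2, one_mul, ← map_mul, ← Subgroup.coe_mul, ψe, ψt,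
        ψt, map_mul, mul_assoc, ← mul_assoc (θ x), r2, ← mul_assoc, ← mul_assoc, a2, one_mul]
  have ψ0 : ψ t = a 0 := by simpa using ψt 1
  have o1 : ψ 1 = 1 := by simpa using ψe 1
  have cj : ∀ x ∈ H7 F, ∀ y ∈ H7 F, ψ (x * y * x⁻¹) = ψ x * ψ y * (ψ x)⁻¹ := fun x hx y hy => by
    rw [eq_mul_inv_iff_mul_eq, ← ml _ (mul_mem (mul_mem hx hy) (inv_mem hx)) _ hx, inv_mul_cancel_right, ml _ hx _ hy]
  refine ⟨ψ, h.card, ml, fun x hx c => ?_, fun i => ?_, fun y _ => ?_, fun y hy => h.cen y fun x => ψe x ▸ hy _ (eH x)⟩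
  · obtain ⟨x, rfl | rfl⟩ := cs x hx
    · rw [ψe, map_eq_one_iff _ h.inj] at c
      rw [c]; exact e.map_one
    · rw [ψt] at c
      exact absurd ⟨x⁻¹, by rw [map_inv, eq_inv_of_mul_eq_one_left c]⟩ h.nmem
  · induction i using Fin.lastCases with
    | last => rw [← he.neg h2]; exact (ψe ⟨_, neg_mem h2 (by decide)⟩).trans (h.neg _ rfl)
    | cast j =>
      have : tt (ee j.castSucc) = t * e (⟨_, rr_mul_mem h2 0 j⟩ : Om 6 F).1 := by
        rw [map_mul, he.rr, he.rr, ← tt_mul_tt, ← mul_assoc, ht]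
        exact (by rw [tt_sq, one_mul] : tt (ee 0) * tt (ee 0) * tt (ee j.castSucc) = _).symm
      rw [this, ψt, h.lab 0 j _ rfl, ← mul_assoc]
      exact (congrArg (· * _) a2).trans (one_mul _)
  · obtain ⟨g, σ, m, p⟩ := h.act y
    obtain ⟨g', m', q⟩ : ∃ g' ∈ H7 F, ∀ z, g' * z * g'⁻¹ = e g * z * (e g)⁻¹ := by
      rcases m with m | m
      · exact ⟨_, eH ⟨g, m⟩, fun _ => rfl⟩
      · refine ⟨t * e (rr F 0 * g), mul_mem tH (eH ⟨_, m⟩), fun z => ?_⟩
        have k : t * e (rr F 0 * g) = OG.negOne _ * e g := by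
          have : rr F 0 * (rr F 0 * g) = g := by rw [← mul_assoc, orefl_mul_self, one_mul]
          rw [te, mul_assoc, ← e.map_mul (rr F 0) (rr F 0 * g), this]
        rw [k]
        exact X5A.cj_central (OG.negOne_comm _)
    have p1 : ∀ x : Om 6 F, y * ψ (e x.1) * y⁻¹ = ψ (g' * fr σ (e x.1) * g'⁻¹) := fun x => by
      rw [ψe, p x ⟨_, X5A.cj_mem g σ x⟩ rfl, q, ← he.fr, ← map_inv, ← map_mul, ← map_mul, ← ψe]
    let f : Om 6 F → Om 6 F := fun x => ⟨_, (fr_mem_Om σ).2 x.2⟩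
    obtain ⟨u, hu⟩ : ∃ u, y = ψ g' * u := ⟨(ψ g')⁻¹ * y, by group⟩
    have p2 : ∀ x : Om 6 F, u * θ x * u⁻¹ = θ (f x) := fun x => by
      have := p1 x
      rw [← he.fr, cj _ m' _ (eH (f x)), ψe, ψe (f x), hu] at this
      rw [← mul_left_inj (ψ g')⁻¹, ← mul_right_inj (ψ g'), ← mul_assoc _ (θ (f x)), ← this]
      group
    have p3 : u * a 0 * u⁻¹ = a 0 := by
      have := h.cen (a 0 * (u * a 0 * u⁻¹)) fun x => by
        obtain ⟨x, rfl⟩ : ∃ x', f x' = x := ⟨⟨_, (fr_mem_Om σ.symm).2 x.2⟩, Subtype.ext (by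
          show fr σ (fr σ.symm x.1) = x.1
          rw [fr_fr, RingEquiv.symm_trans_self, fr_refl])⟩
        have k : f (r x) = r (f x) := Subtype.ext (by
          show fr σ (r x).1 = _
          rw [hr, hr, map_mul, map_mul, X5A.fr_rr])
        have k1 := r2 (f x)
        rw [← k, ← p2 (r x)] at k1
        show _ = _
        rw [← mul_assoc (θ _), k1, ← p2, mul_assoc (a 0), mul_assoc (a 0), conj_mul, conj_mul]
        rw [← mul_right_inj (a 0), ← mul_assoc (a 0) (a 0)] at k1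
        congr 3
        rw [← mul_right_inj (a 0), ← mul_assoc, ← mul_assoc, ← r2, a2, mul_assoc, a2, one_mul, mul_one]
      rcases this with k | k
      · exact (eq_inv_of_mul_eq_one_right k).trans (inv_eq_of_mul_eq_one_right a2)
      · exact absurd (isConj_iff.2 ⟨u, by rw [← k, ← mul_assoc, a2, one_mul]⟩) h.nc
    have ft : fr σ t = t := by rw [ht, fr_tt, sv_ee]
    refine ⟨g', m', σ, fun x hx => ?_⟩
    obtain ⟨x, rfl | rfl⟩ := cs x hx
    · exact p1 x
    · have m2 := (fr_mem_Hs σ).2 (eH x)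
      rw [map_mul, ft, ← conj_mul, ml _ (mul_mem (mul_mem m' tH) (inv_mem m')) _ (mul_mem (mul_mem m' m2) (inv_mem m')),
        ← p1, cj _ m' _ tH, ml _ tH _ (eH x), ψ0, ← conj_mul]
      congr 1
      nth_rewrite 2 [← p3]
      rw [hu]
      group

/-- Lifting along an isomorphism from the centraliser. -/
theorem OC.lift {G : Type u} [Group G] [Finite G] {b : Fin 7 → G} (hb : Lab b) {π : G → Y} (q : P4.Quo (b 6) π)
    (hU : UU (b 6) = ⊥) {ψ : OG (Qn 7 F) → Y} (h : OC (π ∘ b) ψ) : ∃ ψ' : OG (Qn 7 F) → G, OC b ψ' := by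
  let E : Cen (b 6) ≃* Y := MulEquiv.ofBijective q.hom
    ⟨(MonoidHom.ker_eq_bot_iff _).1 (by rw [q.hom_ker, hU, bot_subgroupOf]), q.hom_surj⟩
  have hE : ∀ y (hy : Commute y (b 6)), (E.symm (π y) : G) = y := fun y hy =>
    congrArg Subtype.val (E.symm_apply_apply ⟨y, mem_Cen.2 hy.symm⟩)
  have lb : ∀ i, (E.symm (ψ (tt (ee i))) : G) = b i := fun i => by rw [h.lab]; exact hE _ (hb.comm _ _)
  refine ⟨fun x => E.symm (ψ x), h.card, fun x hx y hy => by rw [h.mul x hx y hy, map_mul]; rfl,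
    fun x hx c => h.inj x hx (E.symm.map_eq_one_iff.1 (Subtype.ext c)), lb, fun y hy => ?_, fun y hy => ?_⟩
  · obtain ⟨g, m, σ, p⟩ := h.act (π y) (q.comm hy (Commute.refl _) hy)
    refine ⟨g, m, σ, fun x hx => ?_⟩
    rw [← p x hx, map_mul, map_mul, map_inv, Subgroup.coe_mul, Subgroup.coe_mul, Subgroup.coe_inv, hE y hy]
  · have c : Commute y (b 6) := lb 6 ▸ hy _ (tt_ee_mem_Hs h.card.two_ne _ _)
    rcases h.cen (π y) fun x hx => E.symm.injective (Subtype.ext (by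
      rw [map_mul, map_mul, Subgroup.coe_mul, Subgroup.coe_mul, hE y c]; exact hy x hx)) with k | k
    · exact .inl (by rw [← hE y c, k, map_one]; rfl)
    · exact .inr (by rw [← hE y c, k]; exact hE _ (Commute.refl _))

end Cfsg.Agent.O7
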